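import Mathlib
import Cfsg.Agent.Lib.Coprime.Action

/-!
# Averaging a unipotent element over a normalised group of coprime order

If `u` has order dividing `p`, normalises a group `N` of order prime to `p`, and acts in a representation with
`(u - 1) ^ k = 0` for some `k < p`, then `N` is trivial in that representation as soon as the fixed points of `u`
in `N` are normal and trivial in it. For matrices this says that `(u - 1) ^ 3 = 0` and `7 ≤ p` force `u` to centralise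
every `p'`-group that it normalises.
-/

set_option autoImplicit false
set_option linter.all false

namespace CfsgLib.Perm.Trans.TensorSquare

open scoped Matrix
open Matrix

section Average

variable {G : Type*} [Group G] [Finite G] {A : Type*} [Ring A] {p : ℕ} [Fact p.Prime]

/-- the averaging argument -/
theorem rep_eq_one_of_unip (F : Type*) [Field F] [Algebra F A] [CharP F p] (Φ : G →* A) (u : G) (N C : Subgroup G) (hu : ∀ n ∈ N, u * n * u⁻¹ ∈ N)
    (hup : u ^ p = 1) (hN : ¬ p ∣ Nat.card N) (hC : ∀ c, c ∈ C ↔ c ∈ N ∧ u * c = c * u)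
    (hCn : ∀ n ∈ N, ∀ c ∈ C, n * c * n⁻¹ ∈ C) (hΦC : ∀ c ∈ C, Φ c = 1) {k : ℕ} (hk : k < p)
    (hpoly : (Φ u - 1) ^ k = 0) : ∀ n ∈ N, Φ n = 1 := by
  classical
  haveI : Fintype N := Fintype.ofFinite N
  haveI : NeZero p := ⟨(Fact.out : p.Prime).ne_zero⟩
  obtain ⟨S, hS⟩ : ∃ S, S = ∑ n : N, Φ n.1 := ⟨_, rfl⟩
  have hupow : ∀ (j : ℕ), ∀ n ∈ N, u ^ j * n * (u ^ j)⁻¹ ∈ N := by
    intro j
    induction j with
    | zero => intro n hn; simpa using hn
    | succ j ih =>
      intro n hn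
      rw [show u ^ (j + 1) * n * (u ^ (j + 1))⁻¹ = u ^ j * (u * n * u⁻¹) * (u ^ j)⁻¹ by rw [pow_succ]; group]
      exact ih _ (hu n hn)
  -- the twisted sums
  have key : ∀ j : ℕ, 0 < j → j < p → ∑ t : N, Φ (t.1 * u ^ j * t.1⁻¹ * (u ^ j)⁻¹) = S := by
    intro j hj hjp
    obtain ⟨v, hv⟩ : ∃ v, v = u ^ j := ⟨_, rfl⟩
    rw [← hv]
    have hvN : ∀ n ∈ N, v * n * v⁻¹ ∈ N := hv ▸ hupow j
    have hvp : v ^ p = 1 := by rw [hv, ← pow_mul, mul_comm, pow_mul, hup, one_pow]
    have hcv : ∀ c ∈ C, v * c = c * v := fun c hc => hv ▸ ((Commute.pow_left ((hC c).1 hc).2) j).eq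
    have hvu : ∀ n, v * n = n * v → u * n = n * u := by
      intro n hn
      obtain ⟨i, -, hi⟩ := Nat.exists_mul_mod_eq_one_of_coprime
        ((Fact.out : p.Prime).coprime_iff_not_dvd.2 (Nat.not_dvd_of_pos_of_lt hj hjp)).symm
        (Fact.out : p.Prime).one_lt
      have h1 : u = v ^ i := by
        rw [hv, ← pow_mul, ← Nat.div_add_mod (j * i) p, hi, pow_add, pow_mul, hup, one_pow, one_mul, pow_one]
      rw [h1]
      exact ((show Commute v n from hn).pow_left i).eq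
    let C' : Subgroup N := C.subgroupOf N
    let ψ : N → N := fun t => ⟨t.1 * v * t.1⁻¹ * v⁻¹, by
      rw [show t.1 * v * t.1⁻¹ * v⁻¹ = t.1 * (v * t.1⁻¹ * v⁻¹) by group]
      exact mul_mem t.2 (hvN _ (inv_mem t.2))⟩
    have hCC : ∀ t s : N, (QuotientGroup.mk t : N ⧸ C') = QuotientGroup.mk s ↔ t.1⁻¹ * s.1 ∈ C := fun t s => by
      rw [QuotientGroup.eq]; rfl
    have hwd : ∀ t s : N, (QuotientGroup.mk t : N ⧸ C') = QuotientGroup.mk s → ψ t = ψ s := by
      intro t s h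
      obtain ⟨c, hc, hcs⟩ : ∃ c ∈ C, s.1 = t.1 * c := ⟨_, (hCC t s).1 h, by group⟩
      refine Subtype.ext ?_
      show t.1 * v * t.1⁻¹ * v⁻¹ = s.1 * v * s.1⁻¹ * v⁻¹
      rw [hcs, _root_.mul_inv_rev, show t.1 * c * v * (c⁻¹ * t.1⁻¹) = t.1 * (c * v) * c⁻¹ * t.1⁻¹ by group, ← hcv c hc]
      group
    let β : N ⧸ C' → N ⧸ C' := fun x => QuotientGroup.mk (ψ x.out)
    have hβ : ∀ t, β (QuotientGroup.mk t) = QuotientGroup.mk (ψ t) := fun t =>
      congrArg QuotientGroup.mk (hwd _ _ (Quotient.out_eq _))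
    have hinj : Function.Injective β := by
      intro x y h
      induction x using QuotientGroup.induction_on with
      | H t =>
      induction y using QuotientGroup.induction_on with
      | H s =>
      rw [hβ, hβ, hCC] at h
      obtain ⟨c, hc, hcs⟩ : ∃ c ∈ C, (ψ s).1 = (ψ t).1 * c := ⟨_, h, by group⟩
      change s.1 * v * s.1⁻¹ * v⁻¹ = t.1 * v * t.1⁻¹ * v⁻¹ * c at hcs
      obtain ⟨a, ha⟩ : ∃ a, a = t.1⁻¹ * s.1 := ⟨_, rfl⟩
      obtain ⟨c', hc'⟩ : ∃ c', c' = t.1⁻¹ * c * t.1 := ⟨_, rfl⟩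
      have haN : a ∈ N := ha ▸ mul_mem (inv_mem t.2) s.2
      have hc'C : c' ∈ C := by
        have := hCn _ (inv_mem t.2) c hc
        rwa [inv_inv, ← hc'] at this
      have h2 : v * c' = c' * v := hcv c' hc'C
      have h3 : s.1 * v * s.1⁻¹ = t.1 * v * t.1⁻¹ * c := by
        have h3 := congrArg (· * v) hcs
        simp only [inv_mul_cancel_right] at h3
        rw [h3, mul_assoc (t.1 * v * t.1⁻¹ * v⁻¹), ← hcv c hc]
        group
      have h4 : a * v * a⁻¹ = v * c' := by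
        rw [ha, hc', show t.1⁻¹ * s.1 * v * (t.1⁻¹ * s.1)⁻¹ = t.1⁻¹ * (s.1 * v * s.1⁻¹) * t.1 by group, h3]
        group
      have h5 : c' ^ p = 1 := by
        have e := conj_pow (i := p) (a := a) (b := v)
        rw [h4, (show Commute v c' from h2).mul_pow, hvp, one_mul, mul_one, mul_inv_cancel] at e
        exact e
      have h6 : c' = 1 := by
        by_contra hne
        have hd : orderOf c' ∣ Nat.card N := by
          have := orderOf_dvd_natCard (⟨c', ((hC c').1 hc'C).1⟩ : N)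
          rwa [← Subgroup.orderOf_coe] at this
        rw [orderOf_eq_prime h5 hne] at hd
        exact hN hd
      rw [h6, mul_one] at h4
      rw [hCC, ← ha]
      exact (hC a).2 ⟨haN, hvu a (mul_inv_eq_iff_eq_mul.1 h4).symm⟩
    let Eq' : N ≃ (N ⧸ C') × C' := Subgroup.groupEquivQuotientProdSubgroup
    let π : N ≃ N := Eq'.trans ((Equiv.prodCongr (Equiv.ofBijective β (Finite.injective_iff_bijective.1 hinj))
      (Equiv.refl _)).trans Eq'.symm)
    have hE : ∀ t, (Eq' t).1 = QuotientGroup.mk t := fun t => rfl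
    have hπ : ∀ t, (QuotientGroup.mk (π t) : N ⧸ C') = QuotientGroup.mk (ψ t) := fun t => by
      rw [← hE, Equiv.trans_apply, Equiv.trans_apply, Equiv.apply_symm_apply, ← hβ, ← hE]
      rfl
    have hΦ : ∀ t, Φ (π t).1 = Φ (ψ t).1 := fun t => by
      obtain ⟨c, hc, hcs⟩ : ∃ c ∈ C, (ψ t).1 = (π t).1 * c := ⟨_, (hCC _ _).1 (hπ t), by group⟩
      rw [hcs, map_mul, hΦC c hc, mul_one]
    rw [hS, ← Equiv.sum_comp π fun n => Φ n.1]
    exact Finset.sum_congr rfl fun t _ => (hΦ t).symm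
  -- summing the polynomial over the conjugates
  obtain ⟨coef, hcoef⟩ : ∃ coef : ℕ → A, coef = fun j => (-1) ^ (k - j) * (k.choose j : A) := ⟨_, rfl⟩
  have hexp : ∀ x : A, (x - 1) ^ k = ∑ j ∈ Finset.range (k + 1), x ^ j * coef j := fun x => by
    rw [sub_eq_add_neg, (Commute.neg_one_right x).add_pow, hcoef]
    exact Finset.sum_congr rfl fun j _ => by rw [mul_assoc]
  have hterm : ∀ j ∈ Finset.range k, (∑ t : N, Φ (t.1 * u ^ (j + 1) * t.1⁻¹)) = S * Φ u ^ (j + 1) := by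
    intro j hj
    have hjp : j + 1 < p := by have := Finset.mem_range.1 hj; omega
    rw [← key (j + 1) (Nat.succ_pos j) hjp, Finset.sum_mul]
    refine Finset.sum_congr rfl fun t _ => ?_
    rw [← map_pow, ← map_mul, inv_mul_cancel_right]
  have hzero : ∀ t : N, ∑ j ∈ Finset.range (k + 1), Φ (t.1 * u ^ j * t.1⁻¹) * coef j = 0 := fun t => by
    have hc : ∀ j, Φ (t.1 * u ^ j * t.1⁻¹) = Φ (t.1 * u * t.1⁻¹) ^ j := fun j => by rw [← map_pow, conj_pow]
    simp only [hc, ← hexp]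
    have h1 : Φ (t.1 * u * t.1⁻¹) - 1 = Φ t.1 * (Φ u - 1) * Φ t.1⁻¹ := by
      rw [mul_sub, sub_mul, mul_one, ← map_mul, ← map_mul, ← map_mul, mul_inv_cancel, map_one]
    rw [h1]
    have h2 : ∀ i : ℕ, (Φ t.1 * (Φ u - 1) * Φ t.1⁻¹) ^ i = Φ t.1 * (Φ u - 1) ^ i * Φ t.1⁻¹ := by
      intro i
      induction i with
      | zero => rw [pow_zero, pow_zero, mul_one, ← map_mul, mul_inv_cancel, map_one]
      | succ i ih =>
        rw [pow_succ, ih, pow_succ]
        simp only [mul_assoc]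
        rw [← mul_assoc (Φ t.1⁻¹) (Φ t.1), ← map_mul, inv_mul_cancel, map_one, one_mul]
    rw [h2, hpoly, mul_zero, zero_mul]
  have hsum : ∑ j ∈ Finset.range (k + 1), (∑ t : N, Φ (t.1 * u ^ j * t.1⁻¹)) * coef j = 0 := by
    simp only [Finset.sum_mul]
    rw [Finset.sum_comm]
    exact Finset.sum_eq_zero fun t _ => hzero t
  have hu0 : ∑ j ∈ Finset.range (k + 1), Φ u ^ j * coef j = 0 := by rw [← hexp, hpoly]
  rw [Finset.sum_range_succ'] at hsum hu0
  simp only [pow_zero, one_mul, mul_one, mul_inv_cancel, map_one] at hsum hu0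
  rw [Finset.sum_congr rfl (fun j hj => by rw [hterm j hj, mul_assoc]), ← Finset.mul_sum,
    eq_neg_of_add_eq_zero_left hu0] at hsum
  have hcard : (∑ t : N, (1 : A)) = (Fintype.card N : A) := by simp
  rw [hcard, mul_neg, neg_add_eq_sub, ← sub_mul] at hsum
  have hunit : IsUnit (coef 0) := by
    rw [hcoef]
    simpa using (isUnit_one.neg (α := A)).pow k
  have hSc : (Fintype.card N : A) = S := sub_eq_zero.1 (hunit.mul_left_eq_zero.1 hsum)
  intro n hn
  have hmul : Φ n * S = S := by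
    rw [hS, Finset.mul_sum]
    exact Fintype.sum_equiv (Equiv.mulLeft (⟨n, hn⟩ : N)) _ _ fun t => (map_mul Φ n t.1).symm
  rw [← hSc, ← map_natCast (algebraMap F A), ← Algebra.commutes, ← Algebra.smul_def] at hmul
  have h0 : (Fintype.card N : F) ≠ 0 := fun h => hN (by
    rw [Nat.card_eq_fintype_card]; exact (CharP.cast_eq_zero_iff F p _).1 h)
  rw [Algebra.algebraMap_eq_smul_one] at hmul
  exact smul_right_injective A h0 hmul

end Average

section Linear

variable {κ : Type} [Fintype κ] [DecidableEq κ] {F : Type*} [Field F]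

/-- conjugation by a unipotent element of class three has class five -/
theorem conjMap_unip (u : GL κ F) (h3 : ((u : Matrix κ κ F) - 1) ^ 3 = 0) :
    (LinearMap.mulLeft F (u : Matrix κ κ F) * LinearMap.mulRight F ((u⁻¹ : GL κ F) : Matrix κ κ F) - 1) ^ 5 = 0 := by
  obtain ⟨L, hL⟩ : ∃ L, L = LinearMap.mulLeft F (u : Matrix κ κ F) := ⟨_, rfl⟩
  obtain ⟨R, hR⟩ : ∃ R, R = LinearMap.mulRight F ((u⁻¹ : GL κ F) : Matrix κ κ F) := ⟨_, rfl⟩
  rw [← hL, ← hR]
  have hLR : Commute L R := by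
    rw [hL, hR]
    exact LinearMap.commute_mulLeft_right _ _
  have hL3 : (L - 1) ^ 3 = 0 := by
    rw [hL, show LinearMap.mulLeft F (u : Matrix κ κ F) - 1 = LinearMap.mulLeft F ((u : Matrix κ κ F) - 1) from
      LinearMap.ext fun X => by simp [sub_mul], LinearMap.pow_mulLeft, h3, LinearMap.mulLeft_zero_eq_zero]
  have hi : (((u⁻¹ : GL κ F) : Matrix κ κ F) - 1) ^ 3 = 0 := by
    have hc : Commute ((u : Matrix κ κ F) - 1) (((u⁻¹ : GL κ F) : Matrix κ κ F)) :=
      (Units.commute_coe_inv u).sub_left (Commute.one_left _)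
    have he : ((u⁻¹ : GL κ F) : Matrix κ κ F) - 1 = -(((u : Matrix κ κ F) - 1) * ((u⁻¹ : GL κ F) : Matrix κ κ F)) := by
      rw [sub_mul, one_mul, Units.mul_inv, neg_sub]
    rw [he, neg_pow, hc.mul_pow, h3, zero_mul, mul_zero]
  have hR3 : (R - 1) ^ 3 = 0 := by
    rw [hR, show LinearMap.mulRight F ((u⁻¹ : GL κ F) : Matrix κ κ F) - 1 =
      LinearMap.mulRight F (((u⁻¹ : GL κ F) : Matrix κ κ F) - 1) from
      LinearMap.ext fun X => by simp [mul_sub], LinearMap.pow_mulRight, hi, LinearMap.mulRight_zero_eq_zero]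
  have he : L * R - 1 = (L - 1) * R + (R - 1) := by rw [sub_mul, one_mul]; abel
  rw [he]
  have hc1 : Commute (L - 1) R := hLR.sub_left (Commute.one_left R)
  have hc2 : Commute ((L - 1) * R) (R - 1) :=
    (hc1.sub_right (Commute.one_right _)).mul_left ((Commute.refl R).sub_right (Commute.one_right R))
  exact hc2.add_pow_eq_zero_of_add_le_succ_of_pow_eq_zero (m := 3) (n := 3)
    (by rw [hc1.mul_pow, hL3, zero_mul]) hR3 le_rfl

/-- conjugation on an invariant subspace of matrices -/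
def conjHom {G : Subgroup (GL κ F)} (V : Submodule F (Matrix κ κ F))
    (hV : ∀ g ∈ G, ∀ X ∈ V, (g : Matrix κ κ F) * X * ((g⁻¹ : GL κ F) : Matrix κ κ F) ∈ V) :
    G →* Module.End F V where
  toFun g := (LinearMap.mulLeft F (g.1 : Matrix κ κ F) * LinearMap.mulRight F ((g.1⁻¹ : GL κ F) : Matrix κ κ F)).restrict
    (p := V) (q := V) fun X hX => by
      show (g.1 : Matrix κ κ F) * (X * ((g.1⁻¹ : GL κ F) : Matrix κ κ F)) ∈ V
      rw [← mul_assoc]
      exact hV g.1 g.2 X hX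
  map_one' := LinearMap.ext fun X => Subtype.ext (by
    show ((1 : GL κ F) : Matrix κ κ F) * (X.1 * (((1 : GL κ F)⁻¹ : GL κ F) : Matrix κ κ F)) = X.1
    simp)
  map_mul' g h := LinearMap.ext fun X => Subtype.ext (by
    show ((g.1 * h.1 : GL κ F) : Matrix κ κ F) * (X.1 * (((g.1 * h.1)⁻¹ : GL κ F) : Matrix κ κ F)) =
      (g.1 : Matrix κ κ F) * ((h.1 : Matrix κ κ F) * (X.1 * ((h.1⁻¹ : GL κ F) : Matrix κ κ F)) *
        ((g.1⁻¹ : GL κ F) : Matrix κ κ F))
    simp only [_root_.mul_inv_rev, Units.val_mul, mul_assoc])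

theorem conjHom_apply {G : Subgroup (GL κ F)} {V : Submodule F (Matrix κ κ F)}
    {hV : ∀ g ∈ G, ∀ X ∈ V, (g : Matrix κ κ F) * X * ((g⁻¹ : GL κ F) : Matrix κ κ F) ∈ V} (g : G) (X : V) :
    ((conjHom V hV g X : V) : Matrix κ κ F) = (g.1 : Matrix κ κ F) * X.1 * ((g.1⁻¹ : GL κ F) : Matrix κ κ F) :=
  (mul_assoc _ _ _).symm

variable [Finite F] {p : ℕ} [Fact p.Prime] [CharP F p]

/-- a `p'`-group acting faithfully with `(u - 1) ^ k = 0`, `k < p`, and `u` fixed-point-free is trivial -/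
theorem eq_one_of_unip_fpf (u : GL κ F) (N : Subgroup (GL κ F)) (hu : ∀ n ∈ N, u * n * u⁻¹ ∈ N)
    (hup : u ^ p = 1) (hN : ¬ p ∣ Nat.card N) (hfix : ∀ n ∈ N, u * n = n * u → n = 1) {k : ℕ} (hk : k < p)
    (hpoly : ((u : Matrix κ κ F) - 1) ^ k = 0) : ∀ n ∈ N, n = 1 := by
  intro n hn
  exact Units.ext (rep_eq_one_of_unip F (Units.coeHom (Matrix κ κ F)) u N ⊥ hu hup hN
    (fun c => ⟨fun h => by rw [Subgroup.mem_bot.1 h]; exact ⟨one_mem _, by simp⟩,
      fun h => Subgroup.mem_bot.2 (hfix c h.1 h.2)⟩)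
    (fun n _ c hc => by rw [Subgroup.mem_bot.1 hc]; simp) (fun c hc => by rw [Subgroup.mem_bot.1 hc]; simp) hk hpoly
    n hn)

/-- in characteristic at least seven `u` with `(u - 1) ^ 3 = 0` centralises the nilpotent `p'`-groups it normalises -/
theorem comm_of_unip_seven (hp : 7 ≤ p) (u : GL κ F) (S : Subgroup (GL κ F)) (hS : Group.IsNilpotent S)
    (hu : ∀ n ∈ S, u * n * u⁻¹ ∈ S) (hup : u ^ p = 1) (hSp : ¬ p ∣ Nat.card S)
    (h3 : ((u : Matrix κ κ F) - 1) ^ 3 = 0) : ∀ n ∈ S, u * n = n * u := by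
  classical
  obtain ⟨C, hC⟩ : ∃ C : Subgroup (GL κ F), C = S ⊓ Subgroup.centralizer {u} := ⟨_, rfl⟩
  have memC : ∀ c, c ∈ C ↔ c ∈ S ∧ u * c = c * u := fun c => by
    rw [hC, Subgroup.mem_inf, Subgroup.mem_centralizer_singleton_iff]
    exact ⟨fun h => ⟨h.1, h.2.symm⟩, fun h => ⟨h.1, h.2.symm⟩⟩
  by_cases htop : C.subgroupOf S = ⊤
  · intro n hn
    exact ((memC n).1 (Subgroup.subgroupOf_eq_top.1 htop hn)).2
  exfalso
  haveI := hS
  obtain ⟨k, hkn, hkC⟩ := SetLike.exists_of_lt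
    (Group.normalizerCondition_of_isNilpotent (C.subgroupOf S) (lt_top_iff_ne_top.2 htop))
  let V : Submodule F (Matrix κ κ F) :=
    { carrier := {X | ∀ c ∈ C, (c : Matrix κ κ F) * X = X * (c : Matrix κ κ F)}
      zero_mem' := fun c _ => by simp
      add_mem' := fun {X Y} hX hY c hc => by rw [mul_add, add_mul, hX c hc, hY c hc]
      smul_mem' := fun t X hX c hc => by rw [Matrix.mul_smul, Matrix.smul_mul, hX c hc] }
  let G : Subgroup (GL κ F) := Subgroup.normalizer (C : Set (GL κ F))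
  have hV : ∀ g ∈ G, ∀ X ∈ V, (g : Matrix κ κ F) * X * ((g⁻¹ : GL κ F) : Matrix κ κ F) ∈ V := by
    intro g hg X hX c hc
    have hc' : g⁻¹ * c * g ∈ C := (Subgroup.mem_normalizer_iff''.1 hg c).1 hc
    have h := hX _ hc'
    simp only [Units.val_mul] at h
    have h' := congrArg (fun Y => (g : Matrix κ κ F) * Y * ((g⁻¹ : GL κ F) : Matrix κ κ F)) h
    simp only [mul_assoc, Units.mul_inv_cancel_left, Units.mul_inv, mul_one] at h'
    simpa only [mul_assoc] using h'
  let Φ : G →* Module.End F V := conjHom V hV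
  have huC : ∀ c ∈ C, u * c * u⁻¹ = c := fun c hc => by rw [((memC c).1 hc).2, mul_inv_cancel_right]
  have huG : u ∈ G := Subgroup.mem_normalizer_iff.2 fun c => ⟨fun hc => by rw [huC c hc]; exact hc, fun hc => by
    have h := huC _ hc
    rw [show u * (u * c * u⁻¹) * u⁻¹ = u * c * u⁻¹ ↔ u * c * u⁻¹ = c from ⟨fun h => by
      exact mul_left_cancel (mul_right_cancel h), fun h => by rw [h, h]⟩] at h
    rwa [h] at hc⟩
  have huV : (u : Matrix κ κ F) ∈ V := fun c hc => by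
    rw [← Units.val_mul, ← Units.val_mul, ((memC c).1 hc).2]
  let N : Subgroup G := S.subgroupOf G
  have hpoly : (Φ ⟨u, huG⟩ - 1) ^ 5 = 0 := LinearMap.ext fun X => Subtype.ext (by
    have hm : ∀ (m : ℕ) (X : V), ((((Φ ⟨u, huG⟩ - 1) ^ m) X : V) : Matrix κ κ F) =
        ((LinearMap.mulLeft F (u : Matrix κ κ F) * LinearMap.mulRight F ((u⁻¹ : GL κ F) : Matrix κ κ F) - 1) ^ m)
          X.1 := by
      intro m
      induction m with
      | zero => intro X; rfl
      | succ m ih =>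
        intro X
        rw [pow_succ', pow_succ', Module.End.mul_apply, Module.End.mul_apply, ← ih]
        rfl
    rw [hm, conjMap_unip u h3]
    rfl)
  have hNp : ¬ p ∣ Nat.card N := fun h => hSp (h.trans (Subgroup.card_dvd_of_injective (⟨⟨fun x : N => (⟨x.1.1, x.2⟩ : S), rfl⟩, fun _ _ => rfl⟩ : N →* S) (fun x y h => Subtype.ext (Subtype.ext (congrArg (fun z : S => z.1) h)))))
  have hkG : k.1 ∈ G := by
    refine Subgroup.mem_normalizer_iff.2 fun c => ⟨fun hc => ?_, fun hc => ?_⟩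
    · exact (Subgroup.mem_normalizer_iff.1 hkn ⟨c, ((memC c).1 hc).1⟩).1 hc
    · have hcS : c ∈ S := by
        have := mul_mem (mul_mem (inv_mem k.2) ((memC _).1 hc).1) k.2
        rwa [show k.1⁻¹ * (k.1 * c * k.1⁻¹) * k.1 = c by group] at this
      exact (Subgroup.mem_normalizer_iff.1 hkn ⟨c, hcS⟩).2 hc
  have hkN : (⟨k.1, hkG⟩ : G) ∈ N := k.2
  have h1 := rep_eq_one_of_unip (A := Module.End F V) F Φ ⟨u, huG⟩ N (C.subgroupOf G)
    (fun n hn => hu n.1 hn) (Subtype.ext hup) hNp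
    (fun c => by
      show c.1 ∈ C ↔ c.1 ∈ S ∧ _
      rw [memC, Subtype.ext_iff]; rfl)
    (fun n _ c hc => (Subgroup.mem_normalizer_iff.1 n.2 c.1).1 hc)
    (fun c hc => LinearMap.ext fun X => Subtype.ext (by
      rw [conjHom_apply, X.2 c.1 hc, mul_assoc, Units.mul_inv, mul_one]
      rfl)) (by omega : 5 < p) hpoly _ hkN
  have h2 := congrArg Subtype.val (LinearMap.congr_fun h1 ⟨_, huV⟩)
  rw [conjHom_apply] at h2
  refine hkC ((memC k.1).2 ⟨k.2, ?_⟩)
  have h3' : k.1 * u * k.1⁻¹ = u := Units.ext (by rw [Units.val_mul, Units.val_mul]; exact h2)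
  exact (mul_inv_eq_iff_eq_mul.1 h3').symm

end Linear

end CfsgLib.Perm.Trans.TensorSquare
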