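import Mathlib
import Cfsg.Agent.Lib.Perm.Trans.TensorSquare.Trick
import Cfsg.Agent.Lib.Perm.Trans.TensorOO.Invol

/-!
# Two-groups in six dimensions normalised by a unipotent element of class three

With `(u - 1) ^ 3 = 0`, `p ≥ 5` and a square root of `-1` in the field, an `r`-group on which `u` fixes only `1`
and a central involution `v` with six-dimensional negated space consists of `1` and `v`: otherwise one finds inside
it two anticommuting elements on a three-dimensional space.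
-/

set_option autoImplicit false
set_option linter.all false

namespace CfsgLib.Perm.Trans.TensorSquare

open scoped Matrix
open Matrix CfsgLib.Perm.Trans CfsgLib.Perm.Trans.TensorOO

variable {κ : Type} [Fintype κ] [DecidableEq κ] {F : Type*} [Field F] [Finite F]
variable {p : ℕ} [Fact p.Prime] [CharP F p]

/-- an invariant abelian subgroup is fixed pointwise -/
theorem comm_of_unip_abelian (u : GL κ F) (A : Subgroup (GL κ F)) (hA : ∀ a ∈ A, ∀ b ∈ A, a * b = b * a)
    (hu : ∀ n ∈ A, u * n * u⁻¹ ∈ A) (hup : u ^ p = 1) (hAp : ¬ p ∣ Nat.card A) {k : ℕ} (hk : k < p)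
    (hpoly : ((u : Matrix κ κ F) - 1) ^ k = 0) : ∀ a ∈ A, u * a = a * u := by
  let A' : Subgroup (GL κ F) :=
    { carrier := {x | ∃ a ∈ A, x = u * a * u⁻¹ * a⁻¹}
      one_mem' := ⟨1, one_mem A, by group⟩
      mul_mem' := by
        rintro x y ⟨a, ha, rfl⟩ ⟨b, hb, rfl⟩
        refine ⟨a * b, mul_mem ha hb, ?_⟩
        have h := hA a⁻¹ (inv_mem ha) (u * b * u⁻¹) (hu b hb)
        rw [_root_.mul_inv_rev, hA b⁻¹ (inv_mem hb) a⁻¹ (inv_mem ha)]
        calc u * a * u⁻¹ * a⁻¹ * (u * b * u⁻¹ * b⁻¹) = u * a * u⁻¹ * (a⁻¹ * (u * b * u⁻¹)) * b⁻¹ := by group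
          _ = u * a * u⁻¹ * ((u * b * u⁻¹) * a⁻¹) * b⁻¹ := by rw [h]
          _ = u * (a * b) * u⁻¹ * (a⁻¹ * b⁻¹) := by group
      inv_mem' := by
        rintro x ⟨a, ha, rfl⟩
        refine ⟨a⁻¹, inv_mem ha, ?_⟩
        rw [_root_.mul_inv_rev, _root_.mul_inv_rev, _root_.mul_inv_rev, inv_inv, inv_inv,
          hA a ha _ (by rw [← mul_assoc]; exact hu a⁻¹ (inv_mem ha))]
        group }
  have hle : A' ≤ A := by
    rintro x ⟨a, ha, rfl⟩
    exact mul_mem (hu a ha) (inv_mem ha)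
  have h := eq_one_of_unip_fpf u A' (fun x hx => by
    obtain ⟨a, ha, rfl⟩ := hx
    exact ⟨u * a * u⁻¹, hu a ha, by group⟩) hup (fun h => hAp (h.trans (Subgroup.card_dvd_of_le hle)))
    (fun x hx hxu => by
      obtain ⟨a, ha, hxa⟩ := id hx
      have hj : ∀ j : ℕ, u ^ j * a * (u ^ j)⁻¹ = x ^ j * a := by
        intro j
        induction j with
        | zero => simp
        | succ j ih =>
          have hc : Commute u (x ^ j) := (show Commute u x from hxu).pow_right j
          rw [pow_succ' u, show u * u ^ j * a * (u * u ^ j)⁻¹ = u * (u ^ j * a * (u ^ j)⁻¹) * u⁻¹ by group, ih,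
            ← mul_assoc, hc.eq, pow_succ x, hxa]
          group
      have h1 := hj p
      rw [hup, one_mul, inv_one, mul_one] at h1
      have h2 : x ^ p = 1 := by simpa using h1.symm
      by_contra hne
      have hd : orderOf x ∣ Nat.card A := by
        have := orderOf_dvd_natCard (⟨x, hle hx⟩ : A)
        rwa [← Subgroup.orderOf_coe] at this
      rw [orderOf_eq_prime h2 hne] at hd
      exact hAp hd) hk hpoly
  intro a ha
  exact mul_inv_eq_iff_eq_mul.1 (mul_inv_eq_one.1 (h _ ⟨a, ha, rfl⟩))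

omit [Finite F] in
/-- two anticommuting automorphisms live in even dimension -/
theorem anticomm_absurd (h2 : (2 : F) ≠ 0) {E : Submodule F (κ → F)} (hE : Odd (Module.finrank F E))
    {c d : GL κ F} (hc : ∀ y ∈ E, (c : Matrix κ κ F) *ᵥ y ∈ E) (hd : ∀ y ∈ E, (d : Matrix κ κ F) *ᵥ y ∈ E)
    (h : ∀ y ∈ E, (c : Matrix κ κ F) *ᵥ ((d : Matrix κ κ F) *ᵥ y) = -((d : Matrix κ κ F) *ᵥ ((c : Matrix κ κ F) *ᵥ y))) :
    False := by
  let Lc : E →ₗ[F] E := (Matrix.mulVecLin (c : Matrix κ κ F)).restrict hc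
  let Ld : E →ₗ[F] E := (Matrix.mulVecLin (d : Matrix κ κ F)).restrict hd
  have hdet : ∀ (g : GL κ F) (hg : ∀ y ∈ E, (g : Matrix κ κ F) *ᵥ y ∈ E),
      LinearMap.det ((Matrix.mulVecLin (g : Matrix κ κ F)).restrict hg) ≠ 0 := by
    intro g hg h0
    refine (LinearMap.bot_lt_ker_of_det_eq_zero h0).ne' ((Submodule.eq_bot_iff _).2 fun y hy => Subtype.ext ?_)
    exact gl_mulVec_eq_zero.1 (congrArg Subtype.val (LinearMap.mem_ker.1 hy))
  have heq : Lc ∘ₗ Ld = (-1 : F) • (Ld ∘ₗ Lc) := LinearMap.ext fun y => Subtype.ext (by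
    show (c : Matrix κ κ F) *ᵥ ((d : Matrix κ κ F) *ᵥ y.1) = (-1 : F) • ((d : Matrix κ κ F) *ᵥ ((c : Matrix κ κ F) *ᵥ y.1))
    rw [h y.1 y.2, neg_one_smul])
  have h1 := congrArg LinearMap.det heq
  rw [LinearMap.det_smul, LinearMap.det_comp, LinearMap.det_comp, hE.neg_one_pow, neg_one_mul] at h1
  have h3 : (2 : F) * (LinearMap.det Lc * LinearMap.det Ld) = 0 := by linear_combination h1
  rcases mul_eq_zero.1 h3 with h4 | h4
  · exact h2 h4
  · rcases mul_eq_zero.1 h4 with h5 | h5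
    · exact hdet c hc h5
    · exact hdet d hd h5

/-- an `r`-group on which `u` fixes only `1` and `v` -/
theorem subset_pair_of_unip_five (hp : 5 ≤ p) (h2 : (2 : F) ≠ 0) {i : F} (hi : i * i = -1) (u v : GL κ F)
    (S : Subgroup (GL κ F)) {r : ℕ} [Fact r.Prime] (hS : IsPGroup r S) (hu : ∀ n ∈ S, u * n * u⁻¹ ∈ S)
    (hup : u ^ p = 1) (hSp : ¬ p ∣ Nat.card S) (h3 : ((u : Matrix κ κ F) - 1) ^ 3 = 0) (hvv : v * v = 1)
    (huv : u * v = v * u) (hcv : ∀ n ∈ S, n * v = v * n) (hfix : ∀ n ∈ S, u * n = n * u → n = 1 ∨ n = v)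
    (hdim : Module.finrank F (negSp v) = 6) : ∀ n ∈ S, n = 1 ∨ n = v := by
  classical
  have hk : 3 < p := by omega
  by_cases hvS : v ∈ S
  swap
  · intro n hn
    exact Or.inl (eq_one_of_unip_fpf u S hu hup hSp
      (fun m hm h => (hfix m hm h).resolve_right fun e => hvS (e ▸ hm)) hk h3 n hn)
  by_contra hcon
  push Not at hcon
  obtain ⟨n₀, hn₀, hn₁, hnv⟩ := hcon
  have hab : ∀ A : Subgroup (GL κ F), A ≤ S → (∀ a ∈ A, ∀ b ∈ A, a * b = b * a) → (∀ n ∈ A, u * n * u⁻¹ ∈ A) →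
      ∀ a ∈ A, a = 1 ∨ a = v := fun A hAS hA hAu a ha =>
    hfix a (hAS ha) (comm_of_unip_abelian u A hA hAu hup (fun h => hSp (h.trans (Subgroup.card_dvd_of_le hAS))) hk h3
      a ha)
  have hvinv : v⁻¹ = v := inv_eq_of_mul_eq_one_right hvv
  let K : Subgroup (GL κ F) :=
    { carrier := {x | x = 1 ∨ x = v}
      one_mem' := Or.inl rfl
      mul_mem' := by
        rintro x y (rfl | rfl) (rfl | rfl)
        · exact Or.inl (one_mul _)
        · exact Or.inr (one_mul _)
        · exact Or.inr (mul_one _)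
        · exact Or.inl hvv
      inv_mem' := by
        rintro x (rfl | rfl)
        · exact Or.inl inv_one
        · exact Or.inr hvinv }
  let N : Subgroup (GL κ F) :=
    { carrier := {a | a ∈ S ∧ ∀ s ∈ S, a * s * a⁻¹ * s⁻¹ ∈ K}
      one_mem' := ⟨one_mem S, fun s _ => Or.inl (by group)⟩
      mul_mem' := by
        rintro a b ⟨ha, ha'⟩ ⟨hb, hb'⟩
        refine ⟨mul_mem ha hb, fun s hs => ?_⟩
        obtain ⟨k, hk'⟩ : ∃ k, k = b * s * b⁻¹ * s⁻¹ := ⟨_, rfl⟩
        have hkK : k ∈ K := hk' ▸ hb' s hs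
        have hka : a * k = k * a := by
          rcases hkK with rfl | rfl
          · simp
          · exact hcv a ha
        rw [show a * b * s * (a * b)⁻¹ * s⁻¹ = a * k * (s * a⁻¹ * s⁻¹) by rw [hk']; group, hka,
          show k * a * (s * a⁻¹ * s⁻¹) = k * (a * s * a⁻¹ * s⁻¹) by group]
        exact mul_mem hkK (ha' s hs)
      inv_mem' := by
        rintro a ⟨ha, ha'⟩
        refine ⟨inv_mem ha, fun s hs => ?_⟩
        obtain ⟨k, hk'⟩ : ∃ k, k = a * s * a⁻¹ * s⁻¹ := ⟨_, rfl⟩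
        have hkK : k ∈ K := hk' ▸ ha' s hs
        have hka : k⁻¹ * a = a * k⁻¹ := by
          rcases hkK with rfl | rfl
          · simp
          · rw [hvinv, hcv a ha]
        rw [show a⁻¹ * s * a⁻¹⁻¹ * s⁻¹ = a⁻¹ * (k⁻¹ * a) by rw [hk']; group, hka,
          show a⁻¹ * (a * k⁻¹) = k⁻¹ by group]
        exact inv_mem hkK }
  have hNS : N ≤ S := fun a ha => ha.1
  have hNu : ∀ n ∈ N, u * n * u⁻¹ ∈ N := by
    rintro n ⟨hn, hn'⟩
    refine ⟨hu n hn, fun s hs => ?_⟩
    have hs' : u⁻¹ * s * u ∈ S := by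
      have hj : ∀ (j : ℕ), ∀ m ∈ S, u ^ j * m * (u ^ j)⁻¹ ∈ S := by
        intro j
        induction j with
        | zero => intro m hm; simpa using hm
        | succ j ih =>
          intro m hm
          rw [show u ^ (j + 1) * m * (u ^ (j + 1))⁻¹ = u ^ j * (u * m * u⁻¹) * (u ^ j)⁻¹ by rw [pow_succ]; group]
          exact ih _ (hu m hm)
      have h := hj (p - 1) s hs
      rwa [show u ^ (p - 1) = u⁻¹ from eq_inv_of_mul_eq_one_left (by
        rw [← pow_succ, show p - 1 + 1 = p by omega, hup]), inv_inv] at h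
    rcases hn' _ hs' with h | h
    · left
      have h' := congrArg (fun z => u * z * u⁻¹) h
      simp only [mul_one, mul_inv_cancel] at h'
      rw [← h']; group
    · right
      have h' := congrArg (fun z => u * z * u⁻¹) h
      simp only [huv, mul_inv_cancel_right] at h'
      rw [← h']; group
  -- an element of N outside K
  obtain ⟨a, haN, haK⟩ : ∃ a ∈ N, a ∉ K := by
    haveI hnorm : (K.subgroupOf S).Normal := ⟨fun x hx g => by
      show (g.1 * x.1 * g.1⁻¹) ∈ K
      rcases hx with e | e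
      · left
        show g.1 * x.1 * g.1⁻¹ = 1
        rw [show (x.1 : GL κ F) = 1 from e]; group
      · right
        show g.1 * x.1 * g.1⁻¹ = v
        rw [show (x.1 : GL κ F) = v from e, hcv _ g.2, mul_inv_cancel_right]⟩
    have hnt : Nontrivial (S ⧸ K.subgroupOf S) := by
      rw [QuotientGroup.nontrivial_iff]
      intro htop
      exact (Subgroup.subgroupOf_eq_top.1 htop hn₀).elim hn₁ hnv
    haveI := (hS.to_quotient (K.subgroupOf S)).center_nontrivial
    obtain ⟨z, hz⟩ := exists_ne (1 : Subgroup.center (S ⧸ K.subgroupOf S))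
    obtain ⟨a, ha⟩ := QuotientGroup.mk_surjective z.1
    refine ⟨a.1, ⟨a.2, fun s hs => ?_⟩, fun haK => hz (Subtype.ext (ha.symm.trans
      ((QuotientGroup.eq_one_iff a).2 haK)))⟩
    have h := Subgroup.mem_center_iff.1 z.2 (QuotientGroup.mk ⟨s, hs⟩)
    rw [← ha, ← QuotientGroup.mk_mul, ← QuotientGroup.mk_mul, QuotientGroup.eq] at h
    have h' : ((⟨s, hs⟩ : S) * a)⁻¹ * (a * ⟨s, hs⟩) ∈ K.subgroupOf S := h
    have e : a.1 * s * a.1⁻¹ * s⁻¹ = (s * a.1) * (((s * a.1)⁻¹ * (a.1 * s))) * (s * a.1)⁻¹ := by group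
    rw [e]
    rcases h' with h' | h'
    · left
      rw [show (s * a.1)⁻¹ * (a.1 * s) = 1 from h']; group
    · right
      rw [show (s * a.1)⁻¹ * (a.1 * s) = v from h', hcv _ (mul_mem hs a.2), mul_inv_cancel_right]
  have hcomm : ∀ x ∈ N, ∀ y ∈ N, x * y = y * x ∨ x * y = v * (y * x) := by
    rintro x ⟨hx, hx'⟩ y ⟨hy, -⟩
    rcases hx' y hy with h | h
    · left; rw [show x * y = (x * y * x⁻¹ * y⁻¹) * (y * x) by group, h, one_mul]
    · right; rw [show x * y = (x * y * x⁻¹ * y⁻¹) * (y * x) by group, h]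
  have hcent : ∀ c ∈ N, (∀ n ∈ N, c * n = n * c) → c = 1 ∨ c = v := by
    intro c hc hcn
    refine hab (N ⊓ Subgroup.centralizer (N : Set (GL κ F))) (fun x hx => hx.1.1) (fun x hx y hy => ?_)
      (fun x hx => ⟨hNu x hx.1, ?_⟩) c ⟨hc, Subgroup.mem_centralizer_iff.2 fun n hn => (hcn n hn).symm⟩
    · exact (Subgroup.mem_centralizer_iff.1 hy.2 x hx.1)
    · refine Subgroup.mem_centralizer_iff.2 fun n hn => ?_
      have hn' : u⁻¹ * n * u ∈ N := by
        have hj : ∀ (j : ℕ), ∀ m ∈ N, u ^ j * m * (u ^ j)⁻¹ ∈ N := by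
          intro j
          induction j with
          | zero => intro m hm; simpa using hm
          | succ j ih =>
            intro m hm
            rw [show u ^ (j + 1) * m * (u ^ (j + 1))⁻¹ = u ^ j * (u * m * u⁻¹) * (u ^ j)⁻¹ by rw [pow_succ]; group]
            exact ih _ (hNu m hm)
        have h := hj (p - 1) n hn
        rwa [show u ^ (p - 1) = u⁻¹ from eq_inv_of_mul_eq_one_left (by
          rw [← pow_succ, show p - 1 + 1 = p by omega, hup]), inv_inv] at h
      have h := Subgroup.mem_centralizer_iff.1 hx.2 _ hn'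
      have h' := congrArg (fun z => u * z * u⁻¹) h
      calc n * (u * x * u⁻¹) = u * (u⁻¹ * n * u * x) * u⁻¹ := by group
        _ = u * (x * (u⁻¹ * n * u)) * u⁻¹ := h'
        _ = u * x * u⁻¹ * n := by group
  obtain ⟨b, hbN, hab'⟩ : ∃ b ∈ N, a * b = v * (b * a) := by
    by_contra hb
    push Not at hb
    exact haK (hcent a haN fun n hn => (hcomm a haN n hn).resolve_right (hb n hn))
  have hav : a * v = v * a := hcv a haN.1
  -- two anticommuting elements centralising a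
  obtain ⟨c, hcN, hca, d, hdN, hda, hcd⟩ : ∃ c ∈ N, c * a = a * c ∧ ∃ d ∈ N, d * a = a * d ∧ c * d = v * (d * c) := by
    by_contra hno
    push Not at hno
    have hCab : ∀ c ∈ N, c * a = a * c → ∀ d ∈ N, d * a = a * d → c * d = d * c := fun c hc hca d hd hda =>
      (hcomm c hc d hd).resolve_right (hno c hc hca d hd hda)
    have hsplit : ∀ n ∈ N, n * a = a * n ∨ (b⁻¹ * n) * a = a * (b⁻¹ * n) := by
      intro n hn
      rcases hcomm a haN n hn with h | h
      · exact Or.inl h.symm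
      · right
        have h1 : b⁻¹ * a = v * (a * b⁻¹) := by
          have := congrArg (fun z => b⁻¹ * z * b⁻¹) hab'
          simp only [mul_inv_cancel_right, mul_assoc] at this
          rw [mul_inv_cancel, mul_one] at this
          rw [this, ← mul_assoc b⁻¹ v, hcv _ (inv_mem hbN.1)]
          simp only [← mul_assoc]
          rw [mul_assoc v b⁻¹ b, inv_mul_cancel, mul_one]
        calc b⁻¹ * n * a = b⁻¹ * (n * a) := mul_assoc _ _ _
          _ = b⁻¹ * (v * (a * n)) := by rw [h, ← mul_assoc v v, hvv, one_mul]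
          _ = v * (b⁻¹ * a) * n := by
            rw [← mul_assoc b⁻¹ v, hcv _ (inv_mem hbN.1)]; group
          _ = v * (v * (a * b⁻¹)) * n := by rw [h1]
          _ = a * (b⁻¹ * n) := by rw [← mul_assoc v v, hvv, one_mul, mul_assoc]
    have hsmall : ∀ c ∈ N, c * a = a * c → c * b = b * c → c = 1 ∨ c = v := by
      intro c hc hca hcb
      refine hcent c hc fun n hn => ?_
      rcases hsplit n hn with h | h
      · exact hCab c hc hca n hn h
      · have h1 := hCab c hc hca _ (mul_mem (inv_mem hbN) hn) h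
        calc c * n = c * b * (b⁻¹ * n) := by group
          _ = b * c * (b⁻¹ * n) := by rw [hcb]
          _ = b * (b⁻¹ * n * c) := by rw [mul_assoc, h1]
          _ = n * c := by group
    have hbb : b * a = v * (a * b) := by rw [hab', ← mul_assoc v v, hvv, one_mul]
    have hCK : ∀ c ∈ N, c * a = a * c → c ∈ K ∨ a⁻¹ * c ∈ K := by
      intro c hc hca
      rcases hcomm c hc b hbN with h | h
      · exact Or.inl (hsmall c hc hca h)
      · right
        refine hsmall _ (mul_mem (inv_mem haN) hc) ?_ ?_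
        · rw [mul_assoc, hca, ← mul_assoc, inv_mul_cancel, one_mul, ← mul_assoc, mul_inv_cancel, one_mul]
        · calc a⁻¹ * c * b = a⁻¹ * (c * b) := mul_assoc _ _ _
            _ = a⁻¹ * (v * (b * c)) := by rw [h]
            _ = a⁻¹ * (v * b) * c := by group
            _ = a⁻¹ * (b * v) * c := by rw [hcv b hbN.1]
            _ = a⁻¹ * (b * (a * a⁻¹) * v) * c := by rw [mul_inv_cancel, mul_one]
            _ = a⁻¹ * (b * a) * (a⁻¹ * v) * c := by group
            _ = a⁻¹ * (v * (a * b)) * (a⁻¹ * v) * c := by rw [hbb]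
            _ = a⁻¹ * (v * a) * b * (a⁻¹ * v) * c := by group
            _ = a⁻¹ * (a * v) * b * (a⁻¹ * v) * c := by rw [hav]
            _ = v * b * (a⁻¹ * v) * c := by group
            _ = b * v * (v * a⁻¹) * c := by rw [← hcv b hbN.1, hcv _ (inv_mem haN.1)]
            _ = b * (a⁻¹ * c) := by rw [mul_assoc b v, ← mul_assoc v v, hvv, one_mul, mul_assoc]
    have hcover : ∀ n ∈ N, n ∈ K ∨ a⁻¹ * n ∈ K ∨ b⁻¹ * n ∈ K ∨ a⁻¹ * (b⁻¹ * n) ∈ K := by
      intro n hn
      rcases hsplit n hn with h | h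
      · rcases hCK n hn h with h' | h'
        · exact Or.inl h'
        · exact Or.inr (Or.inl h')
      · rcases hCK _ (mul_mem (inv_mem hbN) hn) h with h' | h'
        · exact Or.inr (Or.inr (Or.inl h'))
        · exact Or.inr (Or.inr (Or.inr h'))
    let x : Fin 5 → GL κ F := fun j => u ^ (j : ℕ) * a * (u ^ (j : ℕ))⁻¹
    have hxN : ∀ j, x j ∈ N := by
      have hj : ∀ (j : ℕ), ∀ m ∈ N, u ^ j * m * (u ^ j)⁻¹ ∈ N := by
        intro j
        induction j with
        | zero => intro m hm; simpa using hm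
        | succ j ih =>
          intro m hm
          rw [show u ^ (j + 1) * m * (u ^ (j + 1))⁻¹ = u ^ j * (u * m * u⁻¹) * (u ^ j)⁻¹ by rw [pow_succ]; group]
          exact ih _ (hNu m hm)
      exact fun j => hj j a haN
    have hex : ∀ j, ∃ i : Fin 4, (![1, a⁻¹, b⁻¹, a⁻¹ * b⁻¹] : Fin 4 → GL κ F) i * x j ∈ K := by
      intro j
      rcases hcover _ (hxN j) with h | h | h | h
      · exact ⟨0, show 1 * x j ∈ K by rwa [one_mul]⟩
      · exact ⟨1, h⟩
      · exact ⟨2, h⟩
      · exact ⟨3, show a⁻¹ * b⁻¹ * x j ∈ K by rwa [mul_assoc]⟩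
    choose f hfK using hex
    obtain ⟨j₁, j₂, hne, hf⟩ := Fintype.exists_ne_map_eq_of_card_lt f (by simp)
    have hrel : (x j₁)⁻¹ * x j₂ ∈ K := by
      have h2' := hfK j₂
      rw [← hf] at h2'
      have := mul_mem (inv_mem (hfK j₁)) h2'
      rwa [_root_.mul_inv_rev, mul_assoc, inv_mul_cancel_left] at this
    -- a power of `u` moves `a` inside `a K`
    have hshift : ∀ (j : ℕ) (k : GL κ F), k ∈ K → u ^ j * a * (u ^ j)⁻¹ = a * k → 0 < j → j < p → False := by
      intro j k hkK he hj0 hjp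
      have hku : ∀ i : ℕ, u ^ i * k = k * u ^ i := fun i => by
        rcases hkK with e | e
        · rw [e]; simp
        · rw [e]; exact ((show Commute u v from huv).pow_left i).eq
      have hiter : ∀ m : ℕ, (u ^ j) ^ m * a * ((u ^ j) ^ m)⁻¹ = a * k ^ m := by
        intro m
        induction m with
        | zero => simp
        | succ m ih =>
          rw [pow_succ' (u ^ j), pow_succ' k,
            show u ^ j * (u ^ j) ^ m * a * (u ^ j * (u ^ j) ^ m)⁻¹ = u ^ j * ((u ^ j) ^ m * a * ((u ^ j) ^ m)⁻¹) * (u ^ j)⁻¹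
              by group, ih,
            show u ^ j * (a * k ^ m) * (u ^ j)⁻¹ = u ^ j * a * (k ^ m * (u ^ j)⁻¹) by group,
            ← ((show Commute (u ^ j) k from hku j).pow_right m).inv_left.eq, ← mul_assoc, he]
          group
      have h1 := hiter p
      rw [← pow_mul, mul_comm j, pow_mul, hup, one_pow, one_mul, inv_one, mul_one] at h1
      have hk1 : k = 1 := by
        rcases hkK with e | e
        · exact e
        · obtain ⟨t, ht⟩ : Odd p := (Fact.out : p.Prime).odd_of_ne_two (by omega)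
          rw [e, ht, pow_succ, pow_mul, sq, hvv, one_pow, one_mul] at h1
          rw [e]
          exact left_eq_mul.1 h1
      rw [hk1, mul_one] at he
      obtain ⟨i, -, hi'⟩ := Nat.exists_mul_mod_eq_one_of_coprime
        ((Fact.out : p.Prime).coprime_iff_not_dvd.2 (Nat.not_dvd_of_pos_of_lt hj0 hjp)).symm
        (Fact.out : p.Prime).one_lt
      have hu' : u = (u ^ j) ^ i := by
        rw [← pow_mul, ← Nat.div_add_mod (j * i) p, hi', pow_add, pow_mul, hup, one_pow, one_mul, pow_one]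
      refine haK (hfix a haN.1 ?_)
      rw [hu']
      exact ((show Commute (u ^ j) a from mul_inv_eq_iff_eq_mul.1 he).pow_left i).eq
    rcases Nat.lt_or_ge (j₁ : ℕ) (j₂ : ℕ) with hlt | hge
    · obtain ⟨m, hm⟩ : ∃ m : ℕ, (j₂ : ℕ) = j₁ + m := ⟨j₂ - j₁, by omega⟩
      refine hshift m ((x j₁)⁻¹ * x j₂) hrel ?_ (by omega) (by omega)
      have hku : u ^ (j₁ : ℕ) * ((x j₁)⁻¹ * x j₂) = (x j₁)⁻¹ * x j₂ * u ^ (j₁ : ℕ) := by
        rcases hrel with e | e
        · rw [show (x j₁)⁻¹ * x j₂ = 1 from e]; simp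
        · rw [show (x j₁)⁻¹ * x j₂ = v from e]; exact ((show Commute u v from huv).pow_left _).eq
      refine mul_left_cancel (a := u ^ (j₁ : ℕ)) (mul_right_cancel (b := (u ^ (j₁ : ℕ))⁻¹) ?_)
      rw [show u ^ (j₁ : ℕ) * (u ^ m * a * (u ^ m)⁻¹) * (u ^ (j₁ : ℕ))⁻¹ = x j₂ by
          show _ = u ^ (j₂ : ℕ) * a * (u ^ (j₂ : ℕ))⁻¹
          rw [hm, pow_add]; group,
        mul_assoc _ (a * _), mul_assoc a, ← (show Commute _ _ from hku).inv_left.eq]
      show x j₂ = u ^ (j₁ : ℕ) * (a * ((u ^ (j₁ : ℕ))⁻¹ * ((u ^ (j₁ : ℕ) * a * (u ^ (j₁ : ℕ))⁻¹)⁻¹ * x j₂)))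
      group
    · obtain ⟨m, hm⟩ : ∃ m : ℕ, (j₁ : ℕ) = j₂ + m := ⟨j₁ - j₂, by omega⟩
      have hm0 : 0 < m := by
        rcases Nat.eq_zero_or_pos m with h | h
        · exact absurd (Fin.ext (by omega)) hne
        · exact h
      have hrel' : (x j₂)⁻¹ * x j₁ ∈ K := by
        have := inv_mem hrel
        rwa [show ((x j₁)⁻¹ * x j₂)⁻¹ = (x j₂)⁻¹ * x j₁ by group] at this
      refine hshift m ((x j₂)⁻¹ * x j₁) hrel' ?_ hm0 (by omega)
      have hku : u ^ (j₂ : ℕ) * ((x j₂)⁻¹ * x j₁) = (x j₂)⁻¹ * x j₁ * u ^ (j₂ : ℕ) := by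
        rcases hrel' with e | e
        · rw [show (x j₂)⁻¹ * x j₁ = 1 from e]; simp
        · rw [show (x j₂)⁻¹ * x j₁ = v from e]; exact ((show Commute u v from huv).pow_left _).eq
      refine mul_left_cancel (a := u ^ (j₂ : ℕ)) (mul_right_cancel (b := (u ^ (j₂ : ℕ))⁻¹) ?_)
      rw [show u ^ (j₂ : ℕ) * (u ^ m * a * (u ^ m)⁻¹) * (u ^ (j₂ : ℕ))⁻¹ = x j₁ by
          show _ = u ^ (j₁ : ℕ) * a * (u ^ (j₁ : ℕ))⁻¹
          rw [hm, pow_add]; group,
        mul_assoc _ (a * _), mul_assoc a, ← (show Commute _ _ from hku).inv_left.eq]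
      show x j₁ = u ^ (j₂ : ℕ) * (a * ((u ^ (j₂ : ℕ))⁻¹ * ((u ^ (j₂ : ℕ) * a * (u ^ (j₂ : ℕ))⁻¹)⁻¹ * x j₁)))
      group
  -- on the negated space
  have haa : a * a = 1 ∨ a * a = v := by
    refine hcent _ (mul_mem haN haN) fun n hn => ?_
    rcases hcomm a haN n hn with h | h
    · exact ((show Commute a n from h).mul_left (show Commute a n from h)).eq
    · calc a * a * n = a * (a * n) := mul_assoc _ _ _
        _ = a * (v * (n * a)) := by rw [h]
        _ = v * (a * n) * a := by rw [← mul_assoc a v, hav]; group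
        _ = v * (v * (n * a)) * a := by rw [h]
        _ = n * (a * a) := by rw [← mul_assoc v v, hvv, one_mul, mul_assoc]
  obtain ⟨α, hα0, hα⟩ : ∃ α : F, α ≠ 0 ∧ ∀ y ∈ negSp v, (a : Matrix κ κ F) *ᵥ ((a : Matrix κ κ F) *ᵥ y) =
      (α * α) • y := by
    rcases haa with h | h
    · exact ⟨1, one_ne_zero, fun y _ => by rw [← gl_mul_mulVec, h, Units.val_one, one_mulVec, one_mul, one_smul]⟩
    · refine ⟨i, fun e => by rw [e, mul_zero] at hi; exact one_ne_zero (neg_eq_zero.1 hi.symm), fun y hy => ?_⟩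
      rw [← gl_mul_mulVec, h, mem_negSp.1 hy, hi, neg_one_smul]
  have hYst : ∀ g ∈ S, ∀ y ∈ negSp v, (g : Matrix κ κ F) *ᵥ y ∈ negSp v := fun g hg y hy => by
    rw [mem_negSp, ← gl_mul_mulVec, ← hcv g hg, gl_mul_mulVec, mem_negSp.1 hy, mulVec_neg]
  let Ep : F → Submodule F (κ → F) := fun β =>
    negSp v ⊓ LinearMap.ker (Matrix.mulVecLin (a : Matrix κ κ F) - β • LinearMap.id)
  have memEp : ∀ β y, y ∈ Ep β ↔ y ∈ negSp v ∧ (a : Matrix κ κ F) *ᵥ y = β • y := fun β y => by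
    simp only [Ep, Submodule.mem_inf, LinearMap.mem_ker, LinearMap.sub_apply, LinearMap.smul_apply,
      LinearMap.id_apply, Matrix.mulVecLin_apply, sub_eq_zero]
  have hanti : ∀ y ∈ negSp v, (a : Matrix κ κ F) *ᵥ ((b : Matrix κ κ F) *ᵥ y) =
      -((b : Matrix κ κ F) *ᵥ ((a : Matrix κ κ F) *ᵥ y)) := fun y hy => by
    rw [← gl_mul_mulVec, hab', gl_mul_mulVec, gl_mul_mulVec,
      mem_negSp.1 (hYst b hbN.1 _ (hYst a haN.1 y hy))]
  have hflip : ∀ β, ∀ y ∈ Ep β, (b : Matrix κ κ F) *ᵥ y ∈ Ep (-β) := fun β y hy => by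
    obtain ⟨hy1, hy2⟩ := (memEp β y).1 hy
    exact (memEp _ _).2 ⟨hYst b hbN.1 y hy1, by rw [hanti y hy1, hy2, mulVec_smul, neg_smul]⟩
  have hle : ∀ β, Module.finrank F (Ep β) ≤ Module.finrank F (Ep (-β)) := fun β =>
    LinearMap.finrank_le_finrank_of_injective (f := (Matrix.mulVecLin (b : Matrix κ κ F)).restrict (hflip β))
      fun y y' h => Subtype.ext (by
        have h' : (b : Matrix κ κ F) *ᵥ (y : κ → F) = (b : Matrix κ κ F) *ᵥ (y' : κ → F) := congrArg Subtype.val h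
        rw [← gl_inv_mulVec b (y : κ → F), h', gl_inv_mulVec])
  have hsum : Ep α ⊔ Ep (-α) = negSp v := by
    refine le_antisymm (sup_le inf_le_left inf_le_left) fun y hy => ?_
    refine Submodule.mem_sup.2 ⟨(2 : F)⁻¹ • (y + α⁻¹ • ((a : Matrix κ κ F) *ᵥ y)), ?_,
      (2 : F)⁻¹ • (y - α⁻¹ • ((a : Matrix κ κ F) *ᵥ y)), ?_, ?_⟩
    · refine (memEp _ _).2 ⟨Submodule.smul_mem _ _ (add_mem hy (Submodule.smul_mem _ _ (hYst a haN.1 y hy))), ?_⟩
      rw [mulVec_smul, mulVec_add, mulVec_smul, hα y hy]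
      match_scalars <;> field_simp
    · refine (memEp _ _).2 ⟨Submodule.smul_mem _ _ (sub_mem hy (Submodule.smul_mem _ _ (hYst a haN.1 y hy))), ?_⟩
      rw [mulVec_smul, mulVec_sub, mulVec_smul, hα y hy]
      match_scalars <;> field_simp
    · match_scalars <;> field_simp <;> ring
  have hinf : Ep α ⊓ Ep (-α) = ⊥ := (Submodule.eq_bot_iff _).2 fun y hy => by
    have h : (2 * α) • y = 0 := by
      have e1 := ((memEp _ y).1 hy.1).2
      rw [((memEp _ y).1 hy.2).2] at e1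
      linear_combination (norm := module) -e1
    exact (smul_eq_zero.1 h).resolve_left (mul_ne_zero h2 hα0)
  have hdim' := Submodule.finrank_sup_add_finrank_inf_eq (Ep α) (Ep (-α))
  rw [hsum, hinf, finrank_bot, hdim] at hdim'
  have h1 := hle α
  have h1' := hle (-α)
  rw [neg_neg] at h1'
  have hE3 : Module.finrank F (Ep α) = 3 := by omega
  have hst : ∀ g ∈ N, g * a = a * g → ∀ y ∈ Ep α, (g : Matrix κ κ F) *ᵥ y ∈ Ep α := fun g hg hga y hy => by
    obtain ⟨hy1, hy2⟩ := (memEp α y).1 hy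
    exact (memEp _ _).2 ⟨hYst g hg.1 y hy1, by rw [← gl_mul_mulVec, ← hga, gl_mul_mulVec, hy2, mulVec_smul]⟩
  refine anticomm_absurd h2 (E := Ep α) ⟨1, hE3⟩ (hst c hcN hca) (hst d hdN hda) fun y hy => ?_
  rw [← gl_mul_mulVec, hcd, gl_mul_mulVec, gl_mul_mulVec,
    mem_negSp.1 (hYst d hdN.1 _ (hYst c hcN.1 y ((memEp α y).1 hy).1))]

end CfsgLib.Perm.Trans.TensorSquare
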