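import Mathlib
import Cfsg.Agent.Lib.Perm.Trans.TensorOO.EvenSpinor
import Cfsg.Agent.Lib.Perm.Trans.TensorOO.Fix

/-!
# The tensor square of a three-dimensional orthogonal space: the swap and the wreath subgroup
-/

set_option autoImplicit false
set_option linter.all false

namespace CfsgLib.Perm.Trans.TensorSquare

open scoped Matrix
open Matrix Cfsg.Geo CfsgLib.Perm.Asch CfsgLib.Perm.Trans CfsgLib.Perm.Trans.TensorFrame
open CfsgLib.Perm.Trans.TensorMax CfsgLib.Perm.Trans.Quad CfsgLib.Perm.Trans.TensorSO CfsgLib.Perm.Trans.TensorOO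

variable {ι : Type} [Fintype ι] [DecidableEq ι] {F : Type*} [Field F]
variable {e : ι ≃ Fin 3 × Fin 3} {P : GL ι F}

local notation "T" => tvec e P

section Three

variable {f : (Fin 3 → F) → (Fin 3 → F) → F}

/-- an orthogonal frame of equal norms -/
structure EFrame (f : (Fin 3 → F) → (Fin 3 → F) → F) (d : Fin 3 → Fin 3 → F) (c : F) : Prop where
  cne : c ≠ 0
  norm : ∀ i, f (d i) (d i) = c
  orth : ∀ i j, i ≠ j → f (d i) (d j) = 0

theorem EFrame.aniso {d : Fin 3 → Fin 3 → F} {c : F} (h : EFrame f d c) (i : Fin 3) : f (d i) (d i) ≠ 0 := by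
  rw [h.norm]; exact h.cne

theorem exists_eframe [Fintype F] (hf : IsSymmetricForm f) (h2 : (2 : F) ≠ 0) : ∃ d c, EFrame f d c := by
  obtain ⟨x₁, x₂, x₃, hn, hn2, hn3, h12, h13, h23⟩ := three_equal hf h2 (by rw [Fintype.card_fin])
  refine ⟨![x₁, x₂, x₃], f x₁ x₁, hn, fun i => ?_, fun i j hij => ?_⟩
  · fin_cases i <;> simp [hn2, hn3]
  · fin_cases i <;> fin_cases j <;> first | exact absurd rfl hij |
      simp [h12, h13, h23, hf.symm x₂ x₁, hf.symm x₃ x₁, hf.symm x₃ x₂]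

/-- coordinates in an orthogonal frame -/
theorem frame_expand (hf : IsSymmetricForm f) {d : Fin 3 → Fin 3 → F} (ho : ∀ i j, i ≠ j → f (d i) (d j) = 0)
    (hd : ∀ i, f (d i) (d i) ≠ 0) (x : Fin 3 → F) : x = ∑ i, (f x (d i) / f (d i) (d i)) • d i := by
  have hli : LinearIndependent F d := Fintype.linearIndependent_iff.2 fun c hc i => by
    have h := congrArg (Orth.sfl hf (d i)) hc
    rw [map_sum, map_zero, Finset.sum_eq_single i (fun l _ hl => ?_) (by simp), map_smul, smul_eq_mul] at h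
    · exact (mul_eq_zero.1 h).resolve_right (hd i)
    · rw [map_smul, show Orth.sfl hf (d i) (d l) = f (d l) (d i) from rfl, ho l i hl, smul_zero]
  have hspan : Submodule.span F (Set.range d) = ⊤ := hli.span_eq_top_of_card_eq_finrank (by simp)
  have key : ∀ y, (∑ i, (f y (d i) / f (d i) (d i)) • d i) = y := by
    let L : (Fin 3 → F) →ₗ[F] (Fin 3 → F) :=
      ∑ i, ((f (d i) (d i))⁻¹ • Orth.sfl hf (d i)).smulRight (d i)
    have hL : ∀ y, L y = ∑ i, (f y (d i) / f (d i) (d i)) • d i := fun y => by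
      simp only [L, LinearMap.sum_apply, LinearMap.smulRight_apply, LinearMap.smul_apply, smul_eq_mul]
      exact Finset.sum_congr rfl fun i _ => by rw [div_eq_inv_mul]; rfl
    intro y
    rw [← hL]
    refine LinearMap.congr_fun (LinearMap.ext_on (g := LinearMap.id) hspan ?_) y
    rintro _ ⟨j, rfl⟩
    rw [hL, LinearMap.id_apply, Finset.sum_eq_single j, div_self (hd j), one_smul]
    · intro i _ hij
      rw [ho j i (Ne.symm hij), zero_div, zero_smul]
    · simp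
  exact (key x).symm

/-- the multiplier of a similitude is a square in dimension three -/
theorem simil_square [Fintype F] (hf : IsSymmetricForm f) (h2 : (2 : F) ≠ 0) {A : GL (Fin 3) F} {μ : F} (hμ : μ ≠ 0)
    (hA : ∀ x y, f ((A : Matrix (Fin 3) (Fin 3) F) *ᵥ x) ((A : Matrix (Fin 3) (Fin 3) F) *ᵥ y) = μ * f x y) :
    ∃ l : F, l ≠ 0 ∧ μ = l * l := by
  obtain ⟨d, c, hd⟩ := exists_eframe hf h2
  let C : Matrix (Fin 3) (Fin 3) F := Matrix.of fun i j => f ((A : Matrix (Fin 3) (Fin 3) F) *ᵥ d i) (d j) / c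
  have hC : C * Cᵀ = μ • (1 : Matrix (Fin 3) (Fin 3) F) := by
    ext i l
    have h := hA (d i) (d l)
    have he := frame_expand hf hd.orth hd.aniso ((A : Matrix (Fin 3) (Fin 3) F) *ᵥ d i)
    simp only [hd.norm] at he
    have hsum : f ((A : Matrix (Fin 3) (Fin 3) F) *ᵥ d i) ((A : Matrix (Fin 3) (Fin 3) F) *ᵥ d l) =
        ∑ j, C i j * f ((A : Matrix (Fin 3) (Fin 3) F) *ᵥ d l) (d j) := by
      conv_lhs => rw [he]
      show Orth.sfl hf ((A : Matrix (Fin 3) (Fin 3) F) *ᵥ d l) (∑ j, _ • d j) = _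
      rw [map_sum]
      refine Finset.sum_congr rfl fun j _ => ?_
      rw [map_smul, smul_eq_mul, show Orth.sfl hf ((A : Matrix (Fin 3) (Fin 3) F) *ᵥ d l) (d j) =
        f (d j) ((A : Matrix (Fin 3) (Fin 3) F) *ᵥ d l) from rfl, hf.symm (d j)]
      rfl
    rw [Matrix.mul_apply, Matrix.smul_apply, Matrix.one_apply]
    have hCl : ∀ j, C i j * Cᵀ j l = C i j * f ((A : Matrix (Fin 3) (Fin 3) F) *ᵥ d l) (d j) * c⁻¹ := fun j => by
      rw [Matrix.transpose_apply, show C l j = f ((A : Matrix (Fin 3) (Fin 3) F) *ᵥ d l) (d j) / c from rfl,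
        div_eq_mul_inv, mul_assoc]
    rw [Finset.sum_congr rfl fun j _ => hCl j, ← Finset.sum_mul, ← hsum, h]
    by_cases hil : i = l
    · subst hil
      rw [hd.norm, if_pos rfl, smul_eq_mul, mul_one, mul_inv_cancel_right₀ hd.cne]
    · rw [hd.orth i l hil, if_neg hil, mul_zero, zero_mul, smul_zero]
  have hdet := congrArg Matrix.det hC
  rw [Matrix.det_mul, Matrix.det_transpose, Matrix.det_smul, Matrix.det_one, mul_one, Fintype.card_fin] at hdet
  refine ⟨C.det / μ, div_ne_zero (fun h => pow_ne_zero 3 hμ (by rw [← hdet, h, mul_zero])) hμ, ?_⟩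
  rw [div_mul_div_comm, hdet]
  field_simp

end Three

/-- the map exchanging the factors -/
def tauMap (e : ι ≃ Fin 3 × Fin 3) (P : GL ι F) : (ι → F) →ₗ[F] (ι → F) :=
  (Matrix.mulVecLin (P : Matrix ι ι F)).comp
    ((LinearMap.funLeft F F ((e.trans (Equiv.prodComm _ _)).trans e.symm)).comp
      (Matrix.mulVecLin ((P⁻¹ : GL ι F) : Matrix ι ι F)))

theorem tauMap_tvec (x y : Fin 3 → F) : tauMap e P (T x y) = T y x := by
  rw [tauMap, LinearMap.comp_apply, LinearMap.comp_apply, Matrix.mulVecLin_apply, Matrix.mulVecLin_apply,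
    tvec, gl_inv_mulVec, tvec]
  congr 1
  funext i
  simp [LinearMap.funLeft_apply, mul_comm]

theorem tauMap_tauMap (z : ι → F) : tauMap e P (tauMap e P z) = z := by
  refine LinearMap.congr_fun (lin_ext (e := e) (P := P) (f := (tauMap e P).comp (tauMap e P)) (g := LinearMap.id)
    fun x y => ?_) z
  show tauMap e P (tauMap e P (T x y)) = T x y
  rw [tauMap_tvec, tauMap_tvec]

/-- the element exchanging the factors -/
noncomputable def tau (e : ι ≃ Fin 3 × Fin 3) (P : GL ι F) : GL ι F :=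
  glInj (tauMap e P) (Function.LeftInverse.injective tauMap_tauMap)

theorem tau_tvec (x y : Fin 3 → F) : (tau e P : Matrix ι ι F) *ᵥ T x y = T y x := by
  rw [tau, glInj_mulVec, tauMap_tvec]

theorem tau_sq : tau e P * tau e P = 1 := gl_ext_tvec (e := e) (P := P) fun x y => by
  rw [gl_mul_mulVec, tau_tvec, tau_tvec, Units.val_one, one_mulVec]

theorem tau_inv : (tau e P)⁻¹ = tau e P := inv_eq_of_mul_eq_one_right tau_sq

theorem tau_conj (A B : GL (Fin 3) F) : tau e P * kg e P A B * tau e P = kg e P B A :=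
  gl_ext_tvec (e := e) (P := P) fun x y => by
    rw [gl_mul_mulVec, gl_mul_mulVec, tau_tvec, kg_tvec, tau_tvec, kg_tvec]

theorem exists_kg {g : GL ι F} (hg : g ∈ tensorProductSubgroup 3 3 e P) : ∃ A B, g = kg e P A B := by
  obtain ⟨A, B, h⟩ := mem_tensor hg
  exact ⟨A, B, gl_ext_tvec (e := e) (P := P) fun x y => by rw [h, kg_tvec]⟩

theorem tau_conj_mem {g : GL ι F} (hg : g ∈ tensorProductSubgroup 3 3 e P) :
    tau e P * g * tau e P ∈ tensorProductSubgroup 3 3 e P := by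
  obtain ⟨A, B, rfl⟩ := exists_kg hg
  rw [tau_conj]
  exact kg_mem B A

/-- the tensor product subgroup with the exchange of the factors -/
noncomputable def wreath (e : ι ≃ Fin 3 × Fin 3) (P : GL ι F) : Subgroup (GL ι F) where
  carrier := {g | g ∈ tensorProductSubgroup 3 3 e P ∨ g * tau e P ∈ tensorProductSubgroup 3 3 e P}
  one_mem' := Or.inl (one_mem _)
  mul_mem' := by
    rintro g h (hg | hg) (hh | hh)
    · exact Or.inl (mul_mem hg hh)
    · exact Or.inr (by rw [mul_assoc]; exact mul_mem hg hh)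
    · refine Or.inr ?_
      have := mul_mem hg (tau_conj_mem hh)
      rwa [show g * tau e P * (tau e P * h * tau e P) = g * (tau e P * tau e P) * h * tau e P by group,
        tau_sq, mul_one] at this
    · refine Or.inl ?_
      have := mul_mem hg (tau_conj_mem hh)
      rwa [show g * tau e P * (tau e P * (h * tau e P) * tau e P) =
          g * (tau e P * tau e P) * h * (tau e P * tau e P) by group, tau_sq, mul_one, mul_one] at this
  inv_mem' := by
    rintro g (hg | hg)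
    · exact Or.inl (inv_mem hg)
    · refine Or.inr ?_
      have := tau_conj_mem (inv_mem hg)
      rwa [show tau e P * (g * tau e P)⁻¹ * tau e P = (tau e P * (tau e P)⁻¹) * g⁻¹ * tau e P by group,
        mul_inv_cancel, one_mul] at this

theorem mem_wreath {g : GL ι F} : g ∈ wreath e P ↔
    g ∈ tensorProductSubgroup 3 3 e P ∨ g * tau e P ∈ tensorProductSubgroup 3 3 e P := Iff.rfl

theorem tensor_le_wreath : tensorProductSubgroup 3 3 e P ≤ wreath e P := fun g hg => Or.inl hg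

theorem tau_mem_wreath : tau e P ∈ wreath e P := Or.inr (by rw [tau_sq]; exact one_mem _)

/-- elements of odd order lie in the tensor product subgroup -/
theorem wreath_odd {g : GL ι F} (hg : g ∈ wreath e P) {n : ℕ} (hn : Odd n) (h1 : g ^ n = 1) :
    g ∈ tensorProductSubgroup 3 3 e P := by
  rcases hg with h | h
  · exact h
  obtain ⟨t, rfl⟩ := hn
  have h2 : g * g ∈ tensorProductSubgroup 3 3 e P := by
    have := mul_mem h (tau_conj_mem h)
    rwa [show g * tau e P * (tau e P * (g * tau e P) * tau e P) =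
      g * (tau e P * tau e P) * g * (tau e P * tau e P) by group, tau_sq, mul_one, mul_one] at this
  rw [pow_succ, pow_mul, sq, mul_eq_one_iff_inv_eq] at h1
  rw [← h1]
  exact inv_mem (pow_mem h2 t)

variable [Fintype F]

/-- uniqueness of the factors -/
theorem kg_unique {A A' B B' : GL (Fin 3) F} (h : kg e P A B = kg e P A' B') :
    ∃ l : F, l ≠ 0 ∧ (∀ x, (A' : Matrix (Fin 3) (Fin 3) F) *ᵥ x = l • ((A : Matrix (Fin 3) (Fin 3) F) *ᵥ x)) ∧
      ∀ y, (B : Matrix (Fin 3) (Fin 3) F) *ᵥ y = l • ((B' : Matrix (Fin 3) (Fin 3) F) *ᵥ y) := by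
  have hT : ∀ x y, T ((A : Matrix (Fin 3) (Fin 3) F) *ᵥ x) ((B : Matrix (Fin 3) (Fin 3) F) *ᵥ y) =
      T ((A' : Matrix (Fin 3) (Fin 3) F) *ᵥ x) ((B' : Matrix (Fin 3) (Fin 3) F) *ᵥ y) := fun x y => by
    rw [← kg_tvec, ← kg_tvec, h]
  obtain ⟨y0, hy0⟩ : ∃ y : Fin 3 → F, y ≠ 0 := ⟨Pi.single 0 1, by simp⟩
  obtain ⟨δ, hδ⟩ := exists_dot_one (show (B' : Matrix (Fin 3) (Fin 3) F) *ᵥ y0 ≠ 0 from
    fun h' => hy0 (gl_mulVec_eq_zero.1 h'))
  obtain ⟨l, hl⟩ : ∃ l, l = δ ⬝ᵥ ((B : Matrix (Fin 3) (Fin 3) F) *ᵥ y0) := ⟨_, rfl⟩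
  have hA : ∀ x, (A' : Matrix (Fin 3) (Fin 3) F) *ᵥ x = l • ((A : Matrix (Fin 3) (Fin 3) F) *ᵥ x) := fun x => by
    have e1 := congrArg (co e P δ) (hT x y0)
    rw [co_tvec, co_tvec, hδ, one_smul, ← hl] at e1
    exact e1.symm
  have hl0 : l ≠ 0 := fun h' => by
    have e1 := hA (Pi.single 0 1)
    rw [h', zero_smul] at e1
    simpa using gl_mulVec_eq_zero.1 e1
  refine ⟨l, hl0, hA, fun y => ?_⟩
  obtain ⟨x0, hx0⟩ : ∃ x : Fin 3 → F, x ≠ 0 := ⟨Pi.single 0 1, by simp⟩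
  refine tvec_right_inj (e := e) (P := P) (show (A : Matrix (Fin 3) (Fin 3) F) *ᵥ x0 ≠ 0 from
    fun h' => hx0 (gl_mulVec_eq_zero.1 h')) ?_
  rw [hT, hA, tvec_smul_left, tvec_smul_right]

variable {Q : (ι → F) → F} {f : (Fin 3 → F) → (Fin 3 → F) → F} {k : F} {M : Subgroup (GL ι F)}

/-- isometries of a form on three-space -/
def Isom (f : (Fin 3 → F) → (Fin 3 → F) → F) (A : GL (Fin 3) F) : Prop :=
  ∀ x x', f ((A : Matrix (Fin 3) (Fin 3) F) *ᵥ x) ((A : Matrix (Fin 3) (Fin 3) F) *ᵥ x') = f x x'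

/-- an isometry in the tensor product subgroup is a tensor product of isometries -/
theorem iso_data (D : OO Q f f e P k M) {g : GL ι F} (hg : g ∈ Cfsg.isometryGroup F Q)
    (hT : g ∈ tensorProductSubgroup 3 3 e P) : ∃ A B : GL (Fin 3) F, Isom f A ∧ Isom f B ∧ g = kg e P A B := by
  obtain ⟨A, B, μ, ν, hμν, hA, hB, rfl⟩ := D.tensor_data hg hT
  have hμ : μ ≠ 0 := fun h => by rw [h, zero_mul] at hμν; exact zero_ne_one hμν
  obtain ⟨l, hl0, hl⟩ := simil_square D.s1 D.two hμ hA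
  have hAinj : Function.Injective (l⁻¹ • Matrix.mulVecLin (A : Matrix (Fin 3) (Fin 3) F)) :=
    (injective_iff_map_eq_zero _).2 fun x hx => gl_mulVec_eq_zero.1
      ((smul_eq_zero.1 (show l⁻¹ • ((A : Matrix (Fin 3) (Fin 3) F) *ᵥ x) = 0 from hx)).resolve_left (inv_ne_zero hl0))
  have hBinj : Function.Injective (l • Matrix.mulVecLin (B : Matrix (Fin 3) (Fin 3) F)) :=
    (injective_iff_map_eq_zero _).2 fun x hx => gl_mulVec_eq_zero.1
      ((smul_eq_zero.1 (show l • ((B : Matrix (Fin 3) (Fin 3) F) *ᵥ x) = 0 from hx)).resolve_left hl0)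
  refine ⟨glInj _ hAinj, glInj _ hBinj, fun x x' => ?_, fun y y' => ?_, gl_ext_tvec (e := e) (P := P) fun x y => ?_⟩
  · rw [glInj_mulVec, glInj_mulVec]
    show f (l⁻¹ • ((A : Matrix (Fin 3) (Fin 3) F) *ᵥ x)) (l⁻¹ • ((A : Matrix (Fin 3) (Fin 3) F) *ᵥ x')) = _
    rw [D.s1.bilinear.smul_left, D.s1.bilinear.smul_right, hA, hl]
    field_simp
  · rw [glInj_mulVec, glInj_mulVec]
    show f (l • ((B : Matrix (Fin 3) (Fin 3) F) *ᵥ y)) (l • ((B : Matrix (Fin 3) (Fin 3) F) *ᵥ y')) = _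
    rw [D.s1.bilinear.smul_left, D.s1.bilinear.smul_right, hB]
    linear_combination (f y y') * hμν + (-(ν * f y y')) * hl
  · rw [kg_tvec, kg_tvec, glInj_mulVec, glInj_mulVec]
    show _ = T (l⁻¹ • ((A : Matrix (Fin 3) (Fin 3) F) *ᵥ x)) (l • ((B : Matrix (Fin 3) (Fin 3) F) *ᵥ y))
    rw [tvec_smul_left, tvec_smul_right, smul_smul, inv_mul_cancel₀ hl0, one_smul]

theorem tau_iso (D : OO Q f f e P k M) : tau e P ∈ Cfsg.isometryGroup F Q :=
  D.iso_ext fun x y x' y' => by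
    rw [tau_tvec, tau_tvec, D.pol, D.pol, mul_comm (f y y')]

/-- a one-sided reflection is the product of three reflections of one class -/
theorem reflL_three (D : OO Q f f e P k M) {d : Fin 3 → Fin 3 → F} {c : F} (hd : EFrame f d c) {a : Fin 3 → F}
    (ha : f a a ≠ 0) : ∃ r : Fin 3 → GL ι F, (∀ i, r i ∈ Cfsg.isometryGroup F Q ∧ IsRefl Q (T a (d i)) (r i)) ∧
      r 0 * (r 1 * r 2) = kg e P (refl D.s1 a ha) (1 : GL (Fin 3) F) := by
  have h : ∀ i, ∃ g ∈ Cfsg.isometryGroup F Q, IsRefl Q (T a (d i)) g ∧ ∀ x y, (g : Matrix ι ι F) *ᵥ T x y =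
      T x y - T ((2 * f x a / f a a) • a) ((f y (d i) / f (d i) (d i)) • d i) := fun i =>
    D.exists_refl_pure ha (hd.aniso i)
  choose r hr hrr hrT using h
  refine ⟨r, fun i => ⟨hr i, hrr i⟩, gl_ext_tvec (e := e) (P := P) fun x y => ?_⟩
  have hoff : ∀ i j, i ≠ j → ∀ z, (r i : Matrix ι ι F) *ᵥ T z (d j) = T z (d j) := fun i j hij z => by
    rw [hrT, hd.orth j i (Ne.symm hij), zero_div, zero_smul, tvec_zero_right, sub_zero]
  have hon : ∀ i z, (r i : Matrix ι ι F) *ᵥ T z (d i) =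
      T ((refl D.s1 a ha : Matrix (Fin 3) (Fin 3) F) *ᵥ z) (d i) := fun i z => by
    rw [hrT, div_self (hd.aniso i), one_smul, refl_mulVec, TensorOO.tvec_sub_left,
      show 2 / f a a * f z a = 2 * f z a / f a a by ring]
  have hbasis : ∀ j, ((r 0 * (r 1 * r 2) : GL ι F) : Matrix ι ι F) *ᵥ T x (d j) =
      T ((refl D.s1 a ha : Matrix (Fin 3) (Fin 3) F) *ᵥ x) (d j) := by
    intro j
    rw [gl_mul_mulVec, gl_mul_mulVec]
    rcases (by omega : j.val = 0 ∨ j.val = 1 ∨ j.val = 2) with h | h | h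
    · obtain rfl : j = 0 := Fin.ext h
      rw [hoff 2 0 (by decide), hoff 1 0 (by decide)]; exact hon 0 x
    · obtain rfl : j = 1 := Fin.ext h
      rw [hoff 2 1 (by decide), hon 1 x, hoff 0 1 (by decide)]
    · obtain rfl : j = 2 := Fin.ext h
      rw [hon 2 x, hoff 1 2 (by decide), hoff 0 2 (by decide)]
  rw [kg_tvec, Units.val_one, one_mulVec]
  conv_lhs => rw [frame_expand D.s1 hd.orth hd.aniso y, Fin.sum_univ_three]
  conv_rhs => rw [frame_expand D.s1 hd.orth hd.aniso y, Fin.sum_univ_three]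
  simp only [tvec_add_right, tvec_smul_right, mulVec_add, mulVec_smul, hbasis]

/-- modulo `Ω` the isometry group is covered by the tensor product subgroup -/
theorem exists_coset (D : OO Q f f e P k M) {g : GL ι F} (hg : g ∈ Cfsg.isometryGroup F Q) :
    ∃ u ∈ tensorProductSubgroup 3 3 e P, u ∈ Cfsg.isometryGroup F Q ∧ g * u ∈ omegaGL Q := by
  have h2 := D.two
  have hnorm : ∀ {g w : GL ι F}, g ∈ Cfsg.isometryGroup F Q → w ∈ omegaGL Q → g * w * g⁻¹ ∈ omegaGL Q := by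
    intro g w hg hw
    have := mul_mem (mem_omegaGL_comm (Q := Q) hg (omegaGL_le_iso hw)) hw
    rwa [show g * w * g⁻¹ * w⁻¹ * w = g * w * g⁻¹ by group] at this
  let S : Subgroup (GL ι F) :=
    { carrier := {g | g ∈ Cfsg.isometryGroup F Q ∧
        ∃ u ∈ tensorProductSubgroup 3 3 e P, u ∈ Cfsg.isometryGroup F Q ∧ g * u ∈ omegaGL Q}
      one_mem' := ⟨one_mem _, 1, one_mem _, one_mem _, by rw [mul_one]; exact one_mem _⟩
      mul_mem' := by
        rintro g h ⟨hgi, u, hu, hui, hgu⟩ ⟨hhi, v, hv, hvi, hhv⟩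
        refine ⟨mul_mem hgi hhi, v * u, mul_mem hv hu, mul_mem hvi hui, ?_⟩
        rw [show g * h * (v * u) = g * (h * v) * g⁻¹ * (g * u) by group]
        exact mul_mem (hnorm hgi hhv) hgu
      inv_mem' := by
        rintro g ⟨hgi, u, hu, hui, hgu⟩
        refine ⟨inv_mem hgi, u⁻¹, inv_mem hu, inv_mem hui, ?_⟩
        have h1 := hnorm (inv_mem hgi) (inv_mem hgu)
        rwa [show g⁻¹ * (g * u)⁻¹ * g⁻¹⁻¹ = g⁻¹ * u⁻¹ by group] at h1 }
  have hle : eRefl Q ≤ S := by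
    refine sup_le (fun x hx => ⟨eGroup_le_iso hx, 1, one_mem _, one_mem _, ?_⟩) ((Subgroup.closure_le _).2 ?_)
    · rw [mul_one]; exact eGroup_le_omega D.hQ D.hn hx
    rintro R ⟨hRi, v, hv, hR⟩
    obtain ⟨d, c, hd⟩ := exists_eframe D.s1 h2
    obtain ⟨a, ha, hsq⟩ : ∃ a : Fin 3 → F, f a a ≠ 0 ∧ ∀ i, IsSquare (Q (T a (d i)) / Q v) := by
      have ht : 2 * Q v / (k * c) ≠ 0 := div_ne_zero (mul_ne_zero h2 hv) (mul_ne_zero D.kne hd.cne)
      obtain ⟨a, -, ha⟩ := nd_value D.s1 h2 (nd_top D.s1) (by rw [top_finrank D.s1, Fintype.card_fin]; omega) ht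
      refine ⟨a, ha ▸ ht, fun i => ⟨1, ?_⟩⟩
      rw [D.Q_tvec, ha, hd.norm, mul_one]
      have := hd.cne
      have := D.kne
      field_simp
    obtain ⟨r, hr, hprod⟩ := reflL_three D hd ha
    refine ⟨hRi, kg e P (refl D.s1 a ha) 1, kg_mem _ _, D.kgL_iso (refl_iso D.s1 a ha), ?_⟩
    have hQ0 : ∀ i, Q (T a (d i)) ≠ 0 := fun i => by
      rw [D.Q_tvec, hd.norm]
      exact div_ne_zero (mul_ne_zero D.kne (mul_ne_zero ha hd.cne)) h2
    rw [← hprod, ← mul_assoc]
    refine mul_mem (refl_pair_omega' D.hQ D.hn hv (hQ0 0) (hsq 0) hRi (hr 0).1 hR (hr 0).2) ?_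
    refine refl_pair_omega' D.hQ D.hn (hQ0 1) (hQ0 2) ⟨1, ?_⟩ (hr 1).1 (hr 2).1 (hr 1).2 (hr 2).2
    rw [D.Q_tvec, D.Q_tvec, hd.norm, hd.norm, div_self (by
      have := hQ0 1; rwa [D.Q_tvec, hd.norm] at this), mul_one]
  exact (hle (iso_le_eRefl D.hQ hg)).2

/-- some element of `Ω` exchanges the factors -/
theorem exists_swap (D : OO Q f f e P k M) : ∃ σ ∈ omegaGL Q, σ * tau e P ∈ tensorProductSubgroup 3 3 e P := by
  obtain ⟨u, hu, -, h⟩ := exists_coset D (tau_iso D)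
  exact ⟨_, h, tau_conj_mem hu⟩

end CfsgLib.Perm.Trans.TensorSquare
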