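import Mathlib
import Cfsg.Agent.Lib.Perm.Trans.TensorSquare.Basic

/-!
# Conjugates of one-sided unipotent elements inside the wreath subgroup

If `g` conjugates `E ⊗ 1` (`E` an Eichler transformation) to an element of the wreath subgroup then `g` lies in it:
the one-parameter group through the conjugate would otherwise consist of pure tensors.
-/

set_option autoImplicit false
set_option linter.all false

namespace CfsgLib.Perm.Trans.TensorSquare

open scoped Matrix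
open Matrix Cfsg.Geo CfsgLib.Perm.Asch CfsgLib.Perm.Trans CfsgLib.Perm.Trans.TensorFrame
open CfsgLib.Perm.Trans.TensorMax CfsgLib.Perm.Trans.Quad CfsgLib.Perm.Trans.TensorSO CfsgLib.Perm.Trans.TensorOO

section Unip

variable {F : Type*} [Field F] [Fintype F] {f : (Fin 3 → F) → (Fin 3 → F) → F} {p : ℕ} [Fact p.Prime] [CharP F p]

/-- unipotent isometries of a three-space are Eichler transformations -/
theorem unip_eic (hf : IsSymmetricForm f) (h2 : (2 : F) ≠ 0) {A : GL (Fin 3) F} (hA : Isom f A) (hAp : A ^ p = 1)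
    (hA1 : A ≠ 1) : ∃ a w c, a ≠ 0 ∧ f a a = 0 ∧ f a w = 0 ∧ f w w ≠ 0 ∧ f c c = 0 ∧ f c a = 1 ∧ f c w = 0 ∧
      A = eic hf a w := by
  obtain ⟨N, hN⟩ : ∃ N, N = (A : Matrix (Fin 3) (Fin 3) F) - 1 := ⟨_, rfl⟩
  have hN3 : N ^ 3 = 0 := by
    have hnil : IsNilpotent N := ⟨p, by
      rw [hN, sub_pow_char_of_commute p (Commute.one_right (A : Matrix (Fin 3) (Fin 3) F)), ← Units.val_pow_eq_pow_val,
        hAp, Units.val_one, one_pow, sub_self]⟩
    have h := (Matrix.isNilpotent_charpoly_sub_pow_of_isNilpotent hnil).eq_zero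
    rw [Fintype.card_fin, sub_eq_zero] at h
    have h' := Matrix.aeval_self_charpoly N
    rwa [h, map_pow, Polynomial.aeval_X] at h'
  obtain ⟨L, hL⟩ : ∃ L, L = Matrix.mulVecLin (A : Matrix (Fin 3) (Fin 3) F) - LinearMap.id := ⟨_, rfl⟩
  have hLx : ∀ x, L x = (A : Matrix (Fin 3) (Fin 3) F) *ᵥ x - x := fun x => by rw [hL]; rfl
  have hLN : ∀ x, L x = N *ᵥ x := fun x => by rw [hLx, hN, sub_mulVec, one_mulVec]
  have hL3 : ∀ x, L (L (L x)) = 0 := fun x => by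
    rw [hLN, hLN, hLN, mulVec_mulVec, mulVec_mulVec, ← pow_two, ← pow_succ N 2]
    simp [hN3]
  -- the rank of `A - 1` is two
  have hsmall : ¬ 2 ≤ Module.finrank F (LinearMap.ker L) := fun h => hA1 (gl_ext_vec fun y => by
    rw [Units.val_one, one_mulVec]
    refine unip_rank_one hf h2 (p := p) hA (by rw [← Units.val_pow_eq_pow_val, hAp, Units.val_one]) ?_ y
    rw [← hL]; omega)
  obtain ⟨c₀, hc₀⟩ : ∃ c₀, L (L c₀) ≠ 0 := by
    by_contra hcon
    push Not at hcon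
    have h1 : LinearMap.range L ≤ LinearMap.ker L := by
      rintro _ ⟨x, rfl⟩
      exact LinearMap.mem_ker.2 (hcon x)
    have h3 := L.finrank_range_add_finrank_ker
    rw [Module.finrank_fintype_fun_eq_card, Fintype.card_fin] at h3
    have := Submodule.finrank_mono h1
    omega
  obtain ⟨a, ha⟩ : ∃ a, a = L (L c₀) := ⟨_, rfl⟩
  rw [← ha] at hc₀
  have hker : LinearMap.ker L = Submodule.span F {a} := by
    refine (Submodule.eq_of_le_of_finrank_le ((Submodule.span_singleton_le_iff_mem _ _).2 ?_) ?_).symm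
    · rw [LinearMap.mem_ker, ha, hL3]
    · rw [finrank_span_singleton hc₀]; omega
  have hLa : L a = 0 := by rw [ha, hL3]
  have hAa : (A : Matrix (Fin 3) (Fin 3) F) *ᵥ a = a := sub_eq_zero.1 ((hLx a).symm.trans hLa)
  have hperp : ∀ z, f (L z) a = 0 := fun z => by
    rw [hLx, Orth.sym_sub_left hf]
    conv_lhs => arg 1; rw [← hAa, hA]
    rw [sub_self]
  have haa : f a a = 0 := by rw [← hperp (L c₀), ← ha]
  obtain ⟨c, -, hcc, hca⟩ := nd_partner hf h2 (nd_top hf) Submodule.mem_top hc₀ haa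
  have hac : f a c = 1 := (hf.symm a c).trans hca
  -- on the orthogonal of `a`
  have hline : ∀ x, f x a = 0 → ∃ μ : F, L x = μ • a := by
    intro x hx
    have hr : LinearMap.range L = LinearMap.ker (Orth.sfl hf a) := by
      refine Submodule.eq_of_le_of_finrank_le (fun z ⟨y, hy⟩ => LinearMap.mem_ker.2 (hy ▸ hperp y)) ?_
      have h3 := L.finrank_range_add_finrank_ker
      rw [hker, finrank_span_singleton hc₀, Module.finrank_fintype_fun_eq_card, Fintype.card_fin] at h3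
      have h4 := (Orth.sfl hf a).finrank_range_add_finrank_ker
      rw [Module.finrank_fintype_fun_eq_card, Fintype.card_fin] at h4
      have h5 : 1 ≤ Module.finrank F (LinearMap.range (Orth.sfl hf a)) := Submodule.one_le_finrank_iff.2 fun hbot => by
        have hm : f c a ∈ LinearMap.range (Orth.sfl hf a) := ⟨c, rfl⟩
        rw [hbot, Submodule.mem_bot, hca] at hm
        exact one_ne_zero hm
      omega
    obtain ⟨y, hy⟩ : x ∈ LinearMap.range L := hr ▸ LinearMap.mem_ker.2 hx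
    have hmem : L x ∈ LinearMap.ker L := LinearMap.mem_ker.2 (by rw [← hy, hL3])
    rw [hker] at hmem
    obtain ⟨μ, hμ⟩ := Submodule.mem_span_singleton.1 hmem
    exact ⟨μ, hμ.symm⟩
  obtain ⟨u, hu⟩ : ∃ u, u = L c := ⟨_, rfl⟩
  have hua : f u a = 0 := hu ▸ hperp c
  have hau : f a u = 0 := (hf.symm a u).trans hua
  have hAc : (A : Matrix (Fin 3) (Fin 3) F) *ᵥ c = c + u := by rw [hu, hLx]; abel
  obtain ⟨w, hw⟩ : ∃ w, w = u - f c u • a := ⟨_, rfl⟩
  have hcw : f c w = 0 := by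
    rw [hw, Orth.sym_sub_right hf, hf.bilinear.smul_right, hca, mul_one, sub_self]
  have haw : f a w = 0 := by
    rw [hw, Orth.sym_sub_right hf, hf.bilinear.smul_right, haa, mul_zero, hau, sub_zero]
  have hww : f w w = f u u := by
    rw [hw, Orth.sym_sub_left hf, Orth.sym_sub_right hf, Orth.sym_sub_right hf, hf.bilinear.smul_left,
      hf.bilinear.smul_right, hf.bilinear.smul_left, hf.bilinear.smul_right, hau, hua, haa]
    ring
  have hnorm : f u u = -(2 * f c u) := by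
    have h := hA c c
    rw [hAc, hf.bilinear.add_left, hf.bilinear.add_right, hf.bilinear.add_right, hcc, hf.symm u c] at h
    linear_combination h
  have hwne : f w w ≠ 0 := by
    intro h0
    obtain ⟨W, hW⟩ : ∃ W, W = Submodule.span F ({a, w} : Set (Fin 3 → F)) := ⟨_, rfl⟩
    have hz : ∀ x ∈ W, f x a = 0 ∧ f x w = 0 := by
      rw [hW]
      intro x hx
      obtain ⟨i, j, rfl⟩ := Submodule.mem_span_pair.1 hx
      simp only [hf.bilinear.add_left, hf.bilinear.smul_left, haa, haw, (hf.symm w a).trans haw, h0, mul_zero,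
        add_zero, and_self]
    have htwo := Orth.two_mul_finrank_le hf (W := W) fun x hx y hy => by
      rw [hW] at hy
      obtain ⟨i, j, rfl⟩ := Submodule.mem_span_pair.1 hy
      rw [hf.bilinear.add_right, hf.bilinear.smul_right, hf.bilinear.smul_right, (hz x hx).1, (hz x hx).2]
      ring
    rw [Fintype.card_fin] at htwo
    have hspan : Submodule.span F {a} = W := Submodule.eq_of_le_of_finrank_le
      ((Submodule.span_singleton_le_iff_mem _ _).2 (hW ▸ Submodule.subset_span (Set.mem_insert _ _)))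
      (by rw [finrank_span_singleton hc₀]; omega)
    obtain ⟨ν, hν⟩ := Submodule.mem_span_singleton.1
      (hspan ▸ hW ▸ Submodule.subset_span (Set.mem_insert_of_mem _ rfl) : w ∈ Submodule.span F {a})
    have hu0 : f c u = 0 := by
      have h' : (2 : F) * f c u = 0 := by linear_combination hnorm - (hww.symm.trans h0)
      exact (mul_eq_zero.1 h').resolve_left h2
    have hν0 : ν = 0 := by rw [← hν, hf.bilinear.smul_right, hca, mul_one] at hcw; exact hcw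
    have hu00 : u = 0 := by
      rw [hν0, zero_smul, hw, hu0, zero_smul, sub_zero] at hν
      exact hν.symm
    have hmem : c ∈ LinearMap.ker L := LinearMap.mem_ker.2 (hu ▸ hu00)
    rw [hker] at hmem
    obtain ⟨t, ht⟩ := Submodule.mem_span_singleton.1 hmem
    rw [← ht, hf.bilinear.smul_left, haa, mul_zero] at hca
    exact zero_ne_one hca
  refine ⟨a, w, c, hc₀, haa, haw, hwne, hcc, hca, hcw, gl_ext_vec fun z => ?_⟩
  obtain ⟨x, hx⟩ : ∃ x, x = z - f z a • c := ⟨_, rfl⟩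
  have hxa : f x a = 0 := by rw [hx, Orth.sym_sub_left hf, hf.bilinear.smul_left, hca, mul_one, sub_self]
  obtain ⟨μ, hμ⟩ := hline x hxa
  have hAx : (A : Matrix (Fin 3) (Fin 3) F) *ᵥ x = x + μ • a := by rw [← hμ, hLx]; abel
  have hμv : μ = -f x u := by
    have h := hA x c
    rw [hAx, hAc, hf.bilinear.add_left, hf.bilinear.add_right, hf.bilinear.add_right, hf.bilinear.smul_left,
      hf.bilinear.smul_left, hac, hau] at h
    linear_combination h
  have hz : z = x + f z a • c := by rw [hx]; abel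
  have hwu : u = w + f c u • a := by rw [hw]; abel
  have hfxu : f x u = f x w := by
    conv_lhs => rw [hwu]
    rw [hf.bilinear.add_right, hf.bilinear.smul_right, hxa, mul_zero, add_zero]
  rw [eic_mulVec hf h2 haa haw]
  conv_lhs => rw [hz, mulVec_add, mulVec_smul, hAx, hAc, hwu, hμv, hfxu]
  have hzw : f z w = f x w := by
    conv_lhs => rw [hz]
    rw [hf.bilinear.add_left, hf.bilinear.smul_left, hcw, mul_zero, add_zero]
  rw [hzw, hx, show f c u = -(f w w / 2) from by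
    rw [eq_neg_iff_add_eq_zero]
    field_simp
    linear_combination hww + hnorm]
  module

end Unip

variable {ι : Type} [Fintype ι] [DecidableEq ι] {F : Type*} [Field F] [Fintype F]
variable {e : ι ≃ Fin 3 × Fin 3} {P : GL ι F}
variable {Q : (ι → F) → F} {f : (Fin 3 → F) → (Fin 3 → F) → F} {k : F} {M : Subgroup (GL ι F)}

local notation "T" => tvec e P

/-- a proper overgroup of the stabiliser of a tensor square -/
structure Sq (Q : (ι → F) → F) (f : (Fin 3 → F) → (Fin 3 → F) → F) (e : ι ≃ Fin 3 × Fin 3) (P : GL ι F) (k : F)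
    (M : Subgroup (GL ι F)) : Prop where
  oo : OO Q f f e P k M
  wmem : wreath e P ⊓ omegaGL Q ≤ M
  full : ¬ omegaGL Q ≤ M

variable (S : Sq Q f e P k M)
include S

theorem Sq.exists_sigma : ∃ σ ∈ M, σ ∈ wreath e P ∧ ∃ A B, σ = kg e P A B * tau e P := by
  obtain ⟨σ, hσ, hT⟩ := exists_swap S.oo
  obtain ⟨A, B, hAB⟩ := exists_kg hT
  exact ⟨σ, S.wmem ⟨Or.inr hT, hσ⟩, Or.inr hT, A, B, by rw [← hAB, mul_assoc, tau_sq, mul_one]⟩

/-- the factors of an element of order dividing `p` -/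
theorem Sq.pdata {p : ℕ} [Fact p.Prime] [CharP F p] {g : GL ι F} (hg : g ∈ M)
    (hT : g ∈ tensorProductSubgroup 3 3 e P) (hgp : g ^ p = 1) :
    ∃ A B, Isom f A ∧ Isom f B ∧ A ^ p = 1 ∧ B ^ p = 1 ∧ g = kg e P A B := by
  have hf := S.oo.s1
  obtain ⟨A, B, hA, hB, rfl⟩ := iso_data S.oo (S.oo.le_iso hg) hT
  rw [TensorOO.kg_pow, ← kg_one (e := e) (P := P)] at hgp
  obtain ⟨l, hl0, hl1, hl2⟩ := kg_unique hgp.symm
  simp only [Units.val_one, one_mulVec] at hl1 hl2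
  -- `A ^ p = l` and `B ^ p = l⁻¹`, with `l = ± 1`
  have hpowI : ∀ n : ℕ, Isom f (A ^ n) := fun n => by
    induction n with
    | zero => intro x x'; simp
    | succ n ih => intro x x'; rw [pow_succ, gl_mul_mulVec, gl_mul_mulVec, ih, hA]
  obtain ⟨x1, x2, hx12⟩ := S.oo.exists_pair₁
  have hl : l * l = 1 := by
    have h := hpowI p x1 x2
    rw [hl1, hl1, hf.bilinear.smul_left, hf.bilinear.smul_right, hx12] at h
    linear_combination h
  have hlp : l ^ p = l := by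
    obtain ⟨t, ht⟩ : Odd p := (Fact.out : p.Prime).odd_of_ne_two fun h => S.oo.two (by
      have hp0 : ((p : ℕ) : F) = 0 := CharP.cast_eq_zero F p
      rwa [h, Nat.cast_ofNat] at hp0)
    rw [ht, pow_succ, pow_mul, sq, hl, one_pow, one_mul]
  have hscale : ∀ C : GL (Fin 3) F, ∃ C' : GL (Fin 3) F, ∀ x, (C' : Matrix (Fin 3) (Fin 3) F) *ᵥ x =
      l • ((C : Matrix (Fin 3) (Fin 3) F) *ᵥ x) := fun C => ⟨glInj (l • Matrix.mulVecLin (C : Matrix (Fin 3) (Fin 3) F))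
    ((injective_iff_map_eq_zero _).2 fun x hx => gl_mulVec_eq_zero.1
      ((smul_eq_zero.1 (show l • ((C : Matrix (Fin 3) (Fin 3) F) *ᵥ x) = 0 from hx)).resolve_left hl0)),
    fun x => by rw [glInj_mulVec]; rfl⟩
  obtain ⟨A', hA'⟩ := hscale A
  obtain ⟨B', hB'⟩ := hscale B
  have hiso : ∀ C C' : GL (Fin 3) F, Isom f C → (∀ x, (C' : Matrix (Fin 3) (Fin 3) F) *ᵥ x =
      l • ((C : Matrix (Fin 3) (Fin 3) F) *ᵥ x)) → Isom f C' := fun C C' hC h x x' => by
    rw [h, h, hf.bilinear.smul_left, hf.bilinear.smul_right, hC, ← mul_assoc, hl, one_mul]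
  have hpow : ∀ C C' : GL (Fin 3) F, (∀ x, (C' : Matrix (Fin 3) (Fin 3) F) *ᵥ x =
      l • ((C : Matrix (Fin 3) (Fin 3) F) *ᵥ x)) → ∀ (n : ℕ) x, ((C' ^ n : GL (Fin 3) F) : Matrix (Fin 3) (Fin 3) F) *ᵥ x =
      l ^ n • (((C ^ n : GL (Fin 3) F) : Matrix (Fin 3) (Fin 3) F) *ᵥ x) := fun C C' h n => by
    induction n with
    | zero => simp
    | succ n ih => intro x; rw [pow_succ C', pow_succ C, gl_mul_mulVec, h, mulVec_smul, ih, gl_mul_mulVec, smul_smul,
        pow_succ' l]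
  refine ⟨A', B', hiso A A' hA hA', hiso B B' hB hB', gl_ext_vec fun x => ?_, gl_ext_vec fun x => ?_,
    gl_ext_tvec (e := e) (P := P) fun x y => ?_⟩
  · rw [hpow A A' hA', hlp, hl1, smul_smul, hl, one_smul, Units.val_one, one_mulVec]
  · rw [hpow B B' hB', hlp, Units.val_one, one_mulVec, ← hl2 x]
  · rw [kg_tvec, kg_tvec, hA', hB', tvec_smul_left, tvec_smul_right, smul_smul, hl, one_smul]

/-- conjugates of one-sided unipotent elements lie in the wreath subgroup only trivially -/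
theorem Sq.step_left {a w : Fin 3 → F} (ha : a ≠ 0) (haa : f a a = 0) (haw : f a w = 0) (hww : f w w ≠ 0)
    {g : GL ι F} (hg : g ∈ M)
    (hy : g * kg e P (eic S.oo.s1 a w) (1 : GL (Fin 3) F) * g⁻¹ ∈ wreath e P) : g ∈ wreath e P := by
  have D := S.oo
  have hf := D.s1
  have h2 := D.two
  obtain ⟨p, hp, hc, hodd⟩ := D.exists_char
  haveI := hc
  haveI : Fact p.Prime := ⟨hp⟩
  obtain ⟨E, hE⟩ : ∃ E, E = kg e P (eic D.s1 a w) (1 : GL (Fin 3) F) := ⟨_, rfl⟩
  change g * kg e P (eic D.s1 a w) (1 : GL (Fin 3) F) * g⁻¹ ∈ wreath e P at hy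
  rw [← hE] at hy
  have hEM : E ∈ M := hE ▸ D.eicL_mem haa haw
  have hEp : E ^ p = 1 := by rw [hE, TensorOO.kg_pow, one_pow, eic_pow_char hf h2 haa haw, kg_one]
  obtain ⟨y, hyd⟩ : ∃ y, y = g * E * g⁻¹ := ⟨_, rfl⟩
  rw [← hyd] at hy
  have hyM : y ∈ M := hyd ▸ mul_mem (mul_mem hg hEM) (inv_mem hg)
  have hyp : y ^ p = 1 := by rw [hyd, conj_pow, hEp, mul_one, mul_inv_cancel]
  obtain ⟨A, B, hA, hB, hAp, hBp, hAB⟩ := S.pdata hyM (wreath_odd hy hodd hyp) hyp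
  by_cases hB1 : B = 1
  · refine Or.inl (D.recog S.full ha haa haw hww hg (A := A) (B := 1) (l := 1) ?_ (fun z => by simp))
    rw [← hE, ← hyd, hAB, hB1]
  by_cases hA1 : A = 1
  · obtain ⟨σ, hσM, hσW, A₀, B₀, hσ⟩ := S.exists_sigma
    have h : σ * g ∈ tensorProductSubgroup 3 3 e P := by
      refine D.recog S.full ha haa haw hww (mul_mem hσM hg) (A := A₀ * B * A₀⁻¹) (B := 1) (l := 1) ?_ (fun z => by simp)
      rw [← hE, show σ * g * E * (σ * g)⁻¹ = σ * (g * E * g⁻¹) * σ⁻¹ by group, ← hyd, hAB, hA1, hσ,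
        show kg e P A₀ B₀ * tau e P * kg e P 1 B * (kg e P A₀ B₀ * tau e P)⁻¹ =
          kg e P A₀ B₀ * (tau e P * kg e P 1 B * (tau e P)⁻¹) * (kg e P A₀ B₀)⁻¹ by group, tau_inv, tau_conj,
        TensorOO.kg_inv, TensorOO.kg_mul, TensorOO.kg_mul, mul_one, mul_inv_cancel]
    have := mul_mem (inv_mem hσW) (tensor_le_wreath h)
    rwa [inv_mul_cancel_left] at this
  exfalso
  obtain ⟨a₁, w₁, c, ha₁, haa₁, haw₁, hww₁, hcc, hca, hcw, rfl⟩ := unip_eic hf h2 (p := p) hA hAp hA1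
  obtain ⟨b₁, z₁, d, hb₁, hbb₁, hbz₁, hzz₁, hdd, hdb, hdz, rfl⟩ := unip_eic hf h2 (p := p) hB hBp hB1
  obtain ⟨E', hE'⟩ : ∃ E', E' = kg e P (eic hf a₁ w₁) (1 : GL (Fin 3) F) := ⟨_, rfl⟩
  have hE'M : E' ∈ M := hE' ▸ D.eicL_mem haa₁ haw₁
  have hcomm : E' * y = y * E' := by rw [hE', hAB, TensorOO.kg_mul, TensorOO.kg_mul, one_mul, mul_one]
  obtain ⟨t, ht0, ht1⟩ := D.rhex.resolve_left (by omega)
  obtain ⟨Et, hEt⟩ : ∃ Et, Et = kg e P (eic hf a (t • w)) (1 : GL (Fin 3) F) := ⟨_, rfl⟩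
  have hatw : f a (t • w) = 0 := by rw [hf.bilinear.smul_right, haw, mul_zero]
  have hanw : f a (-w) = 0 := by rw [Orth.sym_neg_right hf, haw, neg_zero]
  have hEtM : Et ∈ M := hEt ▸ D.eicL_mem haa hatw
  have hEinv : E⁻¹ = kg e P (eic hf a (-w)) (1 : GL (Fin 3) F) := by
    refine inv_eq_of_mul_eq_one_right ?_
    rw [hE, TensorOO.kg_mul, one_mul, eic_mul hf h2 haa haw hanw, add_neg_cancel, eic_zero hf h2 haa, kg_one]
  -- the one-parameter group is polynomial in `E`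
  have hpoly : ∀ z, (Et : Matrix ι ι F) *ᵥ z = z + (t / 2) • ((E : Matrix ι ι F) *ᵥ z - ((E⁻¹ : GL ι F) : Matrix ι ι F) *ᵥ z) +
      (t * t / 2) • ((E : Matrix ι ι F) *ᵥ z + ((E⁻¹ : GL ι F) : Matrix ι ι F) *ᵥ z - (2 : F) • z) := by
    intro z
    rw [hEt, hE] at *
    rw [hEinv]
    rw [D.eicL_mulVec haa hatw, D.eicL_mulVec haa haw, D.eicL_mulVec haa hanw, D.cob_smul_left,
      show D.cob (-w) z = -D.cob w z by rw [← neg_one_smul F w, D.cob_smul_left, neg_one_smul]]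
    simp only [hf.bilinear.smul_left, hf.bilinear.smul_right, Orth.sym_neg_left hf, Orth.sym_neg_right hf,
      TensorOO.tvec_neg_right, TensorOO.tvec_neg_left, tvec_smul_left, tvec_smul_right, neg_neg]
    match_scalars <;> field_simp <;> ring
  obtain ⟨Y, hY⟩ : ∃ Y, Y = g * Et * g⁻¹ := ⟨_, rfl⟩
  have hYM : Y ∈ M := hY ▸ mul_mem (mul_mem hg hEtM) (inv_mem hg)
  have hgy : g⁻¹ * E' * g * E = E * (g⁻¹ * E' * g) := by
    have h := congrArg (fun u => g⁻¹ * u * g) hcomm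
    simp only [hyd] at h
    calc g⁻¹ * E' * g * E = g⁻¹ * (E' * (g * E * g⁻¹)) * g := by group
      _ = g⁻¹ * (g * E * g⁻¹ * E') * g := h
      _ = E * (g⁻¹ * E' * g) := by group
  have hYT : Y ∈ tensorProductSubgroup 3 3 e P := by
    refine D.centralizer_eicL S.full ha₁ haa₁ haw₁ hww₁ hYM ?_
    rw [← hE']
    have hh : g⁻¹ * E' * g * Et = Et * (g⁻¹ * E' * g) := by
      obtain ⟨h, hh⟩ : ∃ h, h = g⁻¹ * E' * g := ⟨_, rfl⟩
      rw [← hh] at hgy ⊢
      have hgy' : h * E⁻¹ = E⁻¹ * h := ((show Commute h E from hgy).inv_right).eq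
      refine gl_ext_vec fun z => ?_
      rw [gl_mul_mulVec, gl_mul_mulVec, hpoly, hpoly]
      simp only [mulVec_add, mulVec_sub, mulVec_smul, ← gl_mul_mulVec, hgy, hgy']
    rw [hY]
    calc g * Et * g⁻¹ * E' = g * (Et * (g⁻¹ * E' * g)) * g⁻¹ := by group
      _ = g * (g⁻¹ * E' * g * Et) * g⁻¹ := by rw [hh]
      _ = E' * (g * Et * g⁻¹) := by group
  obtain ⟨A₂, B₂, hA₂B₂⟩ := exists_kg hYT
  have hYz : ∀ z, (Y : Matrix ι ι F) *ᵥ z = z + (t / 2) • ((y : Matrix ι ι F) *ᵥ z - ((y⁻¹ : GL ι F) : Matrix ι ι F) *ᵥ z) +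
      (t * t / 2) • ((y : Matrix ι ι F) *ᵥ z + ((y⁻¹ : GL ι F) : Matrix ι ι F) *ᵥ z - (2 : F) • z) := by
    intro z
    have hyi : y⁻¹ = g * E⁻¹ * g⁻¹ := by rw [hyd]; group
    rw [hY, gl_mul_mulVec, gl_mul_mulVec, hpoly, hyi, hyd]
    simp only [gl_mul_mulVec, mulVec_add, mulVec_sub, mulVec_smul, gl_mulVec_inv]
  have hyinv : y⁻¹ = kg e P (eic hf a₁ (-w₁)) (eic hf b₁ (-z₁)) := by
    refine inv_eq_of_mul_eq_one_right ?_
    have e1 : f a₁ (-w₁) = 0 := by rw [Orth.sym_neg_right hf, haw₁, neg_zero]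
    have e2 : f b₁ (-z₁) = 0 := by rw [Orth.sym_neg_right hf, hbz₁, neg_zero]
    rw [hAB, TensorOO.kg_mul, eic_mul hf h2 haa₁ haw₁ e1, eic_mul hf h2 hbb₁ hbz₁ e2, add_neg_cancel, add_neg_cancel,
      eic_zero hf h2 haa₁, eic_zero hf h2 hbb₁, kg_one]
  obtain ⟨h₁, hh₁⟩ : ∃ h, h = f w₁ w₁ / 2 := ⟨_, rfl⟩
  obtain ⟨h₂, hh₂⟩ : ∃ h, h = f z₁ z₁ / 2 := ⟨_, rfl⟩
  have hup : (eic hf a₁ w₁ : Matrix (Fin 3) (Fin 3) F) *ᵥ c = c + w₁ - h₁ • a₁ := by
    rw [eic_mulVec hf h2 haa₁ haw₁, hca, hcw, one_smul, zero_smul, sub_zero, mul_one, hh₁]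
  have hum : (eic hf a₁ (-w₁) : Matrix (Fin 3) (Fin 3) F) *ᵥ c = c - w₁ - h₁ • a₁ := by
    rw [eic_mulVec hf h2 haa₁ (by rw [Orth.sym_neg_right hf, haw₁, neg_zero]), hca, Orth.sym_neg_right hf, hcw,
      one_smul, neg_zero, zero_smul, sub_zero, mul_one, Orth.sym_neg_left hf, Orth.sym_neg_right hf, neg_neg, hh₁,
      sub_eq_add_neg c w₁]
  have hvp : (eic hf b₁ z₁ : Matrix (Fin 3) (Fin 3) F) *ᵥ d = d + z₁ - h₂ • b₁ := by
    rw [eic_mulVec hf h2 hbb₁ hbz₁, hdb, hdz, one_smul, zero_smul, sub_zero, mul_one, hh₂]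
  have hvm : (eic hf b₁ (-z₁) : Matrix (Fin 3) (Fin 3) F) *ᵥ d = d - z₁ - h₂ • b₁ := by
    rw [eic_mulVec hf h2 hbb₁ (by rw [Orth.sym_neg_right hf, hbz₁, neg_zero]), hdb, Orth.sym_neg_right hf, hdz,
      one_smul, neg_zero, zero_smul, sub_zero, mul_one, Orth.sym_neg_left hf, Orth.sym_neg_right hf, neg_neg, hh₂,
      sub_eq_add_neg d z₁]
  obtain ⟨X, Z, hXZ⟩ : ∃ X Z, (Y : Matrix ι ι F) *ᵥ T c d = T X Z :=
    ⟨_, _, by rw [hA₂B₂, kg_tvec]⟩
  have key := hYz (T c d)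
  rw [hXZ, hyinv, hAB, kg_tvec, kg_tvec, hup, hum, hvp, hvm] at key
  have hwa₁ : f w₁ a₁ = 0 := (hf.symm w₁ a₁).trans haw₁
  have hzb₁ : f z₁ b₁ = 0 := (hf.symm z₁ b₁).trans hbz₁
  have hzd : f z₁ d = 0 := (hf.symm z₁ d).trans hdz
  have hbd : f b₁ d = 1 := (hf.symm b₁ d).trans hdb
  have hw1 : f w₁ w₁ = 2 * h₁ := by rw [hh₁]; field_simp
  have k1 := congrArg (D.cob a₁) key
  have k2 := congrArg (D.cob w₁) key
  simp only [map_add, map_sub, map_smul, D.cob_tvec, Orth.sym_sub_left hf, hf.bilinear.add_left,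
    hf.bilinear.smul_left, hca, hwa₁, haa₁, hcw, hw1, haw₁, mul_zero, sub_zero, add_zero, zero_add] at k1 k2
  obtain ⟨β, hβ⟩ : ∃ β, β = f Z b₁ := ⟨_, rfl⟩
  obtain ⟨δ, hδ⟩ : ∃ δ, δ = f Z d := ⟨_, rfl⟩
  have p1 := congrArg (fun v => f v b₁) k1
  have p2 := congrArg (fun v => f v d) k1
  have p3 := congrArg (fun v => f v b₁) k2
  have p4 := congrArg (fun v => f v d) k2
  simp only [Orth.sym_sub_left hf, hf.bilinear.add_left, hf.bilinear.smul_left, hdb, hzb₁, hbb₁, hdd, hzd, hbd,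
    Orth.sym_zero_left hf, mul_zero, sub_zero, add_zero, zero_add, mul_one, zero_sub, ← hβ, ← hδ] at p1 p2 p3 p4
  have q1 : f X a₁ * β = 1 := by rw [p1]; ring
  have q2 : f X a₁ * δ = -(t * t) * h₂ := by rw [p2]; field_simp; ring
  have q3 : f X w₁ * β = 2 * h₁ * t := by rw [p3]; field_simp; ring
  have q4 : f X w₁ * δ = -(2 * h₁ * t * h₂) := by rw [p4]; field_simp; ring
  have h0 : 2 * h₁ * h₂ * (t * (1 - t * t)) = 0 := by
    have h1 : f X a₁ * β * (f X w₁ * δ) = f X w₁ * β * (f X a₁ * δ) := by ring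
    rw [q1, q2, q3, q4] at h1
    linear_combination -h1
  have hh₁0 : h₁ ≠ 0 := fun h => hww₁ (by rw [hw1, h, mul_zero])
  have hh₂0 : h₂ ≠ 0 := fun h => by
    rw [hh₂, div_eq_zero_iff] at h
    exact h.elim hzz₁ h2
  rcases mul_eq_zero.1 h0 with h | h
  · exact mul_ne_zero (mul_ne_zero h2 hh₁0) hh₂0 h
  rcases mul_eq_zero.1 h with h | h
  · exact ht0 h
  · exact ht1 (sub_eq_zero.1 h).symm

/-- the same on the right -/
theorem Sq.step_right {b w : Fin 3 → F} (hb : b ≠ 0) (hbb : f b b = 0) (hbw : f b w = 0) (hww : f w w ≠ 0)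
    {g : GL ι F} (hg : g ∈ M)
    (hy : g * kg e P (1 : GL (Fin 3) F) (eic S.oo.s1 b w) * g⁻¹ ∈ wreath e P) : g ∈ wreath e P := by
  have hf := S.oo.s1
  have h2 := S.oo.two
  obtain ⟨σ, hσM, hσW, A₀, B₀, hσ⟩ := S.exists_sigma
  have hσT : σ * tau e P ∈ tensorProductSubgroup 3 3 e P := by
    rw [hσ, mul_assoc, tau_sq, mul_one]; exact kg_mem _ _
  obtain ⟨A₁, B₁, hA₁, hB₁, hAB⟩ := iso_data S.oo (mul_mem (S.oo.le_iso hσM) (tau_iso S.oo)) hσT
  have hσ' : σ = kg e P A₁ B₁ * tau e P := by rw [← hAB, mul_assoc, tau_sq, mul_one]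
  have hconj : σ * kg e P (1 : GL (Fin 3) F) (eic S.oo.s1 b w) * σ⁻¹ =
      kg e P (eic S.oo.s1 ((A₁ : Matrix (Fin 3) (Fin 3) F) *ᵥ b) ((A₁ : Matrix (Fin 3) (Fin 3) F) *ᵥ w))
        (1 : GL (Fin 3) F) := by
    rw [hσ', show kg e P A₁ B₁ * tau e P * kg e P 1 (eic S.oo.s1 b w) * (kg e P A₁ B₁ * tau e P)⁻¹ =
      kg e P A₁ B₁ * (tau e P * kg e P 1 (eic S.oo.s1 b w) * (tau e P)⁻¹) * (kg e P A₁ B₁)⁻¹ by group, tau_inv,
      tau_conj, TensorOO.kg_inv, TensorOO.kg_mul, TensorOO.kg_mul, mul_one, mul_inv_cancel, eic_conj hf h2 hbb hbw hA₁]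
  have h := S.step_left (fun h => hb (gl_mulVec_eq_zero.1 h)) (by rw [hA₁, hbb]) (by rw [hA₁, hbw]) (by rw [hA₁]; exact hww)
    (g := g * σ⁻¹) (mul_mem hg (inv_mem hσM)) (by
      rw [← hconj, show g * σ⁻¹ * (σ * kg e P (1 : GL (Fin 3) F) (eic S.oo.s1 b w) * σ⁻¹) * (g * σ⁻¹)⁻¹ =
        g * kg e P (1 : GL (Fin 3) F) (eic S.oo.s1 b w) * g⁻¹ by group]
      exact hy)
  have := mul_mem h hσW
  rwa [inv_mul_cancel_right] at this

/-- the centraliser of a one-sided unipotent element -/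
theorem Sq.centralizer_eicR {b w : Fin 3 → F} (hb : b ≠ 0) (hbb : f b b = 0) (hbw : f b w = 0) (hww : f w w ≠ 0)
    {g : GL ι F} (hg : g ∈ M)
    (hcomm : g * kg e P (1 : GL (Fin 3) F) (eic S.oo.s1 b w) = kg e P (1 : GL (Fin 3) F) (eic S.oo.s1 b w) * g) :
    g ∈ tensorProductSubgroup 3 3 e P := by
  rw [← tensor_swap]
  refine S.oo.swap.centralizer_eicL S.full hb hbb hbw hww hg ?_
  rw [kg_swap]
  exact hcomm

end CfsgLib.Perm.Trans.TensorSquare
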