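import Mathlib
import Cfsg.Agent.Lib.Perm.Trans.TensorSquare.StepA
import Cfsg.Agent.Lib.Perm.Trans.TensorSquare.Five
import Cfsg.Agent.Lib.Orth.DetInvol
import Cfsg.Agent.Lib.Perm.Trans.OrthExt.Three.Axis

/-!
# Elements fixing `d ⊗ W`, and the centraliser of a standard involution

For an anisotropic `d` in an orthogonal frame of equal norms, the elements of the overgroup fixing `d ⊗ W`
pointwise form a `p'`-group normalised by a root group of the second factor, hence lie in the tensor product subgroup.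
-/

set_option autoImplicit false
set_option linter.all false

namespace CfsgLib.Perm.Trans.TensorSquare

open scoped Matrix
open Matrix Cfsg.Geo CfsgLib.Perm.Asch CfsgLib.Perm.Trans CfsgLib.Perm.Trans.TensorFrame
open CfsgLib.Perm.Trans.TensorMax CfsgLib.Perm.Trans.Quad CfsgLib.Perm.Trans.TensorSO CfsgLib.Perm.Trans.TensorOO

variable {ι : Type} [Fintype ι] [DecidableEq ι] {F : Type*} [Field F] [Fintype F]
variable {e : ι ≃ Fin 3 × Fin 3} {P : GL ι F}
variable {Q : (ι → F) → F} {f : (Fin 3 → F) → (Fin 3 → F) → F} {k : F} {M : Subgroup (GL ι F)}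

local notation "T" => tvec e P

/-- the involution fixing the line `d 0` -/
theorem rr_formula (hf : IsSymmetricForm f) (h2 : (2 : F) ≠ 0) {d : Fin 3 → Fin 3 → F} {c : F} (hd : EFrame f d c)
    (x : Fin 3 → F) : (rr hf (hd.aniso 1) (hd.aniso 2) : Matrix (Fin 3) (Fin 3) F) *ᵥ x =
      -x + (2 * (c⁻¹ * f x (d 0))) • d 0 := by
  rw [rr, gl_mul_mulVec, refl_mulVec, refl_mulVec]
  simp only [Orth.sym_sub_left hf, hf.bilinear.smul_left, hd.norm, hd.orth 2 1 (by decide)]
  conv_rhs => rw [frame_expand hf hd.orth hd.aniso x, Fin.sum_univ_three]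
  simp only [hd.norm, hf.bilinear.add_left, hf.bilinear.smul_left, hd.orth 1 0 (by decide),
    hd.orth 2 0 (by decide)]
  conv_lhs => arg 1; arg 1; rw [frame_expand hf hd.orth hd.aniso x, Fin.sum_univ_three]
  simp only [hd.norm]
  have := hd.cne
  match_scalars <;> field_simp <;> ring

variable (S : Sq Q f e P k M)
include S

/-- the one-sided involution on the whole space -/
theorem Sq.invol_apply {d : Fin 3 → Fin 3 → F} {c : F} (hd : EFrame f d c) (z : ι → F) :
    (kg e P (rr S.oo.s1 (hd.aniso 1) (hd.aniso 2)) (1 : GL (Fin 3) F) : Matrix ι ι F) *ᵥ z =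
      -z + (2 : F) • T (d 0) (c⁻¹ • S.oo.cob (d 0) z) := by
  refine LinearMap.congr_fun (lin_ext (e := e) (P := P)
    (f := Matrix.mulVecLin (kg e P (rr S.oo.s1 (hd.aniso 1) (hd.aniso 2)) (1 : GL (Fin 3) F) : Matrix ι ι F))
    (g := -LinearMap.id + (2 : F) • ((TensorOO.tL e P (d 0)).comp (c⁻¹ • S.oo.cob (d 0)))) fun x y => ?_) z
  show (kg e P (rr S.oo.s1 (hd.aniso 1) (hd.aniso 2)) (1 : GL (Fin 3) F) : Matrix ι ι F) *ᵥ T x y =
    -T x y + (2 : F) • T (d 0) (c⁻¹ • S.oo.cob (d 0) (T x y))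
  rw [kg_tvec, Units.val_one, one_mulVec, S.oo.cob_tvec, smul_smul, rr_formula S.oo.s1 S.oo.two hd, tvec_add_left,
    TensorOO.tvec_neg_left, tvec_smul_left, tvec_smul_right, smul_smul]

/-- elements of the tensor product subgroup fixing `d ⊗ W` -/
theorem Sq.fix_data {x : GL ι F} (hx : x ∈ M) (hT : x ∈ tensorProductSubgroup 3 3 e P) {d : Fin 3 → F} (hd : d ≠ 0)
    (hfix : ∀ y, (x : Matrix ι ι F) *ᵥ T d y = T d y) :
    ∃ A : GL (Fin 3) F, Isom f A ∧ (A : Matrix (Fin 3) (Fin 3) F) *ᵥ d = d ∧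
      x = kg e P A (1 : GL (Fin 3) F) := by
  obtain ⟨A, B, hA, hB, rfl⟩ := iso_data S.oo (S.oo.le_iso hx) hT
  obtain ⟨γ, hγ⟩ := exists_dot_one (show (A : Matrix (Fin 3) (Fin 3) F) *ᵥ d ≠ 0 from
    fun h => hd (gl_mulVec_eq_zero.1 h))
  obtain ⟨l, hl⟩ : ∃ l, l = γ ⬝ᵥ d := ⟨_, rfl⟩
  have hBl : ∀ y, (B : Matrix (Fin 3) (Fin 3) F) *ᵥ y = l • y := fun y => by
    have h1 := congrArg (rc e P γ) (hfix y)
    rwa [kg_tvec, rc_tvec, rc_tvec, hγ, one_smul, ← hl] at h1
  obtain ⟨y0, hy0⟩ : ∃ y : Fin 3 → F, y ≠ 0 := ⟨Pi.single 0 1, by simp⟩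
  have hl0 : l ≠ 0 := fun h => hy0 (gl_mulVec_eq_zero.1 (by rw [hBl y0, h, zero_smul]))
  have hinj : Function.Injective (l • Matrix.mulVecLin (A : Matrix (Fin 3) (Fin 3) F)) :=
    (injective_iff_map_eq_zero _).2 fun v hv => gl_mulVec_eq_zero.1
      ((smul_eq_zero.1 (show l • ((A : Matrix (Fin 3) (Fin 3) F) *ᵥ v) = 0 from hv)).resolve_left hl0)
  obtain ⟨A', hA'⟩ : ∃ A', A' = glInj _ hinj := ⟨_, rfl⟩
  have hA'v : ∀ v, (A' : Matrix (Fin 3) (Fin 3) F) *ᵥ v = l • ((A : Matrix (Fin 3) (Fin 3) F) *ᵥ v) := fun v => by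
    rw [hA', glInj_mulVec]; rfl
  have hxeq : kg e P A B = kg e P A' (1 : GL (Fin 3) F) := gl_ext_tvec (e := e) (P := P) fun v y => by
    rw [kg_tvec, kg_tvec, hBl, hA'v, Units.val_one, one_mulVec, tvec_smul_right]
    exact (tvec_smul_left _ _ _).symm
  have hll : l * l = 1 := by
    obtain ⟨z1, z2, hz⟩ := S.oo.exists_pair₁
    have h := hB z1 z2
    rw [hBl, hBl, S.oo.s1.bilinear.smul_left, S.oo.s1.bilinear.smul_right, hz] at h
    linear_combination h
  refine ⟨A', fun v v' => ?_, ?_, hxeq⟩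
  · rw [hA'v, hA'v, S.oo.s1.bilinear.smul_left, S.oo.s1.bilinear.smul_right, hA, ← mul_assoc, hll, one_mul]
  · have h := hfix y0
    rw [hxeq, kg_tvec, Units.val_one, one_mulVec] at h
    exact tvec_left_inj hy0 h

/-- the elements of a characteristic-five torus centralise only tensor products -/
theorem Sq.torus_centralizer {i : F} (hi : i * i = -1) {d : Fin 3 → Fin 3 → F} {c : F} (hd : EFrame f d c)
    {A : GL (Fin 3) F} (hA : Isom f A) (hAd : (A : Matrix (Fin 3) (Fin 3) F) *ᵥ d 0 = d 0)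
    (hzM : kg e P A (1 : GL (Fin 3) F) ∈ M) (h1 : A ≠ 1) (h2' : A ≠ rr S.oo.s1 (hd.aniso 1) (hd.aniso 2))
    {g : GL ι F} (hg : g ∈ M) (hcomm : g * kg e P A (1 : GL (Fin 3) F) = kg e P A (1 : GL (Fin 3) F) * g) :
    g ∈ tensorProductSubgroup 3 3 e P := by
  have D := S.oo
  have hf := D.s1
  have h2 := D.two
  obtain ⟨a, ha⟩ : ∃ a, a = d 1 + i • d 2 := ⟨_, rfl⟩
  obtain ⟨a', ha'⟩ : ∃ a', a' = d 1 - i • d 2 := ⟨_, rfl⟩
  have o12 := hd.orth 1 2 (by decide)
  have o21 := hd.orth 2 1 (by decide)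
  have o01 := hd.orth 0 1 (by decide)
  have o02 := hd.orth 0 2 (by decide)
  have o10 := hd.orth 1 0 (by decide)
  have o20 := hd.orth 2 0 (by decide)
  have hi0 : i ≠ 0 := fun e => by rw [e, mul_zero] at hi; exact one_ne_zero (neg_eq_zero.1 hi.symm)
  have haa : f a a = 0 := by
    rw [ha]
    simp only [hf.bilinear.add_left, hf.bilinear.add_right, hf.bilinear.smul_left, hf.bilinear.smul_right, hd.norm,
      o12, o21]
    linear_combination c * hi
  have ha'a' : f a' a' = 0 := by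
    rw [ha']
    simp only [Orth.sym_sub_left hf, Orth.sym_sub_right hf, hf.bilinear.smul_left, hf.bilinear.smul_right, hd.norm,
      o12, o21]
    linear_combination c * hi
  have haa' : f a a' = 2 * c := by
    rw [ha, ha']
    simp only [hf.bilinear.add_left, Orth.sym_sub_right hf, hf.bilinear.smul_left, hf.bilinear.smul_right, hd.norm,
      o12, o21]
    linear_combination (-c) * hi
  have hne : (2 : F) * c ≠ 0 := mul_ne_zero h2 hd.cne
  have ha0 : a ≠ 0 := fun e => hne (by rw [← haa', e, Orth.sym_zero_left hf])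
  have ha'0 : a' ≠ 0 := fun e => hne (by rw [← haa', e, hf.symm, Orth.sym_zero_left hf])
  have had : f a (d 0) = 0 := by
    rw [ha, hf.bilinear.add_left, hf.bilinear.smul_left, o10, o20]; ring
  have ha'd : f a' (d 0) = 0 := by
    rw [ha', Orth.sym_sub_left hf, hf.bilinear.smul_left, o10, o20]; ring
  have hplane : ∀ x, f x (d 0) = 0 → ∃ μ ν : F, x = μ • a + ν • a' := by
    intro x hx
    obtain ⟨p, hp⟩ : ∃ p, p = f x (d 1) / c := ⟨_, rfl⟩
    obtain ⟨q, hq⟩ : ∃ q, q = f x (d 2) / c := ⟨_, rfl⟩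
    refine ⟨(p - i * q) / 2, (p + i * q) / 2, ?_⟩
    conv_lhs => rw [frame_expand hf hd.orth hd.aniso x, Fin.sum_univ_three]
    simp only [hd.norm, hx, zero_div, zero_smul, zero_add, ← hp, ← hq, ha, ha']
    match_scalars <;> field_simp
    · ring
    · linear_combination 2 * q * hi
  have hline : ∀ x, f x (d 0) = 0 → f x x = 0 → (∃ μ : F, x = μ • a) ∨ ∃ ν : F, x = ν • a' := by
    intro x hx hxx
    obtain ⟨μ, ν, rfl⟩ := hplane x hx
    simp only [hf.bilinear.add_left, hf.bilinear.add_right, hf.bilinear.smul_left, hf.bilinear.smul_right, haa, ha'a',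
      haa', hf.symm a' a] at hxx
    have h : μ * ν * (2 * (2 * c)) = 0 := by linear_combination hxx
    rcases mul_eq_zero.1 ((mul_eq_zero.1 h).resolve_right (mul_ne_zero h2 hne)) with h' | h'
    · right; exact ⟨ν, by rw [h', zero_smul, zero_add]⟩
    · left; exact ⟨μ, by rw [h', zero_smul, add_zero]⟩
  have himg : ∀ x, f x (d 0) = 0 → f ((A : Matrix (Fin 3) (Fin 3) F) *ᵥ x) (d 0) = 0 := fun x hx => by
    conv_lhs => rw [← hAd, hA]
    exact hx
  have hspan : ∀ {B : GL (Fin 3) F}, (B : Matrix (Fin 3) (Fin 3) F) *ᵥ a = (A : Matrix (Fin 3) (Fin 3) F) *ᵥ a →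
      (B : Matrix (Fin 3) (Fin 3) F) *ᵥ a' = (A : Matrix (Fin 3) (Fin 3) F) *ᵥ a' →
      (B : Matrix (Fin 3) (Fin 3) F) *ᵥ d 0 = d 0 → A = B := by
    intro B e1 e2 e3
    refine gl_ext_vec fun x => ?_
    obtain ⟨x', hx'⟩ : ∃ x', x' = x - (f x (d 0) / c) • d 0 := ⟨_, rfl⟩
    have hx0 : f x' (d 0) = 0 := by
      rw [hx', Orth.sym_sub_left hf, hf.bilinear.smul_left, hd.norm, div_mul_cancel₀ _ hd.cne, sub_self]
    obtain ⟨μ, ν, hμν⟩ := hplane x' hx0
    have hx : x = (f x (d 0) / c) • d 0 + (μ • a + ν • a') := by rw [← hμν, hx']; abel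
    rw [hx]
    simp only [mulVec_add, mulVec_smul, e1, e2, e3, hAd]
  have hAaa : f ((A : Matrix (Fin 3) (Fin 3) F) *ᵥ a) ((A : Matrix (Fin 3) (Fin 3) F) *ᵥ a) = 0 := by rw [hA, haa]
  have hAa'a' : f ((A : Matrix (Fin 3) (Fin 3) F) *ᵥ a') ((A : Matrix (Fin 3) (Fin 3) F) *ᵥ a') = 0 := by rw [hA, ha'a']
  have hpair := hA a a'
  rw [haa'] at hpair
  rcases hline _ (himg a had) hAaa with ⟨μ, hμ⟩ | ⟨μ, hμ⟩ <;>
    rcases hline _ (himg a' ha'd) hAa'a' with ⟨ν, hν⟩ | ⟨ν, hν⟩ <;>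
    rw [hμ, hν] at hpair <;>
    simp only [hf.bilinear.smul_left, hf.bilinear.smul_right, haa, ha'a', haa', hf.symm a' a, mul_zero] at hpair
  · exact absurd hpair.symm hne
  · -- the torus
    have hμν : μ * ν = 1 := mul_right_cancel₀ hne (by linear_combination hpair)
    have hμne : μ * μ ≠ 1 := by
      intro hμ2
      have hνμ : ν = μ := mul_left_cancel₀ (a := μ) (fun e => by rw [e, zero_mul] at hμν; exact zero_ne_one hμν)
        (by rw [hμν, hμ2])
      rcases mul_self_eq_one_iff.1 hμ2 with rfl | rfl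
      · refine h1 (hspan (B := 1) ?_ ?_ (by simp)) <;> simp [hμ, hν, hνμ]
      · refine h2' (hspan (B := rr hf (hd.aniso 1) (hd.aniso 2)) ?_ ?_ (rr_perp hf _ _ o01 o02))
        · have e1 : (rr hf (hd.aniso 1) (hd.aniso 2) : Matrix (Fin 3) (Fin 3) F) *ᵥ d 1 = -d 1 := by
            rw [rr, gl_mul_mulVec, refl_perp hf (hd.aniso 2) o12, refl_self hf]
          have e2 : (rr hf (hd.aniso 1) (hd.aniso 2) : Matrix (Fin 3) (Fin 3) F) *ᵥ d 2 = -d 2 := by
            rw [rr, gl_mul_mulVec, refl_self hf, mulVec_neg, refl_perp hf (hd.aniso 1) o21]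
          rw [hμ, ha, mulVec_add, mulVec_smul, e1, e2]
          module
        · have e1 : (rr hf (hd.aniso 1) (hd.aniso 2) : Matrix (Fin 3) (Fin 3) F) *ᵥ d 1 = -d 1 := by
            rw [rr, gl_mul_mulVec, refl_perp hf (hd.aniso 2) o12, refl_self hf]
          have e2 : (rr hf (hd.aniso 1) (hd.aniso 2) : Matrix (Fin 3) (Fin 3) F) *ᵥ d 2 = -d 2 := by
            rw [rr, gl_mul_mulVec, refl_self hf, mulVec_neg, refl_perp hf (hd.aniso 1) o21]
          rw [hν, hνμ, ha', mulVec_sub, mulVec_smul, e1, e2]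
          module
    obtain ⟨z, hz⟩ : ∃ z, z = kg e P A (1 : GL (Fin 3) F) := ⟨_, rfl⟩
    rw [← hz] at hcomm
    refine D.pure_rigid S.full hg ha0 haa ha0 fun y => ?_
    obtain ⟨v, hv⟩ : ∃ v, v = (g : Matrix ι ι F) *ᵥ T a y := ⟨_, rfl⟩
    have hzv : (z : Matrix ι ι F) *ᵥ v = μ • v := by
      rw [hv, ← gl_mul_mulVec, ← hcomm, gl_mul_mulVec, hz, kg_tvec, hμ, Units.val_one, one_mulVec, tvec_smul_left,
        mulVec_smul]
    have hk : ∀ x, μ • D.cob ((A : Matrix (Fin 3) (Fin 3) F) *ᵥ x) v = D.cob x v := fun x => by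
      have h := D.cob_kg (B := (1 : GL (Fin 3) F)) hA x v
      rwa [← hz, hzv, map_smul, Units.val_one, one_mulVec] at h
    have hka : D.cob a v = 0 := by
      have h := hk a
      rw [hμ, D.cob_smul_left, smul_smul] at h
      have h' : (μ * μ - 1) • D.cob a v = 0 := by rw [sub_smul, one_smul, h, sub_self]
      exact (smul_eq_zero.1 h').resolve_left (sub_ne_zero.2 hμne)
    have hkd : D.cob (d 0) v = 0 := by
      have h := hk (d 0)
      rw [hAd] at h
      have h' : (μ - 1) • D.cob (d 0) v = 0 := by rw [sub_smul, one_smul, h, sub_self]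
      exact (smul_eq_zero.1 h').resolve_left (sub_ne_zero.2 fun e => hμne (by rw [e, one_mul]))
    refine ⟨(2 * c)⁻¹ • D.cob a' v, ?_⟩
    rw [← hv]
    refine sub_eq_zero.1 (D.eq_zero_of_cob fun x => ?_)
    obtain ⟨x', hx'⟩ : ∃ x', x' = x - (f x (d 0) / c) • d 0 := ⟨_, rfl⟩
    have hx0 : f x' (d 0) = 0 := by
      rw [hx', Orth.sym_sub_left hf, hf.bilinear.smul_left, hd.norm, div_mul_cancel₀ _ hd.cne, sub_self]
    obtain ⟨α, β, hαβ⟩ := hplane x' hx0
    rw [show x = (f x (d 0) / c) • d 0 + (α • a + β • a') by rw [← hαβ, hx']; abel]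
    simp only [D.cob_add_left, D.cob_smul_left, map_sub, D.cob_tvec, hka, hkd, haa, haa', had]
    have := hd.cne
    match_scalars <;> field_simp <;> ring
  · -- the exchange
    have hμν : μ * ν = 1 := mul_right_cancel₀ hne (by linear_combination hpair)
    exfalso
    have hμ0 : μ ≠ 0 := fun e => by rw [e, zero_mul] at hμν; exact zero_ne_one hμν
    have hAA : A * A = 1 := by
      refine gl_ext_vec fun x => ?_
      obtain ⟨x', hx'⟩ : ∃ x', x' = x - (f x (d 0) / c) • d 0 := ⟨_, rfl⟩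
      have hx0 : f x' (d 0) = 0 := by
        rw [hx', Orth.sym_sub_left hf, hf.bilinear.smul_left, hd.norm, div_mul_cancel₀ _ hd.cne, sub_self]
      obtain ⟨α, β, hαβ⟩ := hplane x' hx0
      rw [show x = (f x (d 0) / c) • d 0 + (α • a + β • a') by rw [← hαβ, hx']; abel, Units.val_one, one_mulVec,
        gl_mul_mulVec]
      simp only [mulVec_add, mulVec_smul, hμ, hν, hAd, smul_smul, mul_assoc, hμν, mul_comm ν μ, mul_one]
    have hfix2 : 2 ≤ Module.finrank F (fixSp A) := by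
      have hli : LinearIndependent F ![d 0, a + μ • a'] := by
        rw [LinearIndependent.pair_iff]
        intro p q hpq
        have e1 := congrArg (fun w => f w (d 0)) hpq
        have e2 := congrArg (fun w => f w a') hpq
        simp only [hf.bilinear.add_left, hf.bilinear.smul_left, hd.norm, had, ha'd, Orth.sym_zero_left hf, haa',
          ha'a', (hf.symm (d 0) a').trans ha'd, mul_zero, add_zero, zero_add] at e1 e2
        exact ⟨(mul_eq_zero.1 e1).resolve_right hd.cne, (mul_eq_zero.1 e2).resolve_right hne⟩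
      have hle : Submodule.span F (Set.range ![d 0, a + μ • a']) ≤ fixSp A := Submodule.span_le.2 (by
        rintro _ ⟨j, rfl⟩
        fin_cases j
        · exact mem_fixSp.2 hAd
        · refine mem_fixSp.2 ?_
          show (A : Matrix (Fin 3) (Fin 3) F) *ᵥ (a + μ • a') = a + μ • a'
          rw [mulVec_add, mulVec_smul, hμ, hν, smul_smul, hμν, one_smul, add_comm])
      have := Submodule.finrank_mono hle
      rwa [finrank_span_eq_card hli, Fintype.card_fin] at this
    have hneg1 : 1 ≤ Module.finrank F (negSp A) := by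
      refine Submodule.one_le_finrank_iff.2 fun hbot => ?_
      have hm : a - μ • a' ∈ negSp A := mem_negSp.2 (by
        rw [mulVec_sub, mulVec_smul, hμ, hν, smul_smul, hμν, one_smul]; abel)
      rw [hbot, Submodule.mem_bot] at hm
      have e2 := congrArg (fun w => f w a') hm
      simp only [Orth.sym_sub_left hf, hf.bilinear.smul_left, haa', ha'a', mul_zero, sub_zero,
        Orth.sym_zero_left hf] at e2
      exact hne e2
    have hsum := invol_finrank h2 hAA
    rw [Fintype.card_fin] at hsum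
    have hzz : kg e P A (1 : GL (Fin 3) F) * kg e P A (1 : GL (Fin 3) F) = 1 := by
      rw [TensorOO.kg_mul, hAA, one_mul, kg_one]
    have hdet := (Orth.det_invol h2 (h := (kg e P A (1 : GL (Fin 3) F) : Matrix ι ι F))
      (by rw [← Units.val_mul, hzz, Units.val_one])).1
    rw [CfsgLib.Perm.Trans.OrthExt.det_one_of_omega (D.le hzM),
      show LinearMap.ker (Matrix.mulVecLin (kg e P A (1 : GL (Fin 3) F) : Matrix ι ι F) + 1) =
        negSp (kg e P A (1 : GL (Fin 3) F)) from rfl, neg_dim_left h2 hAA,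
      show Module.finrank F (negSp A) = 1 by omega, one_mul] at hdet
    exact h2 (by linear_combination hdet)
  · exact absurd hpair.symm hne

/-- elements fixing `d ⊗ W` pointwise are tensor products -/
theorem Sq.fix_frame {d : Fin 3 → Fin 3 → F} {c : F} (hd : EFrame f d c) {x₀ : GL ι F} (hx₀ : x₀ ∈ M)
    (hfix₀ : ∀ y, (x₀ : Matrix ι ι F) *ᵥ T (d 0) y = T (d 0) y) : x₀ ∈ tensorProductSubgroup 3 3 e P := by
  classical
  have D := S.oo
  have hf := D.s1
  have h2 := D.two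
  have hd0 : d 0 ≠ 0 := fun h => hd.aniso 0 (by rw [h, Orth.sym_zero_left hf])
  obtain ⟨p, hp, hc, hodd⟩ := D.exists_char
  haveI := hc
  haveI : Fact p.Prime := ⟨hp⟩
  let X : Subgroup (GL ι F) :=
    { carrier := {x | x ∈ M ∧ ∀ y, (x : Matrix ι ι F) *ᵥ T (d 0) y = T (d 0) y}
      one_mem' := ⟨one_mem M, fun y => by rw [Units.val_one, one_mulVec]⟩
      mul_mem' := fun {x x'} hx hx' => ⟨mul_mem hx.1 hx'.1, fun y => by rw [gl_mul_mulVec, hx'.2, hx.2]⟩
      inv_mem' := fun {x} hx => ⟨inv_mem hx.1, fun y => by conv_lhs => rw [← hx.2 y, gl_inv_mulVec]⟩ }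
  have hdata : ∀ x ∈ X, x ∈ tensorProductSubgroup 3 3 e P → ∃ A : GL (Fin 3) F, Isom f A ∧
      (A : Matrix (Fin 3) (Fin 3) F) *ᵥ d 0 = d 0 ∧ x = kg e P A (1 : GL (Fin 3) F) := fun x hx hT =>
    S.fix_data hx.1 hT hd0 hx.2
  obtain ⟨b, -, hb0, hbb⟩ := nd_singular hf h2 (nd_top hf) (by rw [top_finrank hf, Fintype.card_fin])
  obtain ⟨pp, -, hpp, hpb⟩ := nd_partner hf h2 (nd_top hf) Submodule.mem_top hb0 hbb
  have hdim := pair_finrank hf (⊤ : Submodule F (Fin 3 → F)) b pp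
  rw [top_finrank hf, Fintype.card_fin] at hdim
  obtain ⟨w, hw, hww⟩ := nd_aniso hf h2
    (nd_perp_pair hf (nd_top hf) Submodule.mem_top Submodule.mem_top hbb hpp hpb) (by omega)
  have hbw : f b w = 0 := by rw [hf.symm]; exact hw.1.2
  have hbtw : ∀ t : F, f b (t • w) = 0 := fun t => by rw [hf.bilinear.smul_right, hbw, mul_zero]
  let emb : F → GL ι F := fun t => kg e P (1 : GL (Fin 3) F) (eic hf b (t • w))
  have hemb : ∀ t t', emb t * emb t' = emb (t + t') := fun t t' => by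
    simp only [emb]
    rw [TensorOO.kg_mul, one_mul, eic_mul hf h2 hbb (hbtw t) (hbtw t'), add_smul]
  have hemb0 : emb 0 = 1 := by simp only [emb, zero_smul]; rw [eic_zero hf h2 hbb, kg_one]
  have hembM : ∀ t, emb t ∈ M := fun t => D.eicR_mem hbb (hbtw t)
  have hembnorm : ∀ t, ∀ x ∈ X, emb t * x * (emb t)⁻¹ ∈ X := fun t x hx => by
    refine ⟨mul_mem (mul_mem (hembM t) hx.1) (inv_mem (hembM t)), fun y => ?_⟩
    obtain ⟨y', rfl⟩ : ∃ y', y = (eic hf b (t • w) : Matrix (Fin 3) (Fin 3) F) *ᵥ y' := ⟨_, (gl_mulVec_inv _ y).symm⟩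
    have h : (emb t : Matrix ι ι F) *ᵥ T (d 0) y' = T (d 0) ((eic hf b (t • w) : Matrix (Fin 3) (Fin 3) F) *ᵥ y') := by
      simp only [emb]
      rw [kg_tvec, Units.val_one, one_mulVec]
    rw [← h, gl_mul_mulVec, gl_mul_mulVec, gl_inv_mulVec, hx.2]
  have hembp : ∀ t, emb t ^ p = 1 := fun t => by
    simp only [emb]
    rw [TensorOO.kg_pow, one_pow, eic_pow_char hf h2 hbb (hbtw t), kg_one]
  have hcent : ∀ t : F, t ≠ 0 → ∀ x ∈ X, emb t * x = x * emb t → x ∈ tensorProductSubgroup 3 3 e P :=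
    fun t ht x hx hcomm => S.centralizer_eicR hb0 hbb (hbtw t)
      (by rw [hf.bilinear.smul_left, hf.bilinear.smul_right]; exact mul_ne_zero ht (mul_ne_zero ht hww)) hx.1 hcomm.symm
  obtain ⟨u, hu⟩ : ∃ u, u = emb 1 := ⟨_, rfl⟩
  have hcentU : ∀ x ∈ X, u * x = x * u → x ∈ tensorProductSubgroup 3 3 e P := fun x hx h =>
    hcent 1 one_ne_zero x hx (hu ▸ h)
  have hTu : ∀ x ∈ X, x ∈ tensorProductSubgroup 3 3 e P → u * x = x * u := fun x hx hT => by
    obtain ⟨A, -, -, rfl⟩ := hdata x hx hT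
    rw [hu]
    simp only [emb]
    rw [TensorOO.kg_mul, TensorOO.kg_mul, one_mul, one_mul, mul_one, mul_one]
  let U : Subgroup (GL ι F) := Subgroup.zpowers u
  have hUp : IsPGroup p U := by
    intro a
    refine ⟨1, Subtype.ext ?_⟩
    obtain ⟨n, hn⟩ := Subgroup.mem_zpowers_iff.1 a.2
    show (a.1 : GL ι F) ^ p ^ 1 = 1
    rw [pow_one, ← hn, ← zpow_natCast, ← _root_.zpow_mul, mul_comm n, _root_.zpow_mul, zpow_natCast, hu, hembp,
      _root_.one_zpow]
  have hUn : U ≤ Subgroup.normalizer (X : Set (GL ι F)) := Subgroup.zpowers_le.2 (Subgroup.mem_normalizer_iff.2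
    fun x => ⟨fun hx => hu ▸ hembnorm 1 x hx, fun hx => by
      have h := hembnorm (-1) _ hx
      rw [hu, show emb (-1) = (emb 1)⁻¹ from (inv_eq_of_mul_eq_one_right (by rw [hemb, add_neg_cancel, hemb0])).symm,
        inv_inv, show (emb 1)⁻¹ * (emb 1 * x * (emb 1)⁻¹) * emb 1 = x by group] at h
      exact h⟩)
  have hXp : ¬ p ∣ Nat.card X := fun hdvd => by
    obtain ⟨x, hx, hx1, hxp, hfixU⟩ := exists_fixed_pElement hUp
      (fun a ha x hx => (Subgroup.mem_normalizer_iff.1 (hUn ha) x).1 hx) hdvd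
    obtain ⟨A, hA, hAd, rfl⟩ := hdata x hx (hcentU x hx (hfixU u (Subgroup.mem_zpowers u)))
    rw [TensorOO.kg_pow, one_pow] at hxp
    have hAp : A ^ p = 1 := kgL_inj (e := e) (P := P) (by norm_num) (hxp.trans kg_one.symm)
    exact hx1 (by rw [unip_fix_three hf h2 rfl hA hAp (hd.aniso 0) hAd, kg_one])
  have hXsub : ∀ S' : Subgroup (GL ι F), S' ≤ X → ¬ p ∣ Nat.card S' := fun S' h h' =>
    hXp (h'.trans (Subgroup.card_dvd_of_le h))
  by_cases hqp : p < Fintype.card F
  · -- a noncyclic root group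
    let A : Subgroup (GL ι F) :=
      { carrier := {g | ∃ t, g = emb t}
        one_mem' := ⟨0, hemb0.symm⟩
        mul_mem' := fun {g g'} ⟨t, h1⟩ ⟨t', h1'⟩ => ⟨t + t', by rw [h1, h1', hemb]⟩
        inv_mem' := fun {g} ⟨t, h1⟩ => ⟨-t, inv_eq_of_mul_eq_one_right (by rw [h1, hemb, add_neg_cancel, hemb0])⟩ }
    haveI : IsMulCommutative A := isMulCommutative_iff.2 fun ⟨g, hg1⟩ ⟨g', hg2⟩ => by
      obtain ⟨t, rfl⟩ := hg1
      obtain ⟨t', rfl⟩ := hg2
      exact Subtype.ext (show emb t * emb t' = emb t' * emb t by rw [hemb, hemb, add_comm])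
    have hexp : ∀ a : A, a ^ p = 1 := fun ⟨g, hg1⟩ => by
      obtain ⟨t, rfl⟩ := hg1
      exact Subtype.ext (hembp t)
    have hnc : ¬ IsCyclic A := by
      intro hcyc
      obtain ⟨g0, hgen⟩ := IsCyclic.exists_generator (α := A)
      have h1 : orderOf g0 = Nat.card A := orderOf_eq_card_of_forall_mem_zpowers hgen
      have hle : Nat.card A ≤ p := h1 ▸ Nat.le_of_dvd hp.pos (orderOf_dvd_of_pow_eq_one (hexp g0))
      let ψ : F → A := fun t => ⟨emb t, t, rfl⟩
      have hψ : Function.Injective ψ := by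
        intro t t' h
        have h' : emb (t - t') = 1 := by
          have h4 := hemb (t - t') t'
          rw [sub_add_cancel, ← show emb t' = emb t from (congrArg Subtype.val h).symm, mul_eq_right] at h4
          exact h4
        by_contra hne
        simp only [emb] at h'
        rw [← kg_one (e := e) (P := P)] at h'
        obtain ⟨l, -, hl1, hl2⟩ := kg_unique h'
        have hl : l = 1 := by
          have h5 := congrFun (hl1 (Pi.single 0 1)) 0
          simpa using h5.symm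
        refine eic_moves hf h2 hbb (hbtw (t - t')) hb0 ?_ (gl_ext_vec fun y => by
          rw [hl2 y, hl, one_smul])
        rw [hf.bilinear.smul_left, hf.bilinear.smul_right]
        exact mul_ne_zero (sub_ne_zero.2 hne) (mul_ne_zero (sub_ne_zero.2 hne) hww)
      have h3 := Nat.card_le_card_of_injective ψ hψ
      rw [Nat.card_eq_fintype_card] at h3
      omega
    have hcop : (Nat.card A).Coprime (Nat.card X) := by
      obtain ⟨m, hm⟩ := IsPGroup.iff_card.1 (fun a : A => ⟨1, by rw [pow_one]; exact hexp a⟩ : IsPGroup p A)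
      rw [hm]
      exact Nat.Coprime.pow_left _ (hp.coprime_iff_not_dvd.2 hXp)
    refine CfsgLib.Coprime.le_of_centralizers_le (W := tensorProductSubgroup 3 3 e P) (A := A) (K := X) hnc
      (fun a ha => Subgroup.mem_normalizer_iff.2 fun x => ⟨fun hx => ?_, fun h => ?_⟩) hcop
      (fun a ha hne x hx => ?_) (show x₀ ∈ X from ⟨hx₀, hfix₀⟩)
    · obtain ⟨t, rfl⟩ := ha; exact hembnorm t x hx
    · obtain ⟨t, rfl⟩ := ha
      have h' := hembnorm (-t) _ h
      rwa [show emb (-t) = (emb t)⁻¹ from (inv_eq_of_mul_eq_one_right (by rw [hemb, add_neg_cancel, hemb0])).symm,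
        inv_inv, show (emb t)⁻¹ * (emb t * x * (emb t)⁻¹) * emb t = x by group] at h'
    · obtain ⟨t, rfl⟩ := ha
      exact hcent t (fun e => hne (by rw [e, hemb0])) x hx.1
        ((Subgroup.mem_centralizer_singleton_iff.1 hx.2).symm)
  -- a prime field
  have hqp' : Fintype.card F = p := by
    obtain ⟨m, -, hm⟩ := FiniteField.card F p
    have : p ≤ p ^ (m : ℕ) := Nat.le_self_pow m.pos.ne' p
    omega
  have hp5 : 5 ≤ p := by
    obtain ⟨t, ht0, ht1⟩ := D.rhex.resolve_left (by omega)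
    by_contra hlt
    have hp3 : p = 3 := by
      obtain ⟨l, hl⟩ := hodd
      have := hp.two_le
      omega
    have h3 : t ^ 2 = 1 := by
      have := FiniteField.pow_card_sub_one_eq_one t ht0
      rwa [hqp', hp3] at this
    exact ht1 (by rw [← h3, sq])
  have hu3 : ((u : Matrix ι ι F) - 1) ^ 3 = 0 := by
    obtain ⟨N, hN⟩ : ∃ N, N = (eic hf b ((1 : F) • w) : Matrix (Fin 3) (Fin 3) F) - 1 := ⟨_, rfl⟩
    have hstep : ∀ x y, ((u : Matrix ι ι F) - 1) *ᵥ T x y = T x (N *ᵥ y) := fun x y => by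
      rw [sub_mulVec, one_mulVec, hu, hN, sub_mulVec, one_mulVec, TensorOO.tvec_sub_right]
      simp only [emb]
      rw [kg_tvec, Units.val_one, one_mulVec]
    have hN3 : ∀ y, N *ᵥ (N *ᵥ (N *ᵥ y)) = 0 := fun y => by
      have hc := eic_cube hf h2 hbb (hbtw 1) y
      have hb' : (eic hf b ((1 : F) • w) : Matrix (Fin 3) (Fin 3) F) *ᵥ b = b :=
        eic_fix hf h2 hbb (hbtw 1) hbb (hbtw 1)
      have h' := congrArg (fun v => (eic hf b ((1 : F) • w) : Matrix (Fin 3) (Fin 3) F) *ᵥ v - v) hc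
      simp only [mulVec_smul, hb', sub_self] at h'
      rw [hN]
      simp only [sub_mulVec, one_mulVec, mulVec_sub]
      simp only [mulVec_add, mulVec_sub, mulVec_smul, two_nsmul] at h'
      linear_combination (norm := abel) h'
    refine Matrix.ext_iff_mulVec.2 fun z => ?_
    rw [zero_mulVec, pow_succ, sq, ← mulVec_mulVec, ← mulVec_mulVec]
    induction tvec_span (e := e) (P := P) z using Submodule.span_induction with
    | mem v hv =>
      obtain ⟨x, y, rfl⟩ := hv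
      rw [hstep, hstep, hstep, hN3, tvec_zero_right]
    | zero => simp
    | add v v' _ _ e1 e2 => rw [mulVec_add, mulVec_add, mulVec_add, e1, e2, add_zero]
    | smul t v _ e1 => rw [mulVec_smul, mulVec_smul, mulVec_smul, e1, smul_zero]
  have hup : u ^ p = 1 := hu ▸ hembp 1
  obtain ⟨C, hC⟩ : ∃ C : Subgroup (GL ι F), C = X ⊓ Subgroup.centralizer {u} := ⟨_, rfl⟩
  have memC : ∀ x, x ∈ C ↔ x ∈ X ∧ u * x = x * u := fun x => by
    rw [hC, Subgroup.mem_inf, Subgroup.mem_centralizer_singleton_iff]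
    exact ⟨fun h => ⟨h.1, h.2.symm⟩, fun h => ⟨h.1, h.2.symm⟩⟩
  have hcop : (Nat.card U).Coprime (Nat.card X) := by
    obtain ⟨m, hm⟩ := IsPGroup.iff_card.1 hUp
    rw [hm]
    exact Nat.Coprime.pow_left _ (hp.coprime_iff_not_dvd.2 hXp)
  have hsolv : Group.IsSolvable U ∨ Group.IsSolvable X :=
    Or.inl (CfsgLib.Coprime.isSolvable_of_isNilpotent hUp.isNilpotent)
  have hall : ∀ r : ℕ, r.Prime → r ^ (Nat.card X).factorization r ∣ Nat.card C := by
    intro r hr
    haveI : Fact r.Prime := ⟨hr⟩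
    obtain ⟨R, hR, hRn⟩ := CfsgLib.Coprime.exists_invariant_sylow hUn hcop hsolv r
    have hRu : ∀ n ∈ R, u * n * u⁻¹ ∈ R := fun n hn =>
      (Subgroup.mem_normalizer_iff.1 (hRn (Subgroup.mem_zpowers u)) n).1 hn
    have hRp := hXsub R hR.1
    rw [← hR.2]
    refine Subgroup.card_dvd_of_le fun n hn => (memC n).2 ⟨hR.1 hn, ?_⟩
    have hnil : Group.IsNilpotent R := hR.isPGroup.isNilpotent
    by_cases hp7 : 7 ≤ p
    · exact comm_of_unip_seven hp7 u R hnil hRu hup hRp hu3 n hn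
    have hpeq : p = 5 := by
      rcases (show p = 5 ∨ p = 6 by omega) with h | h
      · exact h
      · exact absurd (h ▸ hp) (by decide)
    have h5 : (5 : F) = 0 := by
      have := CharP.cast_eq_zero F p
      rwa [hpeq] at this
    have hi : (2 : F) * 2 = -1 := by linear_combination h5
    obtain ⟨v, hv⟩ : ∃ v, v = kg e P (rr hf (hd.aniso 1) (hd.aniso 2)) (1 : GL (Fin 3) F) := ⟨_, rfl⟩
    have hvX : v ∈ X := hv ▸ ⟨D.rr_mem (hd.aniso 1) (hd.aniso 2) (by rw [hd.norm, hd.norm]) (hd.orth 1 2 (by decide)),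
      fun y => by rw [kg_tvec, rr_perp hf _ _ (hd.orth 0 1 (by decide)) (hd.orth 0 2 (by decide)), Units.val_one,
        one_mulVec]⟩
    by_cases hsmall : ∀ m ∈ R, u * m = m * u → m = 1 ∨ m = v
    · have hvv : v * v = 1 := by
        rw [hv, TensorOO.kg_mul, rr_sq hf _ _ (hd.orth 1 2 (by decide)), one_mul, kg_one]
      have hsq := rr_sq hf (hd.aniso 1) (hd.aniso 2) (hd.orth 1 2 (by decide))
      have huv : u * v = v * u := hTu v hvX (hv ▸ kg_mem _ _)
      have hpure : ∀ g ∈ X, g * v = v * g := fun g hg => by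
        -- `v` is a scalar on both `d ⊗ W` and its orthogonal
        have hfixT : ∀ z, (v : Matrix ι ι F) *ᵥ z = -z + (2 : F) • T (d 0) (c⁻¹ • D.cob (d 0) z) := fun z => by
          rw [hv, S.invol_apply hd]
        have hd_fix := hg.2
        have hcob : ∀ z, D.cob (d 0) ((g : Matrix ι ι F) *ᵥ z) = D.cob (d 0) z := fun z =>
          D.cob_fixed hg.1 hd_fix z
        refine gl_ext_vec fun z => ?_
        rw [gl_mul_mulVec, gl_mul_mulVec, hfixT, hfixT, mulVec_add, mulVec_neg, mulVec_smul, hd_fix, hcob]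
      have hneg : Module.finrank F (negSp v) = 6 := by
        rw [hv, neg_dim_left h2 hsq, rr_dim hf h2 _ _ (hd.orth 1 2 (by decide))]
      rcases subset_pair_of_unip_five (by omega : 5 ≤ p) h2 hi u v R hR.isPGroup hRu hup hRp hu3 hvv huv
        (fun m hm => hpure m (hR.1 hm)) hsmall hneg n hn with e | e
      · rw [e]; simp
      · rw [e]; exact huv
    push Not at hsmall
    obtain ⟨z, hzR, hzu, hz1, hzv⟩ := hsmall
    obtain ⟨A, hA, hAd, hzA⟩ := hdata z (hR.1 hzR) (hcentU z (hR.1 hzR) hzu)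
    have hcz : ∀ m ∈ R, m * z = z * m → m ∈ tensorProductSubgroup 3 3 e P := fun m hm hmz => by
      refine S.torus_centralizer hi hd hA hAd (hzA ▸ (hR.1 hzR).1) (fun e => hz1 (by rw [hzA, e, kg_one]))
        (fun e => hzv (by rw [hzA, e, hv])) (hR.1 hm).1 (hzA ▸ hmz)
    obtain ⟨C', hC'⟩ : ∃ C' : Subgroup (GL ι F), C' = R ⊓ Subgroup.centralizer {u} := ⟨_, rfl⟩
    have memC' : ∀ m, m ∈ C' ↔ m ∈ R ∧ u * m = m * u := fun m => by
      rw [hC', Subgroup.mem_inf, Subgroup.mem_centralizer_singleton_iff]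
      exact ⟨fun h => ⟨h.1, h.2.symm⟩, fun h => ⟨h.1, h.2.symm⟩⟩
    by_contra hnu
    have hne : C'.subgroupOf R ≠ ⊤ := fun htop => hnu ((memC' n).1 (Subgroup.subgroupOf_eq_top.1 htop hn)).2
    haveI := hnil
    obtain ⟨m, hmn, hmC⟩ := SetLike.exists_of_lt
      (Group.normalizerCondition_of_isNilpotent (C'.subgroupOf R) (lt_top_iff_ne_top.2 hne))
    obtain ⟨a, ha⟩ : ∃ a, a = u * m.1 * u⁻¹ * m.1⁻¹ := ⟨_, rfl⟩
    have haR : a ∈ R := ha ▸ mul_mem (hRu _ m.2) (inv_mem m.2)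
    have hcC : m.1⁻¹ * z * m.1 ∈ C' :=
      (Subgroup.mem_normalizer_iff''.1 hmn ⟨z, hzR⟩).1 ((memC' z).2 ⟨hzR, hzu⟩)
    have haz : a * z = z * a := by
      have e1 := ((memC' _).1 hcC).2
      obtain ⟨c₁, hc₁⟩ : ∃ c₁, c₁ = m.1⁻¹ * z * m.1 := ⟨_, rfl⟩
      rw [← hc₁] at e1
      have hc₁' : u * c₁ * u⁻¹ = c₁ := by rw [e1, mul_inv_cancel_right]
      have hz' : u * z * u⁻¹ = z := by rw [hzu, mul_inv_cancel_right]
      calc a * z = u * m.1 * u⁻¹ * (m.1⁻¹ * z * m.1) * m.1⁻¹ := by rw [ha]; group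
        _ = u * m.1 * u⁻¹ * (u * c₁ * u⁻¹) * m.1⁻¹ := by rw [hc₁', hc₁]
        _ = u * (m.1 * c₁ * m.1⁻¹) * u⁻¹ * (u * m.1 * u⁻¹) * m.1⁻¹ := by group
        _ = u * z * u⁻¹ * (u * m.1 * u⁻¹) * m.1⁻¹ := by
          rw [show m.1 * c₁ * m.1⁻¹ = z by rw [hc₁]; group]
        _ = z * a := by rw [hz', ha]; group
    have hau : u * a = a * u := hTu a (hR.1 haR) (hcz a haR haz)
    have hiter : ∀ j : ℕ, u ^ j * m.1 * (u ^ j)⁻¹ = a ^ j * m.1 := by
      intro j
      induction j with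
      | zero => simp
      | succ j ih =>
        have hc : Commute u (a ^ j) := (show Commute u a from hau).pow_right j
        rw [pow_succ' u, show u * u ^ j * m.1 * (u * u ^ j)⁻¹ = u * (u ^ j * m.1 * (u ^ j)⁻¹) * u⁻¹ by group, ih,
          ← mul_assoc, hc.eq, pow_succ a, ha]
        group
    have h1 := hiter p
    rw [hup, one_mul, inv_one, mul_one] at h1
    have h2p : a ^ p = 1 := by simpa using h1.symm
    have ha1 : a = 1 := by
      by_contra hne1
      have hdv : orderOf a ∣ Nat.card R := by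
        have := orderOf_dvd_natCard (⟨a, haR⟩ : R)
        rwa [← Subgroup.orderOf_coe] at this
      rw [orderOf_eq_prime h2p hne1] at hdv
      exact hRp hdv
    refine hmC ((memC' m.1).2 ⟨m.2, ?_⟩)
    rw [ha] at ha1
    exact mul_inv_eq_iff_eq_mul.1 (mul_inv_eq_one.1 ha1)
  have hXC : C = X := by
    refine Subgroup.eq_of_le_of_card_ge (fun x hx => ((memC x).1 hx).1) (Nat.le_of_dvd Nat.card_pos ?_)
    rw [Nat.dvd_iff_prime_pow_dvd_dvd]
    intro r j hr hj
    exact (pow_dvd_pow r ((hr.pow_dvd_iff_le_factorization Nat.card_pos.ne').1 hj)).trans (hall r hr)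
  have hxC : x₀ ∈ C := hXC.symm ▸ (show x₀ ∈ X from ⟨hx₀, hfix₀⟩)
  exact hcentU x₀ ⟨hx₀, hfix₀⟩ ((memC x₀).1 hxC).2

end CfsgLib.Perm.Trans.TensorSquare
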