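import Mathlib
import Cfsg.Agent.Lib.Perm.Trans.TensorSquare.Fix

/-!
# Standard involutions: rotations by a half-turn about an axis of the class of an equal-norm frame
-/

set_option autoImplicit false
set_option linter.all false

namespace CfsgLib.Perm.Trans.TensorSquare

open scoped Matrix
open Matrix Cfsg.Geo CfsgLib.Perm.Asch CfsgLib.Perm.Trans CfsgLib.Perm.Trans.TensorFrame
open CfsgLib.Perm.Trans.TensorMax CfsgLib.Perm.Trans.Quad CfsgLib.Perm.Trans.TensorSO CfsgLib.Perm.Trans.TensorOO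

variable {F : Type*} [Field F] {f : (Fin 3 → F) → (Fin 3 → F) → F}

/-- the half-turns of equal-norm frames -/
def Std (hf : IsSymmetricForm f) (t : GL (Fin 3) F) : Prop :=
  ∃ (d : Fin 3 → Fin 3 → F) (c : F) (hd : EFrame f d c), t = rr hf (hd.aniso 1) (hd.aniso 2)

theorem EFrame.perm {d : Fin 3 → Fin 3 → F} {c : F} (hd : EFrame f d c) (π : Equiv.Perm (Fin 3)) :
    EFrame f (d ∘ π) c :=
  ⟨hd.cne, fun i => hd.norm _, fun i j hij => hd.orth _ _ (π.injective.ne hij)⟩

variable (hf : IsSymmetricForm f) (h2 : (2 : F) ≠ 0)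
include hf

theorem Std.sq {t : GL (Fin 3) F} (h : Std hf t) : t * t = 1 := by
  obtain ⟨d, c, hd, rfl⟩ := h
  exact rr_sq hf _ _ (hd.orth 1 2 (by decide))

theorem Std.isom {t : GL (Fin 3) F} (h : Std hf t) : Isom f t := by
  obtain ⟨d, c, hd, rfl⟩ := h
  exact rr_iso hf _ _

theorem Std.conj {t A : GL (Fin 3) F} (h : Std hf t) (hA : Isom f A) : Std hf (A * t * A⁻¹) := by
  obtain ⟨d, c, hd, rfl⟩ := h
  have hd' : EFrame f (fun i => (A : Matrix (Fin 3) (Fin 3) F) *ᵥ d i) c :=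
    ⟨hd.cne, fun i => by rw [hA, hd.norm], fun i j hij => by rw [hA, hd.orth i j hij]⟩
  refine ⟨_, c, hd', ?_⟩
  rw [rr, rr, show A * (refl hf (d 1) (hd.aniso 1) * refl hf (d 2) (hd.aniso 2)) * A⁻¹ =
    (A * refl hf (d 1) (hd.aniso 1) * A⁻¹) * (A * refl hf (d 2) (hd.aniso 2) * A⁻¹) by group,
    refl_conj hf (hd.aniso 1) hA (hd'.aniso 1) rfl, refl_conj hf (hd.aniso 2) hA (hd'.aniso 2) rfl]

include h2

theorem Std.negdim {t : GL (Fin 3) F} (h : Std hf t) : Module.finrank F (negSp t) = 2 := by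
  obtain ⟨d, c, hd, rfl⟩ := h
  exact rr_dim hf h2 _ _ (hd.orth 1 2 (by decide))

theorem Std.fixdim {t : GL (Fin 3) F} (h : Std hf t) : Module.finrank F (fixSp t) = 1 := by
  have h1 := invol_finrank h2 (Std.sq hf h)
  rw [Std.negdim hf h2 h, Fintype.card_fin] at h1
  omega

theorem Std.not_scalar {t : GL (Fin 3) F} (h : Std hf t) (l : F) :
    ¬ ∀ x, (t : Matrix (Fin 3) (Fin 3) F) *ᵥ x = l • x := by
  intro hl
  obtain ⟨d, c, hd, rfl⟩ := h
  have h0 : d 0 ≠ 0 := fun e => hd.aniso 0 (by rw [e, Orth.sym_zero_left hf])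
  have h1 : d 1 ≠ 0 := fun e => hd.aniso 1 (by rw [e, Orth.sym_zero_left hf])
  have e0 := hl (d 0)
  rw [rr_perp hf _ _ (hd.orth 0 1 (by decide)) (hd.orth 0 2 (by decide))] at e0
  have e1 := hl (d 1)
  rw [rr, gl_mul_mulVec, refl_perp hf (hd.aniso 2) (hd.orth 1 2 (by decide)), refl_self hf] at e1
  have a0 : l = 1 := smul_left_injective F h0 ((e0.symm).trans (one_smul F _).symm)
  rw [a0, one_smul] at e1
  exact h1 ((smul_eq_zero.1 (show (2 : F) • d 1 = 0 by linear_combination (norm := module) -e1)).resolve_left h2)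

theorem Std.ne_one {t : GL (Fin 3) F} (h : Std hf t) : t ≠ 1 := fun e =>
  Std.not_scalar hf h2 h 1 fun x => by rw [e]; simp

/-- two half-turns with equal tensor products are equal up to a scalar one -/
theorem Std.eq_of_smul {t t' : GL (Fin 3) F} (h : Std hf t) (h' : Std hf t') {l : F}
    (hl : ∀ x, (t' : Matrix (Fin 3) (Fin 3) F) *ᵥ x = l • ((t : Matrix (Fin 3) (Fin 3) F) *ᵥ x)) : t' = t ∧ l = 1 := by
  have hll : l * l = 1 := by
    obtain ⟨d, c, hd, -⟩ := id h
    have e := Std.isom hf h' (d 0) (d 0)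
    rw [hl, hf.bilinear.smul_left, hf.bilinear.smul_right, Std.isom hf h, hd.norm] at e
    have e' : (l * l - 1) * c = 0 := by linear_combination e
    exact sub_eq_zero.1 ((mul_eq_zero.1 e').resolve_right hd.cne)
  rcases mul_self_eq_one_iff.1 hll with rfl | rfl
  · exact ⟨gl_ext_vec fun x => by rw [hl, one_smul], rfl⟩
  · exfalso
    have heq : negSp t' = fixSp t := SetLike.ext fun x => by
      rw [mem_negSp, mem_fixSp, hl, neg_one_smul, neg_inj]
    have h1 := Std.negdim hf h2 h'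
    rw [heq, Std.fixdim hf h2 h] at h1
    omega

/-- two commuting half-turns share a frame -/
theorem Std.frame_of_comm [Fintype F] {d : Fin 3 → Fin 3 → F} {c : F} (hd : EFrame f d c) {γ : GL (Fin 3) F}
    (hγ : Std hf γ) (hcomm : γ * rr hf (hd.aniso 1) (hd.aniso 2) = rr hf (hd.aniso 1) (hd.aniso 2) * γ)
    (hne : γ ≠ rr hf (hd.aniso 1) (hd.aniso 2)) :
    ∃ (g : Fin 3 → Fin 3 → F) (hg : EFrame f g c), g 0 = d 0 ∧ γ = rr hf (hg.aniso 0) (hg.aniso 2) ∧
      γ * rr hf (hd.aniso 1) (hd.aniso 2) = rr hf (hg.aniso 0) (hg.aniso 1) := by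
  obtain ⟨d', c', hd', rfl⟩ := hγ
  obtain ⟨t, ht⟩ : ∃ t, t = rr hf (hd.aniso 1) (hd.aniso 2) := ⟨_, rfl⟩
  rw [← ht] at hcomm hne ⊢
  have hc := hd.cne
  have hc' := hd'.cne
  have hγ0 : (rr hf (hd'.aniso 1) (hd'.aniso 2) : Matrix (Fin 3) (Fin 3) F) *ᵥ d' 0 = d' 0 :=
    rr_perp hf _ _ (hd'.orth 0 1 (by decide)) (hd'.orth 0 2 (by decide))
  have htd : (t : Matrix (Fin 3) (Fin 3) F) *ᵥ d' 0 = -d' 0 + (2 * (c⁻¹ * f (d' 0) (d 0))) • d 0 :=
    ht ▸ rr_formula hf h2 hd _
  have hfix : (rr hf (hd'.aniso 1) (hd'.aniso 2) : Matrix (Fin 3) (Fin 3) F) *ᵥ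
      ((t : Matrix (Fin 3) (Fin 3) F) *ᵥ d' 0) = (t : Matrix (Fin 3) (Fin 3) F) *ᵥ d' 0 := by
    rw [← gl_mul_mulVec, hcomm, gl_mul_mulVec, hγ0]
  have horth : f (d' 0) (d 0) = 0 := by
    by_contra hne0
    have hμ : (2 : F) * (c⁻¹ * f (d' 0) (d 0)) ≠ 0 := mul_ne_zero h2 (mul_ne_zero (inv_ne_zero hc) hne0)
    rw [htd, mulVec_add, mulVec_neg, mulVec_smul, hγ0, add_right_inj] at hfix
    have hd0fix : (rr hf (hd'.aniso 1) (hd'.aniso 2) : Matrix (Fin 3) (Fin 3) F) *ᵥ d 0 = d 0 :=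
      smul_right_injective (Fin 3 → F) hμ hfix
    rw [rr_formula hf h2 hd'] at hd0fix
    have hpar : d 0 = (c'⁻¹ * f (d 0) (d' 0)) • d' 0 := by
      refine smul_right_injective (Fin 3 → F) h2 ?_
      show (2 : F) • d 0 = (2 : F) • _
      rw [smul_smul]
      linear_combination (norm := module) -hd0fix
    refine hne (gl_ext_vec fun x => ?_)
    rw [ht, rr_formula hf h2 hd', rr_formula hf h2 hd]
    obtain ⟨μ, hμd⟩ : ∃ μ, μ = c'⁻¹ * f (d 0) (d' 0) := ⟨_, rfl⟩
    rw [← hμd] at hpar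
    have hn : c = μ * μ * c' := by
      have e := hd.norm 0
      rw [hpar, hf.bilinear.smul_left, hf.bilinear.smul_right, hd'.norm] at e
      linear_combination -e
    have hμ0 : μ ≠ 0 := fun e => hc (by rw [hn, e]; ring)
    rw [hpar, hf.bilinear.smul_right, smul_smul]
    congr 2
    rw [hn]
    field_simp
  obtain ⟨l, hl0, hl⟩ : ∃ l : F, l ≠ 0 ∧ c' / c = l * l := by
    let L : (Fin 3 → F) →ₗ[F] (Fin 3 → F) := ∑ i, ((c⁻¹ : F) • Orth.sfl hf (d i)).smulRight (d' i)
    have hL : ∀ x, L x = ∑ i, (f x (d i) / c) • d' i := fun x => by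
      simp only [L, LinearMap.sum_apply, LinearMap.smulRight_apply, LinearMap.smul_apply, smul_eq_mul]
      exact Finset.sum_congr rfl fun i _ => by rw [div_eq_inv_mul]; rfl
    have hmul : ∀ x y, f (L x) (L y) = (c' / c) * f x y := fun x y => by
      conv_rhs => rw [frame_expand hf hd.orth hd.aniso y]
      rw [hL, hL]
      simp only [Fin.sum_univ_three, hd.norm, hf.bilinear.add_left, hf.bilinear.add_right, hf.bilinear.smul_left,
        hf.bilinear.smul_right, hd'.norm, hd'.orth 0 1 (by decide), hd'.orth 0 2 (by decide), hd'.orth 1 0 (by decide),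
        hd'.orth 1 2 (by decide), hd'.orth 2 0 (by decide), hd'.orth 2 1 (by decide)]
      field_simp
      ring
    have hinj : Function.Injective L := (injective_iff_map_eq_zero L).2 fun x hx => by
      refine sym_eq_zero hf fun y => ?_
      have e := hmul x y
      rw [hx, Orth.sym_zero_left hf] at e
      exact (mul_eq_zero.1 e.symm).resolve_left (div_ne_zero hc' hc)
    exact simil_square hf h2 (A := glInj L hinj) (div_ne_zero hc' hc) fun x y => by
      rw [glInj_mulVec, glInj_mulVec, hmul]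
  obtain ⟨u, hu⟩ : ∃ u, u = l⁻¹ • d' 0 := ⟨_, rfl⟩
  have hu0 : f u (d 0) = 0 := by rw [hu, hf.bilinear.smul_left, horth, mul_zero]
  have huu : f u u = c := by
    rw [hu, hf.bilinear.smul_left, hf.bilinear.smul_right, hd'.norm]
    field_simp at hl ⊢
    linear_combination hl
  obtain ⟨α, hα⟩ : ∃ α, α = f u (d 1) / c := ⟨_, rfl⟩
  obtain ⟨β, hβ⟩ : ∃ β, β = f u (d 2) / c := ⟨_, rfl⟩
  have hue : u = α • d 1 + β • d 2 := by
    conv_lhs => rw [frame_expand hf hd.orth hd.aniso u, Fin.sum_univ_three]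
    simp only [hd.norm, hu0, zero_div, zero_smul, zero_add, ← hα, ← hβ]
  have hab : α * α + β * β = 1 := by
    have e := huu
    rw [hue] at e
    simp only [hf.bilinear.add_left, hf.bilinear.add_right, hf.bilinear.smul_left, hf.bilinear.smul_right, hd.norm,
      hd.orth 1 2 (by decide), hd.orth 2 1 (by decide)] at e
    have e' : (α * α + β * β - 1) * c = 0 := by linear_combination e
    exact sub_eq_zero.1 ((mul_eq_zero.1 e').resolve_right hc)
  obtain ⟨g, hgd⟩ : ∃ g : Fin 3 → Fin 3 → F, g = ![d 0, u, (-β) • d 1 + α • d 2] := ⟨_, rfl⟩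
  have g0 : g 0 = d 0 := by rw [hgd]; rfl
  have g1 : g 1 = u := by rw [hgd]; rfl
  have g2 : g 2 = (-β) • d 1 + α • d 2 := by rw [hgd]; rfl
  have e01 : f (g 0) (g 1) = 0 := by rw [g0, g1, hf.symm, hu0]
  have e02 : f (g 0) (g 2) = 0 := by
    rw [g0, g2, hf.bilinear.add_right, hf.bilinear.smul_right, hf.bilinear.smul_right, hd.orth 0 1 (by decide),
      hd.orth 0 2 (by decide)]
    ring
  have e12 : f (g 1) (g 2) = 0 := by
    rw [g1, g2, hue]
    simp only [hf.bilinear.add_left, hf.bilinear.add_right, hf.bilinear.smul_left, hf.bilinear.smul_right, hd.norm,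
      hd.orth 1 2 (by decide), hd.orth 2 1 (by decide)]
    ring
  have e22 : f (g 2) (g 2) = c := by
    rw [g2]
    simp only [hf.bilinear.add_left, hf.bilinear.add_right, hf.bilinear.smul_left, hf.bilinear.smul_right, hd.norm,
      hd.orth 1 2 (by decide), hd.orth 2 1 (by decide)]
    linear_combination c * hab
  have hg : EFrame f g c := by
    refine ⟨hc, fun i => ?_, fun i j hij => ?_⟩
    · fin_cases i
      · show f (g 0) (g 0) = c
        rw [g0, hd.norm]
      · show f (g 1) (g 1) = c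
        rw [g1, huu]
      · exact e22
    · fin_cases i <;> fin_cases j <;> first
        | exact absurd rfl hij
        | exact e01
        | exact e02
        | exact e12
        | exact (hf.symm _ _).trans e01
        | exact (hf.symm _ _).trans e02
        | exact (hf.symm _ _).trans e12
  obtain ⟨π, hπ⟩ : ∃ π : Equiv.Perm (Fin 3), π = Equiv.swap 0 1 := ⟨_, rfl⟩
  have hgπ := hg.perm π
  obtain ⟨ρ, hρ⟩ : ∃ ρ : Equiv.Perm (Fin 3), ρ = Equiv.swap 0 2 * Equiv.swap 1 2 := ⟨_, rfl⟩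
  have hgρ := hg.perm ρ
  have hform1 : ∀ x, (rr hf (hg.aniso 0) (hg.aniso 2) : Matrix (Fin 3) (Fin 3) F) *ᵥ x =
      -x + (2 * (c⁻¹ * f x (g 1))) • g 1 := by
    intro x
    have e := rr_formula hf h2 hgπ x
    simp only [Function.comp_apply, hπ, show Equiv.swap (0 : Fin 3) 1 1 = 0 from by decide,
      show Equiv.swap (0 : Fin 3) 1 2 = 2 from by decide, show Equiv.swap (0 : Fin 3) 1 0 = 1 from by decide] at e
    exact e
  have hform2 : ∀ x, (rr hf (hg.aniso 0) (hg.aniso 1) : Matrix (Fin 3) (Fin 3) F) *ᵥ x =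
      -x + (2 * (c⁻¹ * f x (g 2))) • g 2 := by
    intro x
    have e := rr_formula hf h2 hgρ x
    simp only [Function.comp_apply, hρ, show ((Equiv.swap 0 2 * Equiv.swap 1 2 : Equiv.Perm (Fin 3))) 1 = 0 from by decide,
      show ((Equiv.swap 0 2 * Equiv.swap 1 2 : Equiv.Perm (Fin 3))) 2 = 1 from by decide,
      show ((Equiv.swap 0 2 * Equiv.swap 1 2 : Equiv.Perm (Fin 3))) 0 = 2 from by decide] at e
    exact e
  have hγeq : rr hf (hd'.aniso 1) (hd'.aniso 2) = rr hf (hg.aniso 0) (hg.aniso 2) := gl_ext_vec fun x => by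
    rw [rr_formula hf h2 hd', hform1, g1, hu, hf.bilinear.smul_right, smul_smul]
    congr 2
    field_simp at hl ⊢
    linear_combination -(f x (d' 0)) * hl
  refine ⟨g, hg, g0, hγeq, gl_ext_vec fun x => ?_⟩
  rw [hγeq, gl_mul_mulVec, ht, rr_formula hf h2 hd, hform2, mulVec_add, mulVec_neg, mulVec_smul, hform1, hform1, ← g0,
    e01, mul_zero, mul_zero, zero_smul, add_zero]
  have he := frame_expand hf hg.orth hg.aniso x
  simp only [hg.norm, Fin.sum_univ_three] at he
  obtain ⟨p, hp⟩ : ∃ p, p = f x (g 0) := ⟨_, rfl⟩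
  obtain ⟨q, hq⟩ : ∃ q, q = f x (g 1) := ⟨_, rfl⟩
  obtain ⟨r, hr⟩ : ∃ r, r = f x (g 2) := ⟨_, rfl⟩
  rw [← hp, ← hq, ← hr] at he ⊢
  conv_lhs => arg 1; arg 1; arg 1; rw [he]
  conv_rhs => arg 1; rw [he]
  match_scalars <;> field_simp <;> ring

/-- the product of two commuting distinct half-turns is a half-turn -/
theorem Std.mul [Fintype F] {t γ : GL (Fin 3) F} (ht : Std hf t) (hγ : Std hf γ) (hcomm : γ * t = t * γ)
    (hne : γ ≠ t) : Std hf (γ * t) := by
  obtain ⟨d, c, hd, rfl⟩ := ht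
  obtain ⟨g, hg, -, -, hprod⟩ := Std.frame_of_comm hf h2 hd hγ hcomm hne
  refine ⟨_, c, hg.perm (Equiv.swap 0 2 * Equiv.swap 1 2), ?_⟩
  rw [hprod]
  simp only [Function.comp_apply, show ((Equiv.swap 0 2 * Equiv.swap 1 2 : Equiv.Perm (Fin 3))) 1 = 0 from by decide,
    show ((Equiv.swap 0 2 * Equiv.swap 1 2 : Equiv.Perm (Fin 3))) 2 = 1 from by decide]

end CfsgLib.Perm.Trans.TensorSquare
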