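import Mathlib
import Cfsg.Agent.Lib.Perm.Trans.TensorSquare.Std

/-!
# Involution centralisers, and the overgroup lies in the wreath subgroup
-/

set_option autoImplicit false
set_option linter.all false

namespace CfsgLib.Perm.Trans.TensorSquare

open scoped Matrix
open Matrix Cfsg.Geo CfsgLib.Perm.Asch CfsgLib.Perm.Trans CfsgLib.Perm.Trans.TensorFrame
open CfsgLib.Perm.Trans.TensorMax CfsgLib.Perm.Trans.Quad CfsgLib.Perm.Trans.TensorSO CfsgLib.Perm.Trans.TensorOO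

variable {ι : Type} [Fintype ι] [DecidableEq ι] {F : Type*} [Field F] [Fintype F]
variable {e : ι ≃ Fin 3 × Fin 3} {P : GL ι F}
variable {Q : (ι → F) → F} {f : (Fin 3 → F) → (Fin 3 → F) → F} {k : F} {M : Subgroup (GL ι F)}

local notation "T" => tvec e P

theorem kg_conj (A B X Y : GL (Fin 3) F) :
    kg e P A B * kg e P X Y * (kg e P A B)⁻¹ = kg e P (A * X * A⁻¹) (B * Y * B⁻¹) := by
  rw [TensorOO.kg_inv, TensorOO.kg_mul, TensorOO.kg_mul]

theorem kgtau_conj (A B X Y : GL (Fin 3) F) :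
    kg e P A B * tau e P * kg e P X Y * (kg e P A B * tau e P)⁻¹ = kg e P (A * Y * A⁻¹) (B * X * B⁻¹) := by
  rw [show kg e P A B * tau e P * kg e P X Y * (kg e P A B * tau e P)⁻¹ =
    kg e P A B * (tau e P * kg e P X Y * (tau e P)⁻¹) * (kg e P A B)⁻¹ by group, tau_inv, tau_conj, kg_conj]

theorem kgL_inj3 {A A' : GL (Fin 3) F} (h : kg e P A (1 : GL (Fin 3) F) = kg e P A' (1 : GL (Fin 3) F)) : A = A' :=
  kgL_inj (e := e) (P := P) (by norm_num) h

theorem kgR_inj3 {B B' : GL (Fin 3) F} (h : kg e P (1 : GL (Fin 3) F) B = kg e P (1 : GL (Fin 3) F) B') : B = B' :=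
  kgL_inj (e := e.trans (Equiv.prodComm _ _)) (P := P) (by norm_num)
    ((kg_swap _ _).trans (h.trans (kg_swap _ _).symm))

variable (S : Sq Q f e P k M)
include S

/-- elements of the wreath subgroup inside the isometry group -/
theorem Sq.wreath_data {n : GL ι F} (hi : n ∈ Cfsg.isometryGroup F Q) (hn : n ∈ wreath e P) :
    ∃ A B, Isom f A ∧ Isom f B ∧ (n = kg e P A B ∨ n = kg e P A B * tau e P) := by
  rcases hn with h | h
  · obtain ⟨A, B, hA, hB, he⟩ := iso_data S.oo hi h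
    exact ⟨A, B, hA, hB, Or.inl he⟩
  · obtain ⟨A, B, hA, hB, he⟩ := iso_data S.oo (mul_mem hi (tau_iso S.oo)) h
    exact ⟨A, B, hA, hB, Or.inr (by rw [← he, mul_assoc, tau_sq, mul_one])⟩

/-- one-sided half-turns -/
def Sq.Pure (S : Sq Q f e P k M) (v : GL ι F) : Prop :=
  ∃ t, Std S.oo.s1 t ∧ (v = kg e P t (1 : GL (Fin 3) F) ∨ v = kg e P (1 : GL (Fin 3) F) t)

theorem Sq.stdL_mem {t : GL (Fin 3) F} (ht : Std S.oo.s1 t) : kg e P t (1 : GL (Fin 3) F) ∈ M := by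
  obtain ⟨d, c, hd, rfl⟩ := ht
  exact S.oo.rr_mem (hd.aniso 1) (hd.aniso 2) (by rw [hd.norm, hd.norm]) (hd.orth 1 2 (by decide))

theorem Sq.stdR_mem {t : GL (Fin 3) F} (ht : Std S.oo.s1 t) : kg e P (1 : GL (Fin 3) F) t ∈ M := by
  obtain ⟨d, c, hd, rfl⟩ := ht
  rw [← kg_swap]
  exact S.oo.swap.rr_mem (hd.aniso 1) (hd.aniso 2) (by rw [hd.norm, hd.norm]) (hd.orth 1 2 (by decide))

theorem Sq.Pure.mem {v : GL ι F} (h : S.Pure v) : v ∈ M := by
  obtain ⟨t, ht, rfl | rfl⟩ := h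
  · exact S.stdL_mem ht
  · exact S.stdR_mem ht

theorem Sq.Pure.mem_wreath {v : GL ι F} (h : S.Pure v) : v ∈ wreath e P := by
  obtain ⟨t, ht, rfl | rfl⟩ := h <;> exact tensor_le_wreath (kg_mem _ _)

theorem Sq.Pure.sq {v : GL ι F} (h : S.Pure v) : v * v = 1 := by
  obtain ⟨t, ht, rfl | rfl⟩ := h <;> rw [TensorOO.kg_mul, Std.sq S.oo.s1 ht, one_mul, kg_one]

theorem Sq.Pure.negdim {v : GL ι F} (h : S.Pure v) : Module.finrank F (negSp v) = 6 := by
  have h2 := S.oo.two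
  obtain ⟨t, ht, rfl | rfl⟩ := h
  · rw [neg_dim_left h2 (Std.sq S.oo.s1 ht), Std.negdim S.oo.s1 h2 ht]
  · rw [← kg_swap, neg_dim_left h2 (Std.sq S.oo.s1 ht), Std.negdim S.oo.s1 h2 ht]

theorem Sq.Pure.conj {v n : GL ι F} (h : S.Pure v) (hn : n ∈ M) (hnW : n ∈ wreath e P) : S.Pure (n * v * n⁻¹) := by
  obtain ⟨t, ht, hv⟩ := h
  obtain ⟨A, B, hA, hB, he | he⟩ := S.wreath_data (S.oo.le_iso hn) hnW <;> rcases hv with rfl | rfl <;> subst he
  · exact ⟨_, Std.conj S.oo.s1 ht hA, Or.inl (by rw [kg_conj, mul_one, mul_inv_cancel])⟩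
  · exact ⟨_, Std.conj S.oo.s1 ht hB, Or.inr (by rw [kg_conj, mul_one, mul_inv_cancel])⟩
  · exact ⟨_, Std.conj S.oo.s1 ht hB, Or.inr (by rw [kgtau_conj, mul_one, mul_inv_cancel])⟩
  · exact ⟨_, Std.conj S.oo.s1 ht hA, Or.inl (by rw [kgtau_conj, mul_one, mul_inv_cancel])⟩

/-- the centraliser of a left half-turn -/
theorem Sq.goodL {t : GL (Fin 3) F} (ht : Std S.oo.s1 t) {g : GL ι F} (hg : g ∈ M)
    (hcomm : g * kg e P t (1 : GL (Fin 3) F) = kg e P t (1 : GL (Fin 3) F) * g) : g ∈ wreath e P := by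
  have D := S.oo
  have hf := D.s1
  have h2 := D.two
  obtain ⟨d, c, hd, rfl⟩ := ht
  have hd0 : d 0 ≠ 0 := fun e => hd.aniso 0 (by rw [e, Orth.sym_zero_left hf])
  obtain ⟨q, hq⟩ : ∃ q, q = kg e P (rr hf (hd.aniso 1) (hd.aniso 2)) (1 : GL (Fin 3) F) := ⟨_, rfl⟩
  change g * kg e P (rr hf (hd.aniso 1) (hd.aniso 2)) (1 : GL (Fin 3) F) = _ at hcomm
  rw [← hq] at hcomm
  have hqd : ∀ y, (q : Matrix ι ι F) *ᵥ T (d 0) y = T (d 0) y := fun y => by
    rw [hq, kg_tvec, rr_perp hf _ _ (hd.orth 0 1 (by decide)) (hd.orth 0 2 (by decide)), Units.val_one, one_mulVec]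
  let h : (Fin 3 → F) →ₗ[F] (Fin 3 → F) :=
    (c⁻¹ • D.cob (d 0)).comp ((Matrix.mulVecLin (g : Matrix ι ι F)).comp (TensorOO.tL e P (d 0)))
  have hgd : ∀ y, (g : Matrix ι ι F) *ᵥ T (d 0) y = T (d 0) (h y) := fun y => by
    obtain ⟨v, hv⟩ : ∃ v, v = (g : Matrix ι ι F) *ᵥ T (d 0) y := ⟨_, rfl⟩
    have hqv : (q : Matrix ι ι F) *ᵥ v = v := by rw [hv, ← gl_mul_mulVec, ← hcomm, gl_mul_mulVec, hqd]
    rw [hq, S.invol_apply hd] at hqv
    show _ = T (d 0) (c⁻¹ • D.cob (d 0) ((g : Matrix ι ι F) *ᵥ T (d 0) y))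
    rw [← hv]
    refine smul_right_injective (ι → F) h2 ?_
    show (2 : F) • v = (2 : F) • _
    linear_combination (norm := module) -hqv
  have hhiso : ∀ y y', f (h y) (h y') = f y y' := fun y y' => by
    have h1 := D.M_pol hg (T (d 0) y) (T (d 0) y')
    rw [hgd, hgd, D.pol, D.pol] at h1
    exact mul_left_cancel₀ (hd.aniso 0) (mul_left_cancel₀ D.kne h1)
  have hhinj : Function.Injective h := (injective_iff_map_eq_zero h).2 fun y hy => by
    have h1 := hgd y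
    rw [hy, tvec_zero_right, gl_mulVec_eq_zero] at h1
    exact tvec_right_inj hd0 (h1.trans (tvec_zero_right (d 0)).symm)
  obtain ⟨hm, hhm⟩ : ∃ hm, hm = glInj h hhinj := ⟨_, rfl⟩
  have hmv : ∀ y, (hm : Matrix (Fin 3) (Fin 3) F) *ᵥ y = h y := fun y => by rw [hhm, glInj_mulVec]
  have hmiso : Isom f hm := fun y y' => by rw [hmv, hmv, hhiso]
  obtain ⟨b, -, hb0, hbb⟩ := nd_singular hf h2 (nd_top hf) (by rw [top_finrank hf, Fintype.card_fin])
  obtain ⟨pp, -, hpp, hpb⟩ := nd_partner hf h2 (nd_top hf) Submodule.mem_top hb0 hbb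
  have hdim := pair_finrank hf (⊤ : Submodule F (Fin 3 → F)) b pp
  rw [top_finrank hf, Fintype.card_fin] at hdim
  obtain ⟨w, hw, hww⟩ := nd_aniso hf h2
    (nd_perp_pair hf (nd_top hf) Submodule.mem_top Submodule.mem_top hbb hpp hpb) (by omega)
  have hbw : f b w = 0 := by rw [hf.symm]; exact hw.1.2
  obtain ⟨E0, hE0⟩ : ∃ E0, E0 = eic hf b w := ⟨_, rfl⟩
  obtain ⟨E', hE'⟩ : ∃ E', E' = hm * E0 * hm⁻¹ := ⟨_, rfl⟩
  have hE'M : kg e P (1 : GL (Fin 3) F) E' ∈ M := by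
    rw [hE', hE0, eic_conj hf h2 hbb hbw hmiso]
    exact D.eicR_mem (by rw [hmiso, hbb]) (by rw [hmiso, hbw])
  obtain ⟨E, hE⟩ : ∃ E, E = kg e P (1 : GL (Fin 3) F) E0 := ⟨_, rfl⟩
  have hEM : E ∈ M := hE ▸ hE0 ▸ D.eicR_mem hbb hbw
  obtain ⟨n, hn⟩ : ∃ n, n = g * E * g⁻¹ := ⟨_, rfl⟩
  have hnM : n ∈ M := hn ▸ mul_mem (mul_mem hg hEM) (inv_mem hg)
  have hnd' : ∀ y, (n : Matrix ι ι F) *ᵥ T (d 0) y = T (d 0) ((E' : Matrix (Fin 3) (Fin 3) F) *ᵥ y) := by
    intro y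
    obtain ⟨y', rfl⟩ : ∃ y', y = (hm : Matrix (Fin 3) (Fin 3) F) *ᵥ y' := ⟨_, (gl_mulVec_inv hm y).symm⟩
    rw [hmv, ← hgd, hn, gl_mul_mulVec, gl_mul_mulVec, gl_inv_mulVec, hE, kg_tvec, Units.val_one, one_mulVec, hgd,
      ← hmv, ← hmv, hE', gl_mul_mulVec, gl_mul_mulVec, gl_inv_mulVec]
  have hxT := S.fix_frame hd (x₀ := n * (kg e P (1 : GL (Fin 3) F) E')⁻¹) (mul_mem hnM (inv_mem hE'M)) fun y => by
    rw [gl_mul_mulVec, TensorOO.kg_inv, kg_tvec, inv_one, Units.val_one, one_mulVec, hnd', gl_mulVec_inv]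
  have hnW : g * E * g⁻¹ ∈ wreath e P := by
    have := tensor_le_wreath (mul_mem hxT (kg_mem (e := e) (P := P) (1 : GL (Fin 3) F) E'))
    rw [inv_mul_cancel_right, hn] at this
    exact this
  exact S.step_right hb0 hbb hbw hww hg (by rw [← hE0, ← hE]; exact hnW)

/-- the centraliser of a one-sided half-turn -/
theorem Sq.good {v g : GL ι F} (hv : S.Pure v) (hg : g ∈ M) (hcomm : g * v = v * g) : g ∈ wreath e P := by
  obtain ⟨t, ht, rfl | rfl⟩ := hv
  · exact S.goodL ht hg hcomm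
  · obtain ⟨σ, hσM, hσW, A₀, B₀, hσ⟩ := S.exists_sigma
    obtain ⟨A, B, hA, hB, he | he⟩ := S.wreath_data (S.oo.le_iso hσM) hσW
    · exfalso
      -- `σ` exchanges the factors
      have h := congrArg (fun u => u * kg e P t (1 : GL (Fin 3) F) * u⁻¹) (hσ.symm.trans he)
      simp only [kgtau_conj, kg_conj] at h
      rw [mul_one, mul_one, mul_inv_cancel, mul_inv_cancel] at h
      obtain ⟨l, -, hl, -⟩ := kg_unique h
      refine Std.not_scalar S.oo.s1 S.oo.two (Std.conj S.oo.s1 ht hA) l fun x => ?_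
      rw [hl, Units.val_one, one_mulVec]
    · have hv : σ * kg e P (1 : GL (Fin 3) F) t * σ⁻¹ = kg e P (A * t * A⁻¹) (1 : GL (Fin 3) F) := by
        rw [he, kgtau_conj, mul_one, mul_inv_cancel]
      have h := S.goodL (Std.conj S.oo.s1 ht hA) (g := σ * g * σ⁻¹) (mul_mem (mul_mem hσM hg) (inv_mem hσM)) (by
        rw [← hv]
        calc σ * g * σ⁻¹ * (σ * kg e P 1 t * σ⁻¹) = σ * (g * kg e P 1 t) * σ⁻¹ := by group
          _ = σ * (kg e P 1 t * g) * σ⁻¹ := by rw [hcomm]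
          _ = _ := by group)
      have := mul_mem (mul_mem (inv_mem hσW) h) hσW
      rwa [show σ⁻¹ * (σ * g * σ⁻¹) * σ = g by group] at this

omit S in
/-- a power fixing a vector of a scaled line fixes it -/
theorem scalar_pow_one {A : GL (Fin 3) F} {p : ℕ} [Fact p.Prime] [CharP F p] (hAp : A ^ p = 1) {x : Fin 3 → F}
    (hx : x ≠ 0) {μ : F} (h : (A : Matrix (Fin 3) (Fin 3) F) *ᵥ x = μ • x) : μ = 1 := by
  have hn : ∀ n : ℕ, ((A ^ n : GL (Fin 3) F) : Matrix (Fin 3) (Fin 3) F) *ᵥ x = μ ^ n • x := fun n => by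
    induction n with
    | zero => simp
    | succ n ih => rw [pow_succ A, gl_mul_mulVec, h, mulVec_smul, ih, smul_smul, pow_succ']
  have h1 := hn p
  rw [hAp, Units.val_one, one_mulVec] at h1
  have h3 : μ ^ p = 1 := smul_left_injective F hx (h1.symm.trans (one_smul F x).symm)
  have h4 : (μ - 1) ^ p = 0 := by rw [sub_pow_char, h3, one_pow, sub_self]
  exact sub_eq_zero.1 (pow_eq_zero_iff (Fact.out : p.Prime).ne_zero |>.1 h4)

omit S in
/-- an element of order dividing `p` commuting with a half-turn is trivial -/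
theorem std_comm_p (hf : IsSymmetricForm f) (h2 : (2 : F) ≠ 0) {p : ℕ} [Fact p.Prime] [CharP F p] {A t : GL (Fin 3) F}
    (ht : Std hf t) (hA : Isom f A) (hAp : A ^ p = 1) (hcomm : A * t = t * A) : A = 1 := by
  obtain ⟨d, c, hd, rfl⟩ := ht
  have hd0 : d 0 ≠ 0 := fun e => hd.aniso 0 (by rw [e, Orth.sym_zero_left hf])
  obtain ⟨x, hx⟩ : ∃ x, x = (A : Matrix (Fin 3) (Fin 3) F) *ᵥ d 0 := ⟨_, rfl⟩
  have hfix : (rr hf (hd.aniso 1) (hd.aniso 2) : Matrix (Fin 3) (Fin 3) F) *ᵥ x = x := by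
    rw [hx, ← gl_mul_mulVec, ← hcomm, gl_mul_mulVec,
      rr_perp hf _ _ (hd.orth 0 1 (by decide)) (hd.orth 0 2 (by decide))]
  rw [rr_formula hf h2 hd] at hfix
  have hAd : (A : Matrix (Fin 3) (Fin 3) F) *ᵥ d 0 = (c⁻¹ * f x (d 0)) • d 0 := by
    rw [← hx]
    refine smul_right_injective (Fin 3 → F) h2 ?_
    show (2 : F) • x = (2 : F) • _
    linear_combination (norm := module) -hfix
  have hμ := scalar_pow_one (p := p) hAp hd0 hAd
  rw [hμ, one_smul] at hAd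
  exact unip_fix_three hf h2 rfl hA hAp (hd.aniso 0) hAd

/-- involutions of the non-trivial coset commute with diagonal unipotent elements -/
theorem Sq.exists_diag {A B : GL (Fin 3) F} (hA : Isom f A) (hqq : kg e P A B * tau e P * (kg e P A B * tau e P) = 1) :
    ∃ y ∈ M, y ∈ tensorProductSubgroup 3 3 e P ∧ y ≠ 1 ∧
      kg e P A B * tau e P * y = y * (kg e P A B * tau e P) ∧ ∀ p : ℕ, p.Prime → CharP F p → y ^ p = 1 := by
  have D := S.oo
  have hf := D.s1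
  have h2 := D.two
  rw [show kg e P A B * tau e P * (kg e P A B * tau e P) = kg e P A B * (tau e P * kg e P A B * tau e P) by group,
    tau_conj, TensorOO.kg_mul, ← kg_one (e := e) (P := P)] at hqq
  obtain ⟨l, -, -, hBA⟩ := kg_unique hqq
  simp only [Units.val_one, one_mulVec] at hBA
  obtain ⟨a, -, ha0, haa⟩ := nd_singular hf h2 (nd_top hf) (by rw [top_finrank hf, Fintype.card_fin])
  obtain ⟨c, -, hcc, hca⟩ := nd_partner hf h2 (nd_top hf) Submodule.mem_top ha0 haa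
  have hdim := pair_finrank hf (⊤ : Submodule F (Fin 3 → F)) a c
  rw [top_finrank hf, Fintype.card_fin] at hdim
  obtain ⟨w, hw, hww⟩ := nd_aniso hf h2
    (nd_perp_pair hf (nd_top hf) Submodule.mem_top Submodule.mem_top haa hcc hca) (by omega)
  have haw : f a w = 0 := by rw [hf.symm]; exact hw.1.2
  obtain ⟨X, hX⟩ : ∃ X, X = eic hf a w := ⟨_, rfl⟩
  have hAi : ∀ x x', f ((A⁻¹ : GL (Fin 3) F) *ᵥ x) (((A⁻¹ : GL (Fin 3) F) : Matrix (Fin 3) (Fin 3) F) *ᵥ x') = f x x' :=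
    fun x x' => by rw [← hA, gl_mulVec_inv, gl_mulVec_inv]
  have hY : A⁻¹ * X * A = eic hf (((A⁻¹ : GL (Fin 3) F) : Matrix (Fin 3) (Fin 3) F) *ᵥ a)
      (((A⁻¹ : GL (Fin 3) F) : Matrix (Fin 3) (Fin 3) F) *ᵥ w) := by
    rw [← eic_conj hf h2 haa haw hAi, inv_inv, hX]
  refine ⟨kg e P X (A⁻¹ * X * A), ?_, kg_mem _ _, ?_, ?_, fun p hp hc => ?_⟩
  · have h := mul_mem (D.eicL_mem (a := a) (w := w) haa haw)
      (D.eicR_mem (b := ((A⁻¹ : GL (Fin 3) F) : Matrix (Fin 3) (Fin 3) F) *ᵥ a)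
        (w := ((A⁻¹ : GL (Fin 3) F) : Matrix (Fin 3) (Fin 3) F) *ᵥ w) (by rw [hAi, haa]) (by rw [hAi, haw]))
    rw [TensorOO.kg_mul, one_mul, mul_one] at h
    rwa [hY, hX]
  · intro h
    rw [← kg_one (e := e) (P := P)] at h
    obtain ⟨μ, hμ0, hμ, -⟩ := kg_unique h
    simp only [Units.val_one, one_mulVec] at hμ
    obtain ⟨p, hp, hc, -⟩ := D.exists_char
    haveI := hc
    haveI : Fact p.Prime := ⟨hp⟩
    have hXp : X ^ p = 1 := hX ▸ eic_pow_char hf h2 haa haw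
    have hμ1 : μ⁻¹ = 1 := scalar_pow_one (p := p) hXp (x := a) ha0 (by
      conv_rhs => arg 2; rw [hμ a]
      rw [smul_smul, inv_mul_cancel₀ hμ0, one_smul])
    rw [inv_eq_one] at hμ1
    refine eic_moves hf h2 haa haw ha0 hww (hX ▸ gl_ext_vec fun x => ?_)
    have := hμ x
    rw [hμ1, one_smul] at this
    rw [← this, Units.val_one, one_mulVec]
  · refine mul_inv_eq_iff_eq_mul.1 ?_
    rw [kgtau_conj, show A * (A⁻¹ * X * A) * A⁻¹ = X by group]
    congr 1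
    refine mul_inv_eq_iff_eq_mul.2 (gl_ext_vec fun x => ?_)
    rw [gl_mul_mulVec, gl_mul_mulVec, gl_mul_mulVec, gl_mul_mulVec]
    have e1 : ∀ z, (B : Matrix (Fin 3) (Fin 3) F) *ᵥ z = l⁻¹ • (((A⁻¹ : GL (Fin 3) F) : Matrix (Fin 3) (Fin 3) F) *ᵥ z) ∨
        (B : Matrix (Fin 3) (Fin 3) F) *ᵥ z = l • (((A⁻¹ : GL (Fin 3) F) : Matrix (Fin 3) (Fin 3) F) *ᵥ z) := fun z => by
      right
      have h := hBA (((A⁻¹ : GL (Fin 3) F) : Matrix (Fin 3) (Fin 3) F) *ᵥ z)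
      rwa [gl_mul_mulVec, gl_mulVec_inv] at h
    have e2 : ∀ z, (B : Matrix (Fin 3) (Fin 3) F) *ᵥ z = l • (((A⁻¹ : GL (Fin 3) F) : Matrix (Fin 3) (Fin 3) F) *ᵥ z) := fun z => by
      have h := hBA (((A⁻¹ : GL (Fin 3) F) : Matrix (Fin 3) (Fin 3) F) *ᵥ z)
      rwa [gl_mul_mulVec, gl_mulVec_inv] at h
    rw [e2, e2, mulVec_smul, mulVec_smul, mulVec_smul, gl_mulVec_inv]
  · haveI := hc
    haveI : Fact p.Prime := ⟨hp⟩
    rw [TensorOO.kg_pow, show (A⁻¹ * X * A) ^ p = A⁻¹ * X ^ p * A by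
      simpa using conj_pow (i := p) (a := A⁻¹) (b := X), hX, eic_pow_char hf h2 haa haw, mul_one, inv_mul_cancel, kg_one]

/-- a conjugate of a one-sided half-turn in the wreath subgroup is conjugate there -/
theorem Sq.conj_mem {v c : GL ι F} (hv : S.Pure v) (hc : c ∈ M) (hq : c * v * c⁻¹ ∈ wreath e P) :
    c ∈ wreath e P := by
  have D := S.oo
  have hf := D.s1
  have h2 := D.two
  obtain ⟨p, hp, hcp, hodd⟩ := D.exists_char
  haveI := hcp
  haveI : Fact p.Prime := ⟨hp⟩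
  obtain ⟨q, hqd⟩ : ∃ q, q = c * v * c⁻¹ := ⟨_, rfl⟩
  rw [← hqd] at hq
  have hqM : q ∈ M := hqd ▸ mul_mem (mul_mem hc hv.mem) (inv_mem hc)
  have hqq : q * q = 1 := by
    rw [hqd, show c * v * c⁻¹ * (c * v * c⁻¹) = c * (v * v) * c⁻¹ by group, hv.sq, mul_one, mul_inv_cancel]
  obtain ⟨y, hyM, hyT, hy1, hyq, hyp⟩ : ∃ y ∈ M, y ∈ tensorProductSubgroup 3 3 e P ∧ y ≠ 1 ∧ q * y = y * q ∧
      y ^ p = 1 := by
    by_cases hT : q ∈ tensorProductSubgroup 3 3 e P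
    · obtain ⟨A, B, hA2, hB2, hA, hB, hAB⟩ := D.invol_data (by decide) (D.le_iso hqM) hT hqq
      have hd6 : Module.finrank F (negSp q) = 6 := by rw [hqd, negSp_conj, hv.negdim]
      have hfA := invol_finrank h2 hA2
      have hfB := invol_finrank h2 hB2
      rw [Fintype.card_fin] at hfA hfB
      rw [hAB, neg_dim h2 hA2 hB2] at hd6
      have hcases : (Module.finrank F (negSp A) = 0 ∨ Module.finrank F (fixSp A) = 0) ∨
          (Module.finrank F (negSp B) = 0 ∨ Module.finrank F (fixSp B) = 0) := by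
        by_contra hcon
        push Not at hcon
        obtain ⟨⟨a1, a2⟩, b1, b2⟩ := hcon
        rcases (show Module.finrank F (negSp A) = 1 ∨ Module.finrank F (negSp A) = 2 by omega) with ha | ha <;>
          rcases (show Module.finrank F (negSp B) = 1 ∨ Module.finrank F (negSp B) = 2 by omega) with hb | hb <;>
          rw [ha, hb, show Module.finrank F (fixSp A) = 3 - Module.finrank F (negSp A) by omega,
            show Module.finrank F (fixSp B) = 3 - Module.finrank F (negSp B) by omega, ha, hb] at hd6 <;>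
          omega
      have hscal : ∀ (C : GL (Fin 3) F), C * C = 1 →
          (Module.finrank F (negSp C) = 0 ∨ Module.finrank F (fixSp C) = 0) →
          ∀ X : GL (Fin 3) F, C * X = X * C := fun C hC h X => gl_ext_vec fun x => by
        obtain ⟨l, hl⟩ : ∃ l : F, ∀ z, (C : Matrix (Fin 3) (Fin 3) F) *ᵥ z = l • z := by
          rcases h with h | h
          · refine ⟨1, fun z => ?_⟩
            obtain ⟨h4, h5, h6⟩ := invol_decomp h2 hC z
            rw [Submodule.finrank_eq_zero.1 h, Submodule.mem_bot] at h5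
            rw [h5, add_zero] at h6
            rw [one_smul, h6, mem_fixSp.1 h4]
          · refine ⟨-1, fun z => ?_⟩
            obtain ⟨h4, h5, h6⟩ := invol_decomp h2 hC z
            rw [Submodule.finrank_eq_zero.1 h, Submodule.mem_bot] at h4
            rw [h4, zero_add] at h6
            rw [neg_one_smul, h6, mem_negSp.1 h5]
        rw [gl_mul_mulVec, gl_mul_mulVec, hl, hl, mulVec_smul]
      obtain ⟨a, -, ha0, haa⟩ := nd_singular hf h2 (nd_top hf) (by rw [top_finrank hf, Fintype.card_fin])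
      obtain ⟨c', -, hcc, hca⟩ := nd_partner hf h2 (nd_top hf) Submodule.mem_top ha0 haa
      have hdim := pair_finrank hf (⊤ : Submodule F (Fin 3 → F)) a c'
      rw [top_finrank hf, Fintype.card_fin] at hdim
      obtain ⟨w, hw, hww⟩ := nd_aniso hf h2
        (nd_perp_pair hf (nd_top hf) Submodule.mem_top Submodule.mem_top haa hcc hca) (by omega)
      have haw : f a w = 0 := by rw [hf.symm]; exact hw.1.2
      have hne : eic hf a w ≠ 1 := eic_moves hf h2 haa haw ha0 hww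
      have hpow : eic hf a w ^ p = 1 := eic_pow_char hf h2 haa haw
      rcases hcases with h | h
      · refine ⟨kg e P (eic hf a w) 1, D.eicL_mem haa haw, kg_mem _ _, fun he => hne (kgL_inj3 (e := e) (P := P)
          (he.trans kg_one.symm)), ?_, by rw [TensorOO.kg_pow, hpow, one_pow, kg_one]⟩
        rw [hAB, TensorOO.kg_mul, TensorOO.kg_mul, hscal A hA2 h, mul_one, one_mul]
      · refine ⟨kg e P 1 (eic hf a w), D.eicR_mem haa haw, kg_mem _ _, fun he => hne (kgR_inj3 (e := e) (P := P)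
          (he.trans kg_one.symm)), ?_, by rw [TensorOO.kg_pow, hpow, one_pow, kg_one]⟩
        rw [hAB, TensorOO.kg_mul, TensorOO.kg_mul, hscal B hB2 h, mul_one, one_mul]
    · obtain ⟨A, B, hA, hB, he | he⟩ := S.wreath_data (D.le_iso hqM) hq
      · exact absurd (he ▸ kg_mem A B) hT
      · subst he
        obtain ⟨y, h1, h2', h3, h4, h5⟩ := S.exists_diag hA hqq
        exact ⟨y, h1, h2', h3, h4, h5 p hp hcp⟩
  obtain ⟨y', hy'⟩ : ∃ y', y' = c⁻¹ * y * c := ⟨_, rfl⟩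
  have hy'M : y' ∈ M := hy' ▸ mul_mem (mul_mem (inv_mem hc) hyM) hc
  have hy'v : y' * v = v * y' := by
    rw [hy']
    calc c⁻¹ * y * c * v = c⁻¹ * (y * (c * v * c⁻¹)) * c := by group
      _ = c⁻¹ * (c * v * c⁻¹ * y) * c := by rw [← hqd, hyq]
      _ = _ := by group
  have hy'p : y' ^ p = 1 := by
    rw [hy', show c⁻¹ * y * c = c⁻¹ * y * c⁻¹⁻¹ by rw [inv_inv], conj_pow, hyp, mul_one, mul_inv_cancel]
  have hy'1 : y' ≠ 1 := fun h => hy1 (by
    rw [hy'] at h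
    calc y = c * (c⁻¹ * y * c) * c⁻¹ := by group
      _ = 1 := by rw [h, mul_one, mul_inv_cancel])
  obtain ⟨A, B, hA, hB, hAp, hBp, hAB⟩ :=
    S.pdata hy'M (wreath_odd (S.good hv hy'M hy'v) hodd hy'p) hy'p
  have hy : c * y' * c⁻¹ ∈ wreath e P := by
    rw [hy', show c * (c⁻¹ * y * c) * c⁻¹ = y by group]
    exact tensor_le_wreath hyT
  obtain ⟨t, ht, hv' | hv'⟩ := hv <;> subst hv'
  · rw [hAB, TensorOO.kg_mul, TensorOO.kg_mul, mul_one, one_mul] at hy'v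
    have hA1 : A = 1 := by
      obtain ⟨l, hl0, hl, hlB⟩ := kg_unique hy'v
      have hl1 : l = 1 := by
        obtain ⟨x0, hx0⟩ : ∃ x : Fin 3 → F, x ≠ 0 := ⟨Pi.single 0 1, by simp⟩
        have e1 := hlB x0
        have e2 : (B : Matrix (Fin 3) (Fin 3) F) *ᵥ x0 ≠ 0 := fun h => hx0 (gl_mulVec_eq_zero.1 h)
        exact (smul_left_injective F e2 ((one_smul F _).trans e1)).symm
      exact std_comm_p hf h2 ht hA hAp (gl_ext_vec fun x => by rw [hl x, hl1, one_smul])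
    have hB1 : B ≠ 1 := fun h => hy'1 (by rw [hAB, hA1, h, kg_one])
    obtain ⟨b, w, _, hb, hbb, hbw, hww, -, -, -, rfl⟩ := unip_eic hf h2 (p := p) hB hBp hB1
    exact S.step_right hb hbb hbw hww hc (by rwa [hAB, hA1] at hy)
  · rw [hAB, TensorOO.kg_mul, TensorOO.kg_mul, mul_one, one_mul] at hy'v
    have hB1 : B = 1 := by
      obtain ⟨l, hl0, hl, hlB⟩ := kg_unique hy'v
      have hl1 : l = 1 := by
        obtain ⟨x0, hx0⟩ : ∃ x : Fin 3 → F, x ≠ 0 := ⟨Pi.single 0 1, by simp⟩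
        have e1 := hl x0
        have e2 : (A : Matrix (Fin 3) (Fin 3) F) *ᵥ x0 ≠ 0 := fun h => hx0 (gl_mulVec_eq_zero.1 h)
        exact (smul_left_injective F e2 ((one_smul F _).trans e1)).symm
      exact std_comm_p hf h2 ht hB hBp (gl_ext_vec fun x => by rw [hlB x, hl1, one_smul])
    have hA1 : A ≠ 1 := fun h => hy'1 (by rw [hAB, hB1, h, kg_one])
    obtain ⟨a, w, _, ha, haa, haw, hww, -, -, -, rfl⟩ := unip_eic hf h2 (p := p) hA hAp hA1
    exact S.step_left ha haa haw hww hc (by rwa [hAB, hB1] at hy)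

theorem Sq.pure_of_conj {v c : GL ι F} (hv : S.Pure v) (hc : c ∈ M) (hq : c * v * c⁻¹ ∈ wreath e P) :
    S.Pure (c * v * c⁻¹) :=
  Sq.Pure.conj S hv hc (S.conj_mem hv hc hq)

end CfsgLib.Perm.Trans.TensorSquare
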