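import Mathlib
import Cfsg.Agent.Lib.Perm.Trans.TensorSquare.Main

/-!
# The centraliser of a product of half-turns, and the overgroup lies in the wreath subgroup
-/

set_option autoImplicit false
set_option linter.all false

namespace CfsgLib.Perm.Trans.TensorSquare

open scoped Matrix
open Matrix Cfsg.Geo CfsgLib.Perm.Asch CfsgLib.Perm.Trans CfsgLib.Perm.Trans.TensorFrame
open CfsgLib.Perm.Trans.TensorMax CfsgLib.Perm.Trans.Quad CfsgLib.Perm.Trans.TensorSO CfsgLib.Perm.Trans.TensorOO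

variable {ι : Type} [Fintype ι] [DecidableEq ι] {F : Type*} [Field F] [Fintype F]
variable {e : ι ≃ Fin 3 × Fin 3} {P : GL ι F}
variable {Q : (ι → F) → F} {f : (Fin 3 → F) → (Fin 3 → F) → F} {k : F} {M : Subgroup (GL ι F)}

local notation "T" => tvec e P

/-- pure tensors of two half-turns are determined by their factors -/
theorem kg_std_inj (hf : IsSymmetricForm f) (h2 : (2 : F) ≠ 0) {t s t' s' : GL (Fin 3) F} (ht : Std hf t)
    (ht' : Std hf t') (h : kg e P t s = kg e P t' s') : t' = t ∧ s = s' := by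
  obtain ⟨l, hl0, hl, hls⟩ := kg_unique h
  obtain ⟨he, rfl⟩ := Std.eq_of_smul hf h2 ht ht' hl
  exact ⟨he, gl_ext_vec fun x => by rw [hls, one_smul]⟩

/-- a half-turn is not one-sided on both sides -/
theorem kg_left_ne_right (hf : IsSymmetricForm f) (h2 : (2 : F) ≠ 0) {t s : GL (Fin 3) F} (ht : Std hf t) :
    kg e P t (1 : GL (Fin 3) F) ≠ kg e P (1 : GL (Fin 3) F) s := fun h => by
  obtain ⟨l, -, hl, -⟩ := kg_unique h.symm
  exact Std.not_scalar hf h2 ht l fun x => by rw [hl, Units.val_one, one_mulVec]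

/-- an involution commuting with a half-turn and fixing its axis equals it -/
theorem halfturn_or_neg (hf : IsSymmetricForm f) (h2 : (2 : F) ≠ 0) {d : Fin 3 → Fin 3 → F} {c : F}
    (hd : EFrame f d c) {A : GL (Fin 3) F} (hA2 : A * A = 1) (hA : Isom f A)
    (hneg : Module.finrank F (negSp A) = 2)
    (hcomm : A * rr hf (hd.aniso 1) (hd.aniso 2) = rr hf (hd.aniso 1) (hd.aniso 2) * A) :
    A = rr hf (hd.aniso 1) (hd.aniso 2) ∨ (A : Matrix (Fin 3) (Fin 3) F) *ᵥ d 0 = -d 0 := by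
  have hd0 : d 0 ≠ 0 := fun e => hd.aniso 0 (by rw [e, Orth.sym_zero_left hf])
  obtain ⟨x, hx⟩ : ∃ x, x = (A : Matrix (Fin 3) (Fin 3) F) *ᵥ d 0 := ⟨_, rfl⟩
  have hfix : (rr hf (hd.aniso 1) (hd.aniso 2) : Matrix (Fin 3) (Fin 3) F) *ᵥ x = x := by
    rw [hx, ← gl_mul_mulVec, ← hcomm, gl_mul_mulVec,
      rr_perp hf _ _ (hd.orth 0 1 (by decide)) (hd.orth 0 2 (by decide))]
  rw [rr_formula hf h2 hd] at hfix
  obtain ⟨μ, hμ⟩ : ∃ μ, μ = c⁻¹ * f x (d 0) := ⟨_, rfl⟩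
  have hAd : (A : Matrix (Fin 3) (Fin 3) F) *ᵥ d 0 = μ • d 0 := by
    rw [← hx, hμ]
    refine smul_right_injective (Fin 3 → F) h2 ?_
    show (2 : F) • x = (2 : F) • _
    linear_combination (norm := module) -hfix
  have hμ2 : μ * μ = 1 := by
    have h : ((A * A : GL (Fin 3) F) : Matrix (Fin 3) (Fin 3) F) *ᵥ d 0 = (μ * μ) • d 0 := by
      rw [gl_mul_mulVec, hAd, mulVec_smul, hAd, smul_smul]
    rw [hA2, Units.val_one, one_mulVec] at h
    exact (smul_left_injective F hd0 ((one_smul F _).trans h)).symm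
  rcases mul_self_eq_one_iff.1 hμ2 with h1 | h1
  swap
  · right; rw [hAd, h1, neg_one_smul]
  left
  rw [h1, one_smul] at hAd
  have hline : Submodule.span F {d 0} = fixSp A := by
    refine Submodule.eq_of_le_of_finrank_le ((Submodule.span_singleton_le_iff_mem _ _).2 (mem_fixSp.2 hAd)) ?_
    have := invol_finrank h2 hA2
    rw [Fintype.card_fin, hneg] at this
    rw [finrank_span_singleton hd0]
    omega
  refine gl_ext_vec fun v => ?_
  obtain ⟨w, hw⟩ : ∃ w, w = v - (c⁻¹ * f v (d 0)) • d 0 := ⟨_, rfl⟩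
  have hw0 : f w (d 0) = 0 := by
    rw [hw, Orth.sym_sub_left hf, hf.bilinear.smul_left, hd.norm]
    field_simp [hd.cne]
    ring
  obtain ⟨h4, -, -⟩ := invol_decomp h2 hA2 w
  rw [← hline] at h4
  obtain ⟨ν, hν⟩ := Submodule.mem_span_singleton.1 h4
  have hν0 : ν = 0 := by
    have h := congrArg (fun z => f z (d 0)) hν
    simp only [hf.bilinear.smul_left, hf.bilinear.add_left, hw0, hd.norm] at h
    rw [show f ((A : Matrix (Fin 3) (Fin 3) F) *ᵥ w) (d 0) = 0 by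
      conv_lhs => rw [← hAd, hA]
      exact hw0, add_zero, mul_zero] at h
    exact (mul_eq_zero.1 h).resolve_right hd.cne
  rw [hν0, zero_smul, eq_comm, smul_eq_zero] at hν
  have hAw : (A : Matrix (Fin 3) (Fin 3) F) *ᵥ w = -w :=
    (neg_eq_of_add_eq_zero_right (hν.resolve_left (inv_ne_zero h2))).symm
  have hv : v = w + (c⁻¹ * f v (d 0)) • d 0 := by rw [hw]; abel
  rw [rr_formula hf h2 hd]
  conv_lhs => rw [hv, mulVec_add, mulVec_smul, hAd, hAw, hw]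
  module

variable (S : Sq Q f e P k M)
include S

/-- pure tensors of two half-turns -/
def Sq.Pair (S : Sq Q f e P k M) (z : GL ι F) : Prop :=
  ∃ t s, Std S.oo.s1 t ∧ Std S.oo.s1 s ∧ z = kg e P t s

theorem Sq.Pair.mem {z : GL ι F} (h : S.Pair z) : z ∈ M := by
  obtain ⟨t, s, ht, hs, rfl⟩ := h
  have := mul_mem (S.stdL_mem ht) (S.stdR_mem hs)
  rwa [TensorOO.kg_mul, mul_one, one_mul] at this

theorem Sq.Pair.sq {z : GL ι F} (h : S.Pair z) : z * z = 1 := by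
  obtain ⟨t, s, ht, hs, rfl⟩ := h
  rw [TensorOO.kg_mul, Std.sq S.oo.s1 ht, Std.sq S.oo.s1 hs, kg_one]

theorem Sq.Pair.negdim {z : GL ι F} (h : S.Pair z) : Module.finrank F (negSp z) = 4 := by
  obtain ⟨t, s, ht, hs, rfl⟩ := h
  have hf := S.oo.s1
  have h2 := S.oo.two
  rw [neg_dim h2 (Std.sq hf ht) (Std.sq hf hs), Std.negdim hf h2 ht, Std.negdim hf h2 hs, Std.fixdim hf h2 ht,
    Std.fixdim hf h2 hs]

theorem Sq.Pair.conj {z n : GL ι F} (h : S.Pair z) (hn : n ∈ M) (hnW : n ∈ wreath e P) : S.Pair (n * z * n⁻¹) := by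
  obtain ⟨t, s, ht, hs, rfl⟩ := h
  obtain ⟨A, B, hA, hB, he | he⟩ := S.wreath_data (S.oo.le_iso hn) hnW <;> subst he
  · exact ⟨_, _, Std.conj S.oo.s1 ht hA, Std.conj S.oo.s1 hs hB, kg_conj _ _ _ _⟩
  · exact ⟨_, _, Std.conj S.oo.s1 hs hA, Std.conj S.oo.s1 ht hB, kgtau_conj _ _ _ _⟩

/-- the involutions with four-dimensional negated space in the tensor product subgroup -/
theorem Sq.four_data {q : GL ι F} (hq : q ∈ M) (hT : q ∈ tensorProductSubgroup 3 3 e P) (hqq : q * q = 1)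
    (h4 : Module.finrank F (negSp q) = 4) : ∃ A B : GL (Fin 3) F, A * A = 1 ∧ B * B = 1 ∧ Isom f A ∧ Isom f B ∧
      Module.finrank F (negSp A) = 2 ∧ Module.finrank F (negSp B) = 2 ∧ q = kg e P A B := by
  have h2 := S.oo.two
  have hf := S.oo.s1
  obtain ⟨A, B, hA2, hB2, hA, hB, hAB⟩ := S.oo.invol_data (by decide) (S.oo.le_iso hq) hT hqq
  have hfA := invol_finrank h2 hA2
  have hfB := invol_finrank h2 hB2
  rw [Fintype.card_fin] at hfA hfB
  rw [hAB, neg_dim h2 hA2 hB2] at h4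
  have hcase : (Module.finrank F (negSp A) = 2 ∧ Module.finrank F (negSp B) = 2) ∨
      (Module.finrank F (fixSp A) = 2 ∧ Module.finrank F (fixSp B) = 2) := by
    obtain ⟨a, ha⟩ : ∃ a, a = Module.finrank F (negSp A) := ⟨_, rfl⟩
    obtain ⟨b, hb⟩ : ∃ b, b = Module.finrank F (negSp B) := ⟨_, rfl⟩
    obtain ⟨a', ha'⟩ : ∃ a', a' = Module.finrank F (fixSp A) := ⟨_, rfl⟩
    obtain ⟨b', hb'⟩ : ∃ b', b' = Module.finrank F (fixSp B) := ⟨_, rfl⟩
    simp only [← ha, ← hb, ← ha', ← hb'] at h4 hfA hfB ⊢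
    have ha3 : a ≤ 3 := by omega
    have hb3 : b ≤ 3 := by omega
    obtain rfl : a' = 3 - a := by omega
    obtain rfl : b' = 3 - b := by omega
    interval_cases a <;> interval_cases b <;> omega
  rcases hcase with ⟨ha, hb⟩ | ⟨ha, hb⟩
  · exact ⟨A, B, hA2, hB2, hA, hB, ha, hb, hAB⟩
  obtain ⟨A', hA'⟩ := exists_neg_gl A
  obtain ⟨B', hB'⟩ := exists_neg_gl B
  have key : ∀ C C' : GL (Fin 3) F, C * C = 1 → Isom f C →
      (∀ x, (C' : Matrix (Fin 3) (Fin 3) F) *ᵥ x = -((C : Matrix (Fin 3) (Fin 3) F) *ᵥ x)) →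
      C' * C' = 1 ∧ Isom f C' ∧ negSp C' = fixSp C := fun C C' h1 h3 h =>
    ⟨gl_ext_vec fun x => by rw [gl_mul_mulVec, h, h, mulVec_neg, neg_neg, ← gl_mul_mulVec, h1],
      fun x x' => by rw [h, h, Orth.sym_neg_left hf, Orth.sym_neg_right hf, neg_neg, h3],
      SetLike.ext fun x => by rw [mem_negSp, mem_fixSp, h, neg_inj]⟩
  obtain ⟨a1, a2, a3⟩ := key A A' hA2 hA hA'
  obtain ⟨b1, b2, b3⟩ := key B B' hB2 hB hB'
  refine ⟨A', B', a1, b1, a2, b2, by rw [a3, ha], by rw [b3, hb], gl_ext_tvec (e := e) (P := P) fun x y => ?_⟩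
  rw [hAB, kg_tvec, kg_tvec, hA', hB', TensorOO.tvec_neg_left, TensorOO.tvec_neg_right, neg_neg]

/-- the centraliser of a product of two half-turns -/
theorem Sq.pair_centralizer {w h : GL ι F} (hw : S.Pair w) (hh : h ∈ M) (hcomm : h * w = w * h) :
    h ∈ wreath e P := by
  have D := S.oo
  have hf := D.s1
  have h2 := D.two
  obtain ⟨t, t', ht, ht', rfl⟩ := hw
  obtain ⟨w, hwd⟩ : ∃ w, w = kg e P t t' := ⟨_, rfl⟩
  change h * kg e P t t' = kg e P t t' * h at hcomm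
  rw [← hwd] at hcomm
  obtain ⟨d, c, hd, htd⟩ := id ht
  obtain ⟨d', c', hd', htd'⟩ := id ht'
  have hd0 : d 0 ≠ 0 := fun e => hd.aniso 0 (by rw [e, Orth.sym_zero_left hf])
  have hd'0 : d' 0 ≠ 0 := fun e => hd'.aniso 0 (by rw [e, Orth.sym_zero_left hf])
  have hd2 : d 2 ≠ 0 := fun e => hd.aniso 2 (by rw [e, Orth.sym_zero_left hf])
  obtain ⟨γ, hγd⟩ : ∃ γ, γ = rr hf (hd.aniso 0) (hd.aniso 2) := ⟨_, rfl⟩
  have hγ : Std hf γ := by
    refine ⟨_, c, hd.perm (Equiv.swap 0 1), ?_⟩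
    rw [hγd]
    simp only [Function.comp_apply, show Equiv.swap (0 : Fin 3) 1 1 = 0 from by decide,
      show Equiv.swap (0 : Fin 3) 1 2 = 2 from by decide]
  have hγ0 : (γ : Matrix (Fin 3) (Fin 3) F) *ᵥ d 0 = -d 0 := by
    rw [hγd, rr, gl_mul_mulVec, refl_perp hf (hd.aniso 2) (hd.orth 0 2 (by decide)), refl_self hf]
  have hγ2 : (γ : Matrix (Fin 3) (Fin 3) F) *ᵥ d 2 = -d 2 := by
    rw [hγd, rr, gl_mul_mulVec, refl_self hf, mulVec_neg, refl_perp hf (hd.aniso 0) (hd.orth 2 0 (by decide))]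
  have htd0 : (t : Matrix (Fin 3) (Fin 3) F) *ᵥ d 0 = d 0 := by
    rw [htd]; exact rr_perp hf _ _ (hd.orth 0 1 (by decide)) (hd.orth 0 2 (by decide))
  have htd2 : (t : Matrix (Fin 3) (Fin 3) F) *ᵥ d 2 = -d 2 := by
    rw [htd, rr, gl_mul_mulVec, refl_self hf, mulVec_neg, refl_perp hf (hd.aniso 1) (hd.orth 2 1 (by decide))]
  have hγt : γ ≠ t := fun e => hd0 (by
    have h1 := hγ0
    rw [e, htd0] at h1
    exact (smul_eq_zero.1 (show (2 : F) • d 0 = 0 by linear_combination (norm := module) h1)).resolve_left h2)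
  have hγtc : γ * t = t * γ := by
    rw [hγd, htd]
    simp only [rr]
    rw [mul_assoc, ← mul_assoc (refl hf (d 2) (hd.aniso 2)),
      refl_orth_comm hf (hd.aniso 2) (hd.aniso 1) (hd.orth 2 1 (by decide)), mul_assoc (refl hf (d 1) (hd.aniso 1)),
      refl_sq, mul_one, refl_orth_comm hf (hd.aniso 0) (hd.aniso 1) (hd.orth 0 1 (by decide)), mul_assoc,
      ← mul_assoc (refl hf (d 2) (hd.aniso 2)), refl_orth_comm hf (hd.aniso 2) (hd.aniso 0) (hd.orth 2 0 (by decide)),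
      mul_assoc (refl hf (d 0) (hd.aniso 0)), refl_sq, mul_one]
  obtain ⟨v, hv⟩ : ∃ v, v = kg e P t (1 : GL (Fin 3) F) := ⟨_, rfl⟩
  obtain ⟨u, hu⟩ : ∃ u, u = kg e P γ (1 : GL (Fin 3) F) := ⟨_, rfl⟩
  have hvP : S.Pure v := ⟨t, ht, Or.inl hv⟩
  have huP : S.Pure u := ⟨γ, hγ, Or.inl hu⟩
  have hvw : v * w = w * v := by rw [hv, hwd, TensorOO.kg_mul, TensorOO.kg_mul, mul_one, one_mul]
  have huw : u * w = w * u := by rw [hu, hwd, TensorOO.kg_mul, TensorOO.kg_mul, mul_one, one_mul, hγtc]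
  obtain ⟨x, hx⟩ : ∃ x, x = h * v * h⁻¹ := ⟨_, rfl⟩
  have hxM : x ∈ M := hx ▸ mul_mem (mul_mem hh hvP.mem) (inv_mem hh)
  have hxw : x * w = w * x := by
    have hinv : h⁻¹ * w = w * h⁻¹ := by
      rw [inv_mul_eq_iff_eq_mul, ← mul_assoc, hcomm, mul_inv_cancel_right]
    rw [hx]
    calc h * v * h⁻¹ * w = h * v * (h⁻¹ * w) := by group
      _ = h * (v * w) * h⁻¹ := by rw [hinv]; group
      _ = h * w * v * h⁻¹ := by rw [hvw]; group
      _ = w * (h * v * h⁻¹) := by rw [hcomm]; group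
  have hxx : x * x = 1 := by
    rw [hx, show h * v * h⁻¹ * (h * v * h⁻¹) = h * (v * v) * h⁻¹ by group, hvP.sq, mul_one, mul_inv_cancel]
  have hcl : Subgroup.closure ({x, u} : Set (GL ι F)) ≤ M ⊓ Subgroup.centralizer {w} := by
    rw [Subgroup.closure_le]
    rintro g (rfl | rfl)
    · exact ⟨hxM, Subgroup.mem_centralizer_singleton_iff.2 hxw⟩
    · exact ⟨huP.mem, Subgroup.mem_centralizer_singleton_iff.2 huw⟩
  have hclw : ∀ g ∈ Subgroup.closure ({x, u} : Set (GL ι F)), g ∈ M ∧ g * w = w * g := fun g hg =>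
    ⟨(hcl hg).1, Subgroup.mem_centralizer_singleton_iff.1 (hcl hg).2⟩
  have hconjv : x ∈ wreath e P → h ∈ wreath e P := fun hxW => S.conj_mem hvP hh (hx ▸ hxW)
  rcases invol_pair_parity hxx huP.sq with ⟨-, g, hg, hxg⟩ | ⟨n, hn1, hn2, hnx, hnu, hpar⟩
  · exfalso
    obtain ⟨hgM, hgw⟩ := hclw g hg
    obtain ⟨m, hm⟩ : ∃ m, m = h⁻¹ * g := ⟨_, rfl⟩
    have hmM : m ∈ M := hm ▸ mul_mem (inv_mem hh) hgM
    have hmv : m * u * m⁻¹ = v := by
      rw [hm, show h⁻¹ * g * u * (h⁻¹ * g)⁻¹ = h⁻¹ * (g * u * g⁻¹) * h by group, ← hxg, hx]; group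
    have hmW : m ∈ wreath e P := S.conj_mem huP hmM (by rw [hmv]; exact hvP.mem_wreath)
    have hmw : m * w * m⁻¹ = w := by
      rw [hm, show h⁻¹ * g * w * (h⁻¹ * g)⁻¹ = h⁻¹ * (g * w * g⁻¹) * h by group,
        show g * w * g⁻¹ = w by rw [hgw, mul_inv_cancel_right], mul_assoc, ← hcomm, inv_mul_cancel_left]
    obtain ⟨A, B, hA, hB, he | he⟩ := S.wreath_data (D.le_iso hmM) hmW <;> subst he
    · rw [hu, hv, kg_conj, mul_one, mul_inv_cancel] at hmv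
      rw [hwd, kg_conj] at hmw
      have e1 := kgL_inj3 hmv
      obtain ⟨e2, -⟩ := kg_std_inj hf h2 (Std.conj hf ht hA) ht hmw
      have e3 : A * γ * A⁻¹ = A * t * A⁻¹ := by rw [e1, ← e2]
      exact hγt (mul_left_cancel (mul_right_cancel e3))
    · rw [hu, hv, kgtau_conj, mul_one, mul_inv_cancel] at hmv
      exact kg_left_ne_right hf h2 ht hmv.symm
  obtain ⟨z, hz⟩ : ∃ z, z = (x * u) ^ n := ⟨_, rfl⟩
  rw [← hz] at hn1 hn2 hnx hnu
  have hzM : z ∈ M := hz ▸ pow_mem (mul_mem hxM huP.mem) n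
  have hzW : z ∈ wreath e P := S.good huP hzM hnu
  have hzw : z * w = w * z := by
    rw [hz]
    exact ((show Commute x w from hxw).mul_left (show Commute u w from huw)).pow_left n |>.eq
  rw [← hz] at hpar
  obtain ⟨q, hq⟩ : ∃ q, q = z * u := ⟨_, rfl⟩
  have hqW : q ∈ wreath e P := hq ▸ mul_mem hzW huP.mem_wreath
  rw [← hq] at hpar
  have hqP : S.Pure q := by
    rcases hpar with ⟨-, g, hg, hqg⟩ | ⟨-, g, hg, hqg⟩
    · rw [hqg] at hqW ⊢
      exact S.pure_of_conj huP (hclw g hg).1 hqW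
    · rw [hqg, hx, show g * (h * v * h⁻¹) * g⁻¹ = g * h * v * (g * h)⁻¹ by group] at hqW ⊢
      exact S.pure_of_conj hvP (mul_mem (hclw g hg).1 hh) hqW
  have hzq : z = q * u := by rw [hq, mul_assoc, huP.sq, mul_one]
  obtain ⟨σ, hσ, hqσ | hqσ⟩ := id hqP
  · -- `z` is one-sided
    refine hconjv (S.good (v := z) ?_ hxM hnx.symm)
    rw [hzq, hqσ, hu, TensorOO.kg_mul, mul_one]
    have hσγ : σ * γ = γ * σ := by
      have h1 : q * u = u * q := by rw [hq, mul_assoc, huP.sq, mul_one, ← mul_assoc, ← hnu, mul_assoc, huP.sq, mul_one]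
      rw [hqσ, hu, TensorOO.kg_mul, TensorOO.kg_mul, mul_one] at h1
      exact kgL_inj3 h1
    have hne : σ ≠ γ := fun e => hn1 (by rw [hzq, hqσ, hu, e, TensorOO.kg_mul, Std.sq hf hγ, mul_one, kg_one])
    exact ⟨_, Std.mul hf h2 hγ hσ hσγ hne, Or.inl rfl⟩
  have hzγσ : z = kg e P γ σ := by rw [hzq, hqσ, hu, TensorOO.kg_mul, one_mul, mul_one]
  have hσt : σ * t' = t' * σ := by
    have h1 := hzw
    rw [hzγσ, hwd, TensorOO.kg_mul, TensorOO.kg_mul, ← hγtc] at h1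
    refine kgR_inj3 (e := e) (P := P) (mul_left_cancel (a := kg e P (γ * t) (1 : GL (Fin 3) F)) ?_)
    rw [TensorOO.kg_mul, TensorOO.kg_mul, mul_one, one_mul, one_mul]
    exact h1
  by_cases hσeq : σ = t'
  · refine hconjv (S.good (v := z * w) ?_ hxM ?_)
    · refine ⟨γ * t, Std.mul hf h2 ht hγ hγtc hγt, Or.inl ?_⟩
      rw [hzγσ, hwd, TensorOO.kg_mul, hσeq, Std.sq hf ht']
    · rw [← mul_assoc, ← hnx, mul_assoc, hxw, ← mul_assoc]
  rcases hpar with ⟨⟨m, hm⟩, -⟩ | ⟨-, g, hg, hqg⟩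
  swap
  · exfalso
    obtain ⟨hgM, hgw⟩ := hclw g hg
    obtain ⟨m, hm⟩ : ∃ m, m = g * h := ⟨_, rfl⟩
    have hmM : m ∈ M := hm ▸ mul_mem hgM hh
    have hmq : m * v * m⁻¹ = q := by rw [hqg, hx, hm]; group
    have hmW : m ∈ wreath e P := S.conj_mem hvP hmM (hmq ▸ hqW)
    have hmw : m * w * m⁻¹ = w := by
      rw [hm, mul_assoc g h w, hcomm, ← mul_assoc, hgw, mul_assoc w g h, mul_inv_cancel_right]
    obtain ⟨A, B, hA, hB, he | he⟩ := S.wreath_data (D.le_iso hmM) hmW <;> subst he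
    · rw [hqσ, hv, kg_conj, mul_one, mul_inv_cancel] at hmq
      exact kg_left_ne_right hf h2 (Std.conj hf ht hA) hmq
    · rw [hqσ, hv, kgtau_conj, mul_one, mul_inv_cancel] at hmq
      rw [hwd, kgtau_conj] at hmw
      obtain ⟨-, e2⟩ := kg_std_inj hf h2 (Std.conj hf ht' hA) ht hmw
      exact hσeq ((kgR_inj3 hmq).symm.trans e2)
  exfalso
  obtain ⟨g', hg', hg'0, hσg, -⟩ := Std.frame_of_comm hf h2 hd' hσ (htd' ▸ hσt) (htd' ▸ hσeq)
  have hσ1 : (σ : Matrix (Fin 3) (Fin 3) F) *ᵥ g' 1 = g' 1 := by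
    rw [hσg]; exact rr_perp hf _ _ (hg'.orth 1 0 (by decide)) (hg'.orth 1 2 (by decide))
  have ht'1 : (t' : Matrix (Fin 3) (Fin 3) F) *ᵥ g' 1 = -g' 1 := by
    rw [htd', rr_formula hf h2 hd', ← hg'0, hg'.orth 1 0 (by decide), mul_zero, mul_zero, zero_smul, add_zero]
  have hg'10 : g' 1 ≠ 0 := fun e => hg'.aniso 1 (by rw [e, Orth.sym_zero_left hf])
  obtain ⟨y, hy⟩ : ∃ y, y = T (d 2) (g' 1) := ⟨_, rfl⟩
  have hwy : (w : Matrix ι ι F) *ᵥ y = y := by
    rw [hy, hwd, kg_tvec, htd2, ht'1, TensorOO.tvec_neg_left, TensorOO.tvec_neg_right, neg_neg]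
  have hzy : (z : Matrix ι ι F) *ᵥ y = -y := by
    rw [hy, hzγσ, kg_tvec, hγ2, hσ1, TensorOO.tvec_neg_left]
  have huy : (u : Matrix ι ι F) *ᵥ y = -y := by
    rw [hy, hu, kg_tvec, hγ2, Units.val_one, one_mulVec, TensorOO.tvec_neg_left]
  obtain ⟨η, hη⟩ : ∃ η, η = ((h⁻¹ : GL ι F) : Matrix ι ι F) *ᵥ y := ⟨_, rfl⟩
  obtain ⟨z', hz'⟩ : ∃ z', z' = h⁻¹ * z * h := ⟨_, rfl⟩
  have hwη : (w : Matrix ι ι F) *ᵥ η = η := by
    have hinv : w * h⁻¹ = h⁻¹ * w := by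
      rw [eq_inv_mul_iff_mul_eq, ← mul_assoc, hcomm, mul_inv_cancel_right]
    rw [hη, ← gl_mul_mulVec, hinv, gl_mul_mulVec, hwy]
  have hz'η : (z' : Matrix ι ι F) *ᵥ η = -η := by
    rw [hz', hη, gl_mul_mulVec, gl_mul_mulVec, gl_mulVec_inv, hzy, mulVec_neg]
  have hz'v : z' * v = v * z' := by
    rw [hz']
    calc h⁻¹ * z * h * v = h⁻¹ * (z * (h * v * h⁻¹)) * h := by group
      _ = h⁻¹ * (h * v * h⁻¹ * z) * h := by rw [← hx, hnx]
      _ = v * (h⁻¹ * z * h) := by group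
  have hz'w : z' * w = w * z' := by
    rw [hz']
    calc h⁻¹ * z * h * w = h⁻¹ * z * (h * w) := by group
      _ = h⁻¹ * (z * w) * h := by rw [hcomm]; group
      _ = h⁻¹ * (w * z) * h := by rw [hzw]
      _ = h⁻¹ * w * z * h := by group
      _ = w * h⁻¹ * z * h := by
        rw [show h⁻¹ * w = w * h⁻¹ by rw [inv_mul_eq_iff_eq_mul, ← mul_assoc, hcomm, mul_inv_cancel_right]]
      _ = w * (h⁻¹ * z * h) := by group
  have hz'M : z' ∈ M := hz' ▸ mul_mem (mul_mem (inv_mem hh) hzM) hh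
  have hz'conj : z' * v * z'⁻¹ = v := by rw [hz'v, mul_inv_cancel_right]
  have hz'T : z' ∈ tensorProductSubgroup 3 3 e P := by
    obtain ⟨A, B, hA, hB, he | he⟩ := S.wreath_data (D.le_iso hz'M) (S.good hvP hz'M hz'v)
    · exact he ▸ kg_mem A B
    · exfalso
      rw [he, hv, kgtau_conj, mul_one, mul_inv_cancel] at hz'conj
      exact kg_left_ne_right hf h2 ht hz'conj.symm
  have hzP : S.Pair z := ⟨γ, σ, hγ, hσ, hzγσ⟩
  have hzwP : S.Pair (z * w) := ⟨γ * t, σ * t', Std.mul hf h2 ht hγ hγtc hγt, Std.mul hf h2 ht' hσ hσt hσeq,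
    by rw [hzγσ, hwd, TensorOO.kg_mul]⟩
  have hconjdim : ∀ a : GL ι F, Module.finrank F (negSp (h⁻¹ * a * h)) = Module.finrank F (negSp a) := fun a => by
    have := negSp_conj h⁻¹ a
    rwa [inv_inv] at this
  obtain ⟨A, B, hA2, hB2, hA, hB, hAn, hBn, hAB⟩ := S.four_data hz'M hz'T
    (by rw [hz', show h⁻¹ * z * h * (h⁻¹ * z * h) = h⁻¹ * (z * z) * h by group, hn2, mul_one, inv_mul_cancel])
    (by rw [hz', hconjdim, hzP.negdim])
  have hAt : A * t = t * A := by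
    rw [hAB, hv, TensorOO.kg_mul, TensorOO.kg_mul, mul_one, one_mul] at hz'v
    obtain ⟨l, -, hl, hlB⟩ := kg_unique hz'v
    obtain ⟨x0, hx0⟩ : ∃ x : Fin 3 → F, x ≠ 0 := ⟨Pi.single 0 1, by simp⟩
    have hl1 : l = 1 := (smul_left_injective F
      (show (B : Matrix (Fin 3) (Fin 3) F) *ᵥ x0 ≠ 0 from fun e => hx0 (gl_mulVec_eq_zero.1 e))
      ((one_smul F _).trans (hlB x0))).symm
    exact gl_ext_vec fun x => by rw [hl x, hl1, one_smul]
  have hBt : B * t' = t' * B := by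
    rw [hAB, hwd, TensorOO.kg_mul, TensorOO.kg_mul, ← hAt] at hz'w
    refine kgR_inj3 (e := e) (P := P) (mul_left_cancel (a := kg e P (A * t) (1 : GL (Fin 3) F)) ?_)
    rw [TensorOO.kg_mul, TensorOO.kg_mul, mul_one, one_mul, one_mul]
    exact hz'w
  have hzw' : Module.finrank F (negSp (z' * w)) = 4 := by
    have : z' * w = h⁻¹ * (z * w) * h := by
      rw [hz']
      calc h⁻¹ * z * h * w = h⁻¹ * z * (h * w) := by group
        _ = h⁻¹ * (z * w) * h := by rw [hcomm]; group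
    rw [this, hconjdim, hzwP.negdim]
  have hone : Module.finrank F (negSp (1 : GL (Fin 3) F)) = 0 ∧ Module.finrank F (fixSp (1 : GL (Fin 3) F)) = 3 := by
    have h' := invol_finrank h2 (g := (1 : GL (Fin 3) F)) (one_mul 1)
    rw [Fintype.card_fin, negSp_one hf h2, finrank_bot] at h'
    exact ⟨by rw [negSp_one hf h2, finrank_bot], by omega⟩
  have hAd : (A : Matrix (Fin 3) (Fin 3) F) *ᵥ d 0 = -d 0 := by
    refine (halfturn_or_neg hf h2 hd hA2 hA hAn (htd ▸ hAt)).resolve_left fun e => ?_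
    rw [← htd] at e
    have hBB : B * t' * (B * t') = 1 := by
      rw [(show Commute t' B from hBt.symm).mul_mul_mul_comm, hB2, Std.sq hf ht', one_mul]
    rw [hAB, hwd, TensorOO.kg_mul, e, Std.sq hf ht, neg_dim h2 (one_mul 1) hBB, hone.1, hone.2] at hzw'
    omega
  have hBd : (B : Matrix (Fin 3) (Fin 3) F) *ᵥ d' 0 = -d' 0 := by
    refine (halfturn_or_neg hf h2 hd' hB2 hB hBn (htd' ▸ hBt)).resolve_left fun e => ?_
    rw [← htd'] at e
    have hAA : A * t * (A * t) = 1 := by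
      rw [(show Commute t A from hAt.symm).mul_mul_mul_comm, hA2, Std.sq hf ht, one_mul]
    rw [hAB, hwd, TensorOO.kg_mul, e, Std.sq hf ht', neg_dim h2 hAA (one_mul 1), hone.1, hone.2] at hzw'
    omega
  -- `v` negates `η`
  obtain ⟨μv, hμv⟩ : ∃ m, m = c⁻¹ • D.cob (d 0) η := ⟨_, rfl⟩
  obtain ⟨η₁, hη₁⟩ : ∃ η₁, η₁ = T (d 0) μv := ⟨_, rfl⟩
  have hvη : (v : Matrix ι ι F) *ᵥ η = -η + (2 : F) • η₁ := by
    rw [hv, htd, S.invol_apply hd, hη₁, hμv]
  have hwη₁ : (w : Matrix ι ι F) *ᵥ η₁ = η₁ := by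
    have h1 : (w : Matrix ι ι F) *ᵥ ((v : Matrix ι ι F) *ᵥ η) = (v : Matrix ι ι F) *ᵥ η := by
      rw [← gl_mul_mulVec, ← hvw, gl_mul_mulVec, hwη]
    rw [hvη, mulVec_add, mulVec_neg, hwη, mulVec_smul, add_right_inj] at h1
    exact smul_right_injective (ι → F) h2 h1
  have hz'η₁ : (z' : Matrix ι ι F) *ᵥ η₁ = -η₁ := by
    have h1 : (z' : Matrix ι ι F) *ᵥ ((v : Matrix ι ι F) *ᵥ η) = -((v : Matrix ι ι F) *ᵥ η) := by
      rw [← gl_mul_mulVec, hz'v, gl_mul_mulVec, hz'η, mulVec_neg]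
    rw [hvη, mulVec_add, mulVec_neg, hz'η, mulVec_smul, neg_add, add_right_inj, ← smul_neg] at h1
    exact smul_right_injective (ι → F) h2 h1
  have hη₁0 : η₁ = 0 := by
    rw [hη₁, hwd, kg_tvec, htd0] at hwη₁
    have hm := tvec_right_inj hd0 hwη₁
    rw [htd', rr_formula hf h2 hd'] at hm
    obtain ⟨ν, hν⟩ : ∃ ν : F, μv = ν • d' 0 := ⟨c'⁻¹ * f μv (d' 0), by
      refine smul_right_injective (Fin 3 → F) h2 ?_
      show (2 : F) • μv = (2 : F) • _
      linear_combination (norm := module) -hm⟩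
    rw [hη₁, hAB, kg_tvec, hAd, hν, mulVec_smul, hBd, smul_neg, TensorOO.tvec_neg_left, TensorOO.tvec_neg_right,
      neg_neg, ← hν, ← hη₁] at hz'η₁
    exact (smul_eq_zero.1 (show (2 : F) • η₁ = 0 by linear_combination (norm := module) hz'η₁)).resolve_left h2
  have hxy : (x : Matrix ι ι F) *ᵥ y = -y := by
    rw [hx, gl_mul_mulVec, gl_mul_mulVec, ← hη, hvη, hη₁0, smul_zero, add_zero, mulVec_neg, hη, gl_mulVec_inv]
  have hfin : (z : Matrix ι ι F) *ᵥ y = y := by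
    have hj : ∀ j : ℕ, (((x * u) ^ j : GL ι F) : Matrix ι ι F) *ᵥ y = y := fun j => by
      induction j with
      | zero => simp
      | succ j ih => rw [pow_succ, gl_mul_mulVec, gl_mul_mulVec, huy, mulVec_neg, hxy, neg_neg, ih]
    rw [hz]; exact hj n
  rw [hzy] at hfin
  have hy0 : y ≠ 0 := hy ▸ tvec_ne_zero hd2 hg'10
  exact hy0 ((smul_eq_zero.1 (show (2 : F) • y = 0 by linear_combination (norm := module) -hfin)).resolve_left h2)

/-- the overgroup lies in the wreath subgroup -/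
theorem Sq.le_wreath : M ≤ wreath e P := by
  intro g hg
  have D := S.oo
  have hf := D.s1
  have h2 := D.two
  obtain ⟨d, c, hd⟩ := exists_eframe hf h2
  obtain ⟨t, htd⟩ : ∃ t, t = rr hf (hd.aniso 1) (hd.aniso 2) := ⟨_, rfl⟩
  have ht : Std hf t := ⟨d, c, hd, htd⟩
  obtain ⟨v, hv⟩ : ∃ v, v = kg e P t (1 : GL (Fin 3) F) := ⟨_, rfl⟩
  obtain ⟨w, hw⟩ : ∃ w, w = kg e P t t := ⟨_, rfl⟩
  have hvP : S.Pure v := ⟨t, ht, Or.inl hv⟩
  have hwP : S.Pair w := ⟨t, t, ht, ht, hw⟩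
  obtain ⟨x, hx⟩ : ∃ x, x = g * v * g⁻¹ := ⟨_, rfl⟩
  have hxM : x ∈ M := hx ▸ mul_mem (mul_mem hg hvP.mem) (inv_mem hg)
  have hxx : x * x = 1 := by
    rw [hx, show g * v * g⁻¹ * (g * v * g⁻¹) = g * (v * v) * g⁻¹ by group, hvP.sq, mul_one, mul_inv_cancel]
  have hclM : Subgroup.closure ({x, w} : Set (GL ι F)) ≤ M := by
    rw [Subgroup.closure_le]
    rintro a (rfl | rfl)
    · exact hxM
    · exact hwP.mem
  rcases invol_pair_parity hxx hwP.sq with ⟨-, a, -, hxa⟩ | ⟨n, hn1, hn2, hnx, hnw, hpar⟩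
  · exfalso
    have h6 : Module.finrank F (negSp x) = 6 := by rw [hx, negSp_conj, hvP.negdim]
    rw [hxa, negSp_conj, hwP.negdim] at h6
    omega
  obtain ⟨z, hz⟩ : ∃ z, z = (x * w) ^ n := ⟨_, rfl⟩
  rw [← hz] at hn1 hn2 hnx hnw hpar
  have hzM : z ∈ M := hz ▸ pow_mem (mul_mem hxM hwP.mem) n
  have hzW : z ∈ wreath e P := S.pair_centralizer hwP hzM hnw
  obtain ⟨q, hq⟩ : ∃ q, q = z * w := ⟨_, rfl⟩
  rw [← hq] at hpar
  have hqM : q ∈ M := hq ▸ mul_mem hzM hwP.mem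
  have hqW : q ∈ wreath e P := hq ▸ mul_mem hzW (tensor_le_wreath (hw ▸ kg_mem t t))
  have hqw : q * w = w * q := by rw [hq, mul_assoc, hwP.sq, mul_one, ← mul_assoc, ← hnw, mul_assoc, hwP.sq, mul_one]
  have hzq : z = q * w := by rw [hq, mul_assoc, hwP.sq, mul_one]
  -- it suffices that `z` is one-sided or a product of two half-turns
  suffices hgood : S.Pure z ∨ S.Pair z by
    refine S.conj_mem hvP hg (hx ▸ ?_)
    rcases hgood with h | h
    · exact S.good h hxM hnx.symm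
    · exact S.pair_centralizer h hxM hnx.symm
  rcases hpar with ⟨-, a, ha, hqa⟩ | ⟨-, a, ha, hqa⟩
  swap
  · have hqP : S.Pure q := by
      rw [hqa, hx, show a * (g * v * g⁻¹) * a⁻¹ = a * g * v * (a * g)⁻¹ by group] at hqW ⊢
      exact S.pure_of_conj hvP (mul_mem (hclM ha) hg) hqW
    obtain ⟨σ, hσ, hqσ | hqσ⟩ := hqP
    · have hσt : σ * t = t * σ := by
        rw [hqσ, hw, TensorOO.kg_mul, TensorOO.kg_mul, one_mul, mul_one] at hqw
        refine kgL_inj3 (e := e) (P := P) (mul_right_cancel (b := kg e P (1 : GL (Fin 3) F) t) ?_)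
        rw [TensorOO.kg_mul, TensorOO.kg_mul, mul_one, mul_one, one_mul]
        exact hqw
      have hz' : z = kg e P (σ * t) t := by rw [hzq, hqσ, hw, TensorOO.kg_mul, one_mul]
      by_cases he : σ = t
      · exact Or.inl ⟨t, ht, Or.inr (by rw [hz', he, Std.sq hf ht])⟩
      · exact Or.inr ⟨_, _, Std.mul hf h2 ht hσ hσt he, ht, hz'⟩
    · have hσt : σ * t = t * σ := by
        rw [hqσ, hw, TensorOO.kg_mul, TensorOO.kg_mul, one_mul, mul_one] at hqw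
        refine kgR_inj3 (e := e) (P := P) (mul_left_cancel (a := kg e P t (1 : GL (Fin 3) F)) ?_)
        rw [TensorOO.kg_mul, TensorOO.kg_mul, mul_one, one_mul, one_mul]
        exact hqw
      have hz' : z = kg e P t (σ * t) := by rw [hzq, hqσ, hw, TensorOO.kg_mul, one_mul]
      by_cases he : σ = t
      · exact Or.inl ⟨t, ht, Or.inl (by rw [hz', he, Std.sq hf ht])⟩
      · exact Or.inr ⟨_, _, ht, Std.mul hf h2 ht hσ hσt he, hz'⟩
  obtain ⟨p, hp, hcp, hodd⟩ := D.exists_char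
  haveI := hcp
  haveI : Fact p.Prime := ⟨hp⟩
  have haM : a ∈ M := hclM ha
  have hqq : q * q = 1 := by
    rw [hqa, show a * w * a⁻¹ * (a * w * a⁻¹) = a * (w * w) * a⁻¹ by group, hwP.sq, mul_one, mul_inv_cancel]
  have hpull : ∀ y, q * y = y * q → (a⁻¹ * y * a) * w = w * (a⁻¹ * y * a) := fun y h => by
    rw [hqa] at h
    calc a⁻¹ * y * a * w = a⁻¹ * (y * (a * w * a⁻¹)) * a := by group
      _ = a⁻¹ * (a * w * a⁻¹ * y) * a := by rw [← h]
      _ = w * (a⁻¹ * y * a) := by group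
  have hqT : q ∈ tensorProductSubgroup 3 3 e P := by
    obtain ⟨A, B, hA, hB, he | he⟩ := S.wreath_data (D.le_iso hqM) hqW
    · exact he ▸ kg_mem A B
    exfalso
    obtain ⟨y, hyM, -, hy1, hyq, hyp⟩ := S.exists_diag hA (he ▸ hqq)
    rw [← he] at hyq
    obtain ⟨y', hy'⟩ : ∃ y', y' = a⁻¹ * y * a := ⟨_, rfl⟩
    have hy'w : y' * w = w * y' := hy' ▸ hpull y hyq
    have hy'M : y' ∈ M := hy' ▸ mul_mem (mul_mem (inv_mem haM) hyM) haM
    have hy'p : y' ^ p = 1 := by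
      rw [hy', show a⁻¹ * y * a = a⁻¹ * y * a⁻¹⁻¹ by rw [inv_inv], conj_pow, hyp p hp hcp, mul_one, mul_inv_cancel]
    obtain ⟨A', B', hA', hB', hA'p, hB'p, hAB'⟩ :=
      S.pdata hy'M (wreath_odd (S.pair_centralizer hwP hy'M hy'w) hodd hy'p) hy'p
    have hconj : y' * w * y'⁻¹ = w := by rw [hy'w, mul_inv_cancel_right]
    rw [hAB', hw, kg_conj] at hconj
    obtain ⟨e1, e2⟩ := kg_std_inj hf h2 (Std.conj hf ht hA') ht hconj
    refine hy1 ?_
    have h1 : y' = 1 := by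
      rw [hAB', std_comm_p hf h2 ht hA' hA'p (mul_inv_eq_iff_eq_mul.1 e1.symm),
        std_comm_p hf h2 ht hB' hB'p (mul_inv_eq_iff_eq_mul.1 e2), kg_one]
    rw [hy'] at h1
    calc y = a * (a⁻¹ * y * a) * a⁻¹ := by group
      _ = 1 := by rw [h1, mul_one, mul_inv_cancel]
  obtain ⟨A, B, hA, hB, hAB⟩ := iso_data D (D.le_iso hqM) hqT
  have haW : a ∈ wreath e P := by
    have hqwq : q * w * q⁻¹ = w := by rw [hqw, mul_inv_cancel_right]
    rw [hAB, hw, kg_conj] at hqwq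
    obtain ⟨e1, -⟩ := kg_std_inj hf h2 (Std.conj hf ht hA) ht hqwq
    have hqv : q * v = v * q := by
      rw [hAB, hv, TensorOO.kg_mul, TensorOO.kg_mul, mul_one, one_mul, mul_inv_eq_iff_eq_mul.1 e1.symm]
    have h1 := S.pair_centralizer hwP (mul_mem (mul_mem (inv_mem haM) hvP.mem) haM) (hpull v hqv)
    have h3 := S.conj_mem hvP (inv_mem haM) (by rwa [inv_inv])
    simpa using inv_mem h3
  obtain ⟨σ₁, σ₂, hσ₁, hσ₂, hqσ⟩ : S.Pair q := hqa ▸ Sq.Pair.conj S hwP haM haW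
  have hqwq : q * w * q⁻¹ = w := by rw [hqw, mul_inv_cancel_right]
  rw [hqσ, hw, kg_conj] at hqwq
  obtain ⟨e1, e2⟩ := kg_std_inj hf h2 (Std.conj hf ht (Std.isom hf hσ₁)) ht hqwq
  have c1 : σ₁ * t = t * σ₁ := mul_inv_eq_iff_eq_mul.1 e1.symm
  have c2 : σ₂ * t = t * σ₂ := mul_inv_eq_iff_eq_mul.1 e2
  have hz' : z = kg e P (σ₁ * t) (σ₂ * t) := by rw [hzq, hqσ, hw, TensorOO.kg_mul]
  by_cases he1 : σ₁ = t
  · by_cases he2 : σ₂ = t
    · exact absurd (by rw [hz', he1, he2, Std.sq hf ht, kg_one]) hn1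
    · exact Or.inl ⟨_, Std.mul hf h2 ht hσ₂ c2 he2, Or.inr (by rw [hz', he1, Std.sq hf ht])⟩
  · by_cases he2 : σ₂ = t
    · exact Or.inl ⟨_, Std.mul hf h2 ht hσ₁ c1 he1, Or.inl (by rw [hz', he2, Std.sq hf ht])⟩
    · exact Or.inr ⟨_, _, Std.mul hf h2 ht hσ₁ c1 he1, Std.mul hf h2 ht hσ₂ c2 he2, hz'⟩

end CfsgLib.Perm.Trans.TensorSquare
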