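import Mathlib
import Cfsg.Agent.Lib.Perm.Trans.TensorSquare.Endgame

/-!
# The tensor square subgroup is maximal in `Ω`
-/

set_option autoImplicit false
set_option linter.all false

namespace CfsgLib.Perm.Trans.TensorSquare

open scoped Matrix Kronecker
open Matrix Cfsg.Geo CfsgLib.Perm.Asch CfsgLib.Perm.Trans CfsgLib.Perm.Trans.TensorFrame
open CfsgLib.Perm.Trans.TensorMax CfsgLib.Perm.Trans.Quad CfsgLib.Perm.Trans.TensorSO CfsgLib.Perm.Trans.TensorOO

variable {ι : Type} [Fintype ι] [DecidableEq ι] {F : Type*} [Field F]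

/-- the pairs as functions on two points -/
def pairEquiv (e : ι ≃ (Fin 2 → Fin 3)) : ι ≃ Fin 3 × Fin 3 := e.trans (finTwoArrowEquiv (Fin 3))

theorem pure_eq_kg (e : ι ≃ (Fin 2 → Fin 3)) (P : GL ι F) {g : GL (Fin 2 → Fin 3) F} {A B : GL (Fin 3) F}
    (hg : ∀ x y, (g : Matrix (Fin 2 → Fin 3) (Fin 2 → Fin 3) F) x y =
      (A : Matrix (Fin 3) (Fin 3) F) (x 0) (y 0) * (B : Matrix (Fin 3) (Fin 3) F) (x 1) (y 1)) :
    MulAut.conj P (glReindex e.symm g) = kg (pairEquiv e) P A B := by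
  rw [MulAut.conj_apply, kg]
  congr 2
  refine Units.ext (Matrix.ext fun i j => ?_)
  show (g : Matrix (Fin 2 → Fin 3) (Fin 2 → Fin 3) F) (e i) (e j) =
    ((A : Matrix (Fin 3) (Fin 3) F) ⊗ₖ (B : Matrix (Fin 3) (Fin 3) F)) (pairEquiv e i) (pairEquiv e j)
  rw [hg, Matrix.kroneckerMap_apply]
  rfl

theorem perm_eq_tau (e : ι ≃ (Fin 2 → Fin 3)) (P : GL ι F) {g : GL (Fin 2 → Fin 3) F}
    (hg : ∀ x y, (g : Matrix (Fin 2 → Fin 3) (Fin 2 → Fin 3) F) x y = if y = x ∘ Equiv.swap (0 : Fin 2) 1 then 1 else 0) :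
    MulAut.conj P (glReindex e.symm g) = tau (pairEquiv e) P := by
  refine gl_ext_tvec (e := pairEquiv e) (P := P) fun x y => ?_
  rw [MulAut.conj_apply, gl_mul_mulVec, gl_mul_mulVec, tau_tvec, tvec, gl_inv_mulVec, tvec]
  congr 1
  rw [show ((glReindex e.symm g : GL ι F) : Matrix ι ι F) =
      (g : Matrix (Fin 2 → Fin 3) (Fin 2 → Fin 3) F).submatrix e e from rfl, Matrix.submatrix_mulVec_equiv]
  funext i
  show ((g : Matrix (Fin 2 → Fin 3) (Fin 2 → Fin 3) F) *ᵥ _) (e i) = y (e i 0) * x (e i 1)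
  rw [Matrix.mulVec, dotProduct, Finset.sum_eq_single (e i ∘ Equiv.swap (0 : Fin 2) 1)]
  · rw [hg, if_pos rfl, one_mul, Function.comp_apply, Function.comp_apply]
    show x ((e (e.symm (e i ∘ Equiv.swap (0 : Fin 2) 1))) 0) * y ((e (e.symm (e i ∘ Equiv.swap (0 : Fin 2) 1))) 1) = _
    rw [Equiv.apply_symm_apply]
    simp [mul_comm]
  · intro b _ hb
    rw [hg, if_neg hb, zero_mul]
  · simp

theorem wreath_eq (e : ι ≃ (Fin 2 → Fin 3)) (P : GL ι F) :
    tensorWreathSubgroup 3 2 e P = wreath (pairEquiv e) P := by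
  refine le_antisymm ?_ fun g hg => ?_
  · rw [tensorWreathSubgroup, tensorWreathStandard, Subgroup.map_map, MonoidHom.map_closure, Subgroup.closure_le]
    rintro _ ⟨g, (⟨gs, hgs⟩ | ⟨σ, hσ⟩), rfl⟩
    · refine tensor_le_wreath ?_
      show MulAut.conj P (glReindex e.symm g) ∈ _
      rw [pure_eq_kg e P (A := gs 0) (B := gs 1) fun x y => by rw [hgs, Fin.prod_univ_two]]
      exact kg_mem _ _
    · show MulAut.conj P (glReindex e.symm g) ∈ _
      have hcase : σ = 1 ∨ σ = Equiv.swap 0 1 :=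
        (by decide : ∀ τ : Equiv.Perm (Fin 2), τ = 1 ∨ τ = Equiv.swap 0 1) σ
      rcases hcase with rfl | rfl
      · rw [show g = 1 from Units.ext (Matrix.ext fun x y => by
          rw [hσ, Units.val_one, Matrix.one_apply]; simp [eq_comm]), map_one, map_one]
        exact one_mem _
      · rw [perm_eq_tau e P hσ]
        exact tau_mem_wreath
  · have hkg : ∀ A B, kg (pairEquiv e) P A B ∈ tensorWreathSubgroup 3 2 e P := by
      intro A B
      let g : GL (Fin 2 → Fin 3) F := glReindex (finTwoArrowEquiv (Fin 3)).symm (kr A B)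
      have hg : ∀ x y, (g : Matrix (Fin 2 → Fin 3) (Fin 2 → Fin 3) F) x y =
          (A : Matrix (Fin 3) (Fin 3) F) (x 0) (y 0) * (B : Matrix (Fin 3) (Fin 3) F) (x 1) (y 1) := fun x y => rfl
      rw [← pure_eq_kg e P hg]
      refine ⟨_, ⟨g, Subgroup.subset_closure (Or.inl ⟨![A, B], fun x y => ?_⟩), rfl⟩, rfl⟩
      rw [hg, Fin.prod_univ_two]
      rfl
    have htau : tau (pairEquiv e) P ∈ tensorWreathSubgroup 3 2 e P := by
      let L : ((Fin 2 → Fin 3) → F) →ₗ[F] ((Fin 2 → Fin 3) → F) :=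
        LinearMap.funLeft F F fun a => a ∘ Equiv.swap (0 : Fin 2) 1
      have hLL : Function.Injective L := LinearMap.funLeft_injective_of_surjective _ _ _ fun a =>
        ⟨a ∘ Equiv.swap (0 : Fin 2) 1, by funext i; simp⟩
      obtain ⟨g, hgd⟩ : ∃ g, g = glInj L hLL := ⟨_, rfl⟩
      have hg : ∀ x y, (g : Matrix (Fin 2 → Fin 3) (Fin 2 → Fin 3) F) x y =
          if y = x ∘ Equiv.swap (0 : Fin 2) 1 then 1 else 0 := fun x y => by
        have h := congrFun (glInj_mulVec L hLL (Pi.single y 1)) x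
        rw [← hgd, Matrix.mulVec_single_one] at h
        rw [Matrix.col_apply] at h
        rw [h]
        show (Pi.single y 1 : (Fin 2 → Fin 3) → F) (x ∘ Equiv.swap (0 : Fin 2) 1) = _
        rw [Pi.single_apply]
        simp [eq_comm]
      rw [← perm_eq_tau e P hg]
      exact ⟨_, ⟨g, Subgroup.subset_closure (Or.inr ⟨_, hg⟩), rfl⟩, rfl⟩
    rcases hg with h | h
    · obtain ⟨A, B, rfl⟩ := exists_kg h
      exact hkg A B
    · obtain ⟨A, B, hAB⟩ := exists_kg h
      have := mul_mem (hkg A B) htau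
      rwa [← hAB, mul_assoc, tau_sq, mul_one] at this

variable [Fintype F] {e : ι ≃ Fin 3 × Fin 3} {P : GL ι F}
variable {Q : (ι → F) → F} {f : (Fin 3 → F) → (Fin 3 → F) → F} {k : F}

/-- `Ω` does not lie in the wreath subgroup -/
theorem not_wreath {M : Subgroup (GL ι F)} (D : OO Q f f e P k M) : ¬ omegaGL Q ≤ wreath e P := fun hle => by
  refine D.not_tensor ?_
  rw [omegaGL_eq D.hQ D.hn, eGroup, Subgroup.closure_le]
  rintro g ⟨-, u, a, hu, hua, hg⟩
  have hua' : QuadraticMap.polar Q u ((2 : F)⁻¹ • a) = 0 := by rw [psmul_right D.hQ, hua, mul_zero]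
  obtain ⟨h, hh, hhE⟩ := ein_omega D.hQ D.hn hu hua'
  have e1 := IsE.mul D.hQ hu hua' hua' hhE hhE
  rw [← add_smul, show (2 : F)⁻¹ + 2⁻¹ = 1 by have := D.two; field_simp; norm_num, one_smul] at e1
  rw [hg.unique e1]
  rcases hle hh with hT | hT
  · exact mul_mem hT hT
  · have := mul_mem hT (tau_conj_mem hT)
    rwa [show h * tau e P * (tau e P * (h * tau e P) * tau e P) =
      h * (tau e P * tau e P) * h * (tau e P * tau e P) by group, tau_sq, mul_one, mul_one] at this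

/-- the stabiliser of a tensor square of a three-dimensional orthogonal space is maximal in `Ω` -/
theorem orth_square_maximal (e : ι ≃ (Fin 2 → Fin 3)) (P : GL ι F) (hQ : IsNondegenerateQuadraticForm Q)
    (htwo : (2 : F) ≠ 0) (hex : ∃ t : F, t ≠ 0 ∧ t * t ≠ 1) (hf : IsSymmetricForm f)
    (hT : IsTensorPowerFormStructure id (QuadraticMap.polar Q) f e P) :
    IsMaximalIn (omegaGL Q) (tensorWreathSubgroup 3 2 e P ⊓ omegaGL Q) := by
  rw [wreath_eq]
  have hT' : IsTensorFormStructure id (QuadraticMap.polar Q) f f (pairEquiv e) P := by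
    obtain ⟨c, hc, h⟩ := hT
    refine ⟨c, hc, fun x y => ?_⟩
    have h' := h (x ∘ finTwoArrowEquiv (Fin 3)) (y ∘ finTwoArrowEquiv (Fin 3))
    rw [show (x ∘ finTwoArrowEquiv (Fin 3)) ∘ e = x ∘ pairEquiv e from rfl,
      show (y ∘ finTwoArrowEquiv (Fin 3)) ∘ e = y ∘ pairEquiv e from rfl] at h'
    rw [h', formOfGram, ← (finTwoArrowEquiv (Fin 3)).sum_comp]
    congr 1
    refine Finset.sum_congr rfl fun a _ => ?_
    rw [← (finTwoArrowEquiv (Fin 3)).sum_comp]
    refine Finset.sum_congr rfl fun b _ => ?_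
    rw [Matrix.kroneckerMap_apply, Fin.prod_univ_two]
    rfl
  obtain ⟨k, hk, hpol⟩ := tvec_form (σ := id) (fun a b => rfl) (sesq_of_bilinear hf.bilinear)
    (sesq_of_bilinear hf.bilinear) hT'
  have base : ∀ M : Subgroup (GL ι F), wreath (pairEquiv e) P ⊓ omegaGL Q ≤ M → M ≤ omegaGL Q →
      OO Q f f (pairEquiv e) P k M := fun M hHM hM =>
    ⟨hQ, hf, hf, htwo, hk, le_rfl, le_rfl, Or.inl (by omega), Or.inl (by omega), Or.inr hex, Or.inr hex, hpol, hM,
      le_trans (inf_le_inf_right _ tensor_le_wreath) hHM⟩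
  refine ⟨lt_of_le_of_ne inf_le_right fun h => ?_, fun M hHM hM => ?_⟩
  · exact not_wreath (base _ inf_le_right le_rfl) (h ▸ inf_le_left)
  by_cases hfull : omegaGL Q ≤ M
  · exact Or.inr (le_antisymm hM hfull)
  have S : Sq Q f (pairEquiv e) P k M := ⟨base M hHM hM, hHM, hfull⟩
  exact Or.inl (le_antisymm (le_inf S.le_wreath hM) hHM)

end CfsgLib.Perm.Trans.TensorSquare
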